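import Cfsg.Agent.Lib.Fusion.RankThreeAutomizer
import Cfsg.Agent.Lib.Fusion.RankThreeRadical
import Cfsg.Agent.Lib.Fusion.CenterPowers

/-!
# Normal essential subgroups when the sectional rank is at most three

A normal essential subgroup has index `p`; the elements of `S` give a Sylow subgroup of its automizer;
subgroups invariant in all automizers vanish in a core-free system.
-/

set_option autoImplicit false

namespace CfsgLib.Fusion.NormalEssential

open Cfsg Cfsg.FusionSystem CfsgLib CfsgLib.Fusion CfsgLib.Fusion.RankThree CfsgLib.Fusion.TransvAut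
open scoped commutatorElement

variable {p : ℕ} [hp : Fact p.Prime] {Ω : Type*} [Group Ω] {S : Subgroup Ω} [Finite S]
  {F : FusionSystem S} {E : Subgroup Ω}

omit [Finite S] in
theorem normalizerIn_eq (hn : S ≤ Subgroup.normalizer (E : Set Ω)) : normalizerIn S E = S :=
  inf_of_le_left hn

omit [Finite S] in
theorem conj_mem_E (hn : S ≤ Subgroup.normalizer (E : Set Ω)) {s : Ω} (hs : s ∈ S) {e : Ω}
    (he : e ∈ E) : s * e * s⁻¹ ∈ E :=
  (Subgroup.mem_normalizer_iff.1 (hn hs) e).1 he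

/-- Conjugation by the elements of `S` on a normal subgroup. -/
noncomputable def toAut (F : FusionSystem S) (hES : E ≤ S) (hn : S ≤ Subgroup.normalizer (E : Set Ω)) :
    S →* F.autGroup E :=
  ((E.normalizerMonoidHom.comp (Subgroup.inclusion inf_le_right)).codRestrict (F.autGroup E)
    fun g : normalizerIn S E => conjAut_mem_autGroup hES g).comp
      (Subgroup.inclusion (normalizerIn_eq hn).ge)

omit [Finite S] in
theorem toAut_apply (hES : E ≤ S) (hn : S ≤ Subgroup.normalizer (E : Set Ω)) (s : S) (e : E) :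
    ((((toAut F hES hn s : F.autGroup E) : MulAut E) e : E) : Ω) = (s : Ω) * e * (s : Ω)⁻¹ := rfl

theorem toAut_inn_iff (hE : F.IsEssential p E) (hn : S ≤ Subgroup.normalizer (E : Set Ω)) (s : S) :
    ((toAut F hE.1.1 hn s : F.autGroup E) : MulAut E) ∈ Inn E ↔ (s : Ω) ∈ E := by
  refine ⟨fun h => mem_of_conjAut_inn hE.1 ⟨(s : Ω), s.2, hn s.2⟩ h, fun h => ?_⟩
  exact ⟨⟨s, h⟩, MulEquiv.ext fun e => Subtype.ext rfl⟩

/-- The Sylow subgroup of the automizer given by `S`. -/
theorem exists_sylow (hS : IsPGroup p S) (hF : F.IsSaturated p) (hE : F.IsEssential p E)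
    (hn : S ≤ Subgroup.normalizer (E : Set Ω)) :
    ∃ T : Sylow p (F.autGroup E), (∀ t ∈ (T : Subgroup (F.autGroup E)),
        ∃ s, toAut F hE.1.1 hn s = t) ∧
      ∀ s, toAut F hE.1.1 hn s ∈ (T : Subgroup (F.autGroup E)) := by
  obtain ⟨T, hT⟩ := (IsSaturated.fullyAutomized hS hF hE.2.1).2
  refine ⟨T, fun t ht => ?_, fun s => ?_⟩
  · obtain ⟨g, hg, hga⟩ := mem_autInducedBy_iff.1
      (Subgroup.mem_subgroupOf.1 (hT.le ht) : (t : MulAut E) ∈ autInducedBy S E)
    exact ⟨⟨g, hg⟩, Subtype.ext (MulEquiv.ext fun e => Subtype.ext (hga e).symm)⟩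
  · exact hT.ge (Subgroup.mem_subgroupOf.2 (mem_autInducedBy_iff.2 ⟨s, s.2, fun e => rfl⟩))

/-- A normal `p`-subgroup of the automizer is inner. -/
theorem inn_of_normal (hS : IsPGroup p S) (hE : F.IsEssential p E) {N : Subgroup (F.autGroup E)}
    (hN : N.Normal) (hNp : IsPGroup p N) {σ : F.autGroup E} (hσ : σ ∈ N) : (σ : MulAut E) ∈ Inn E :=
  Subgroup.mem_subgroupOf.1
    ((isRadical_iff_le hS hE.1.1).1 (IsEssential.isRadical hS hE) (Core.le_pCore hNp hσ))

/-- The Frattini quotient has order at most `p³`. -/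
theorem index_frattini_le (hS : IsPGroup p S) (hsr : SecLE p S) (hES : E ≤ S) :
    (frattini E).index ≤ p ^ 3 := by
  have := finite_le hES
  have hEp : IsPGroup p E := hS.to_le hES
  have h := hsr.of_injective _ (Subgroup.inclusion_injective hES) ⊤ (frattini E) le_top
    (fun a _ b hb => (inferInstance : (frattini E).Normal).conj_mem b hb a)
    (fun a _ b _ => PGroups.commutator_le_frattini' hEp
      (Subgroup.commutator_mem_commutator trivial trivial))
    (fun a _ => PGroups.pow_mem_frattini hEp a)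
  rw [Subgroup.card_top, ← (frattini E).card_mul_index, mul_comm (Nat.card _)] at h
  exact Nat.le_of_mul_le_mul_right h Nat.card_pos

/-- A normal essential subgroup has index `p`. -/
theorem card_eq (hS : IsPGroup p S) (hsr : SecLE p S) (hF : F.IsSaturated p)
    (hE : F.IsEssential p E) (hn : S ≤ Subgroup.normalizer (E : Set Ω)) :
    Nat.card S = p * Nat.card E := by
  have hp' := hp.out
  have hES := hE.1.1
  have := finite_le hES
  have := finite_mulAut_of_le (S := S) hES
  have hEp : IsPGroup p E := hS.to_le hES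
  obtain ⟨j, hj⟩ : ∃ j, (frattini E).index = p ^ j := by
    haveI : (frattini E).FiniteIndex := inferInstance
    exact hEp.index (frattini E)
  have hj3 := index_frattini_le hS hsr hES
  rw [hj] at hj3
  have hj3' : j ≤ 3 := (Nat.pow_le_pow_iff_right hp'.one_lt).1 hj3
  by_cases h3 : j = 3
  · have h := RankThree.card_normalizerIn hS hF hE (by rw [hj, h3])
    rwa [normalizerIn_eq hn] at h
  let f : S →* MulAut (E ⧸ frattini E) := (outAut F E).comp (toAut F hES hn)
  have hker : f.ker = E.subgroupOf S := by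
    ext s
    rw [Subgroup.mem_subgroupOf, ← toAut_inn_iff hE hn s]
    exact ⟨fun h => outAut_ker hS hE h, fun h => outAut_inn hS hES h⟩
  have hcard : Nat.card S = Nat.card f.range * Nat.card E := by
    rw [f.ker.card_eq_card_quotient_mul_card_subgroup,
      Nat.card_congr (QuotientGroup.quotientKerEquivRange f).toEquiv, hker,
      Nat.card_congr (Subgroup.subgroupOfEquivOfLe hES).toEquiv]
  have hne : f.range ≠ ⊥ := fun h => isEssential_ne_self hS hF hE (le_antisymm hES fun s hs => by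
    have h1 : (⟨s, hs⟩ : S) ∈ f.ker := Subgroup.mem_bot.1 (h ▸ MonoidHom.mem_range.2 ⟨_, rfl⟩)
    exact Subgroup.mem_subgroupOf.1 (hker ▸ h1))
  have hrp : IsPGroup p f.range := hS.of_surjective _ f.rangeRestrict_surjective
  letI : CommGroup (E ⧸ frattini E) :=
    { (inferInstance : Group (E ⧸ frattini E)) with mul_comm := quot_comm hEp }
  have hexp : ∀ v : E ⧸ frattini E, v ^ p = 1 := quot_pow hEp
  have hVc : Nat.card (E ⧸ frattini E) = p ^ j := hj
  obtain ⟨⟨σ, hσ⟩, hσ1'⟩ := Subgroup.ne_bot_iff_exists_ne_one.1 hne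
  have hσ1 : σ ≠ 1 := fun e => hσ1' (Subtype.ext e)
  obtain ⟨k, hk⟩ := hrp ⟨σ, hσ⟩
  have hk' : σ ^ p ^ k = 1 := congrArg Subtype.val hk
  by_cases h2 : j = 2
  · rw [h2] at hVc
    obtain ⟨a₀, -, himg⟩ := exists_img_of_sq hexp hVc hk'
    have hfix := fix_of_img hexp himg hk'
    have hσp : σ ^ p = 1 := MulEquiv.ext fun v => by
      obtain ⟨i, hi⟩ := Subgroup.mem_zpowers_iff.1 (himg v)
      rw [MulAut.one_apply]
      exact PGroups.Transvections.pow_fix (v := a₀ ^ i)
        (by rw [hi, mul_comm v, inv_mul_cancel_right]) (by rw [map_zpow, hfix]) (hexp _)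
    have hle := Subgroup.card_le_of_le (le_zpowers_of_sq hexp hVc hrp hσ hσ1)
    rw [Nat.card_zpowers, orderOf_eq_prime hσp hσ1] at hle
    obtain ⟨i, hi⟩ := IsPGroup.iff_card.1 hrp
    have hi0 : i ≠ 0 := fun h0 => hne (Subgroup.eq_bot_of_card_eq _ (by rw [hi, h0, pow_zero]))
    rw [hi] at hle
    rw [hcard, hi, show i = 1 by
      have := (Nat.pow_le_pow_iff_right hp'.one_lt).1 (hle.trans (pow_one p).ge); omega, pow_one]
  -- a group of order at most `p` has no automorphism of order `p`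
  · exfalso
    refine hσ1 (MulEquiv.ext fun v => ?_)
    obtain ⟨a, ha⟩ : ∃ a, a = v := ⟨_, rfl⟩
    rw [MulAut.one_apply]
    rcases eq_or_ne v 1 with rfl | hv
    · exact map_one _
    have hj1 : j = 1 := by
      by_contra h1
      have hc1 : Nat.card (E ⧸ frattini E) = 1 := by rw [hVc, show j = 0 by omega, pow_zero]
      have := (Nat.card_eq_one_iff_unique.1 hc1).1
      exact hv (Subsingleton.elim _ _)
    obtain ⟨i, hi⟩ := Subgroup.mem_zpowers_iff.1
      (mem_zpowers_of_prime_card (g := v) (g' := σ v) (by rw [hVc, hj1, pow_one]) hv)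
    have h := shift_mem σ (D := (⊥ : Subgroup (E ⧸ frattini E)))
      (fun x hx => by rw [Subgroup.mem_bot] at hx ⊢; rw [hx, map_one])
      (b := v) (by rw [hexp]; exact one_mem _) hk' (j := i) (by
        rw [hi, mul_inv_cancel]; exact one_mem _)
    rwa [Subgroup.mem_bot, mul_inv_eq_one] at h

/-- What a normal essential subgroup gives. -/
structure Step (p : ℕ) (S E : Subgroup Ω) : Prop where
  le : E ≤ S
  norm : S ≤ Subgroup.normalizer (E : Set Ω)
  card : Nat.card S = p * Nat.card E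

theorem step (hS : IsPGroup p S) (hsr : SecLE p S) (hF : F.IsSaturated p)
    (hE : F.IsEssential p E) (hn : S ≤ Subgroup.normalizer (E : Set Ω)) : Step p S E :=
  ⟨hE.1.1, hn, card_eq hS hsr hF hE hn⟩

theorem Step.gen (hd : Step p S E) {x : Ω} (hx : x ∈ S) (hxE : x ∉ E) {g : Ω} (hg : g ∈ S) :
    ∃ e ∈ E, ∃ i : ℤ, g = e * x ^ i := by
  haveI hN : (E.subgroupOf S).Normal := (Subgroup.normal_subgroupOf_iff_le_normalizer hd.le).2 hd.norm
  have hi : (E.subgroupOf S).index = p := by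
    have h := (E.subgroupOf S).card_mul_index
    rw [Nat.card_congr (Subgroup.subgroupOfEquivOfLe hd.le).toEquiv, hd.card, mul_comm p] at h
    have := finite_le hd.le
    exact Nat.eq_of_mul_eq_mul_left Nat.card_pos h
  have hc : Nat.card (S ⧸ E.subgroupOf S) = p := hi
  obtain ⟨i, hi'⟩ := Subgroup.mem_zpowers_iff.1 (mem_zpowers_of_prime_card hc
    (g := QuotientGroup.mk' (E.subgroupOf S) ⟨x, hx⟩)
    (g' := QuotientGroup.mk' (E.subgroupOf S) ⟨g, hg⟩)
    (fun h => hxE (Subgroup.mem_subgroupOf.1 ((QuotientGroup.eq_one_iff _).1 h))))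
  rw [← map_zpow] at hi'
  have h2 := Subgroup.mem_subgroupOf.1 (QuotientGroup.eq.1 hi')
  have h3 : x ^ i * ((x ^ i)⁻¹ * g) * (x ^ i)⁻¹ ∈ E := by
    refine conj_mem_E hd.norm (zpow_mem hx i) ?_
    simpa using h2
  exact ⟨_, h3, i, by group⟩

theorem Step.pow_mem (hd : Step p S E) {g : Ω} (hg : g ∈ S) : g ^ p ∈ E := by
  haveI hN : (E.subgroupOf S).Normal := (Subgroup.normal_subgroupOf_iff_le_normalizer hd.le).2 hd.norm
  have h := (E.subgroupOf S).card_mul_index
  rw [Nat.card_congr (Subgroup.subgroupOfEquivOfLe hd.le).toEquiv, hd.card, mul_comm p] at h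
  have := finite_le hd.le
  have hi := Nat.eq_of_mul_eq_mul_left Nat.card_pos h
  have h1 : ((⟨g, hg⟩ : S) ^ (E.subgroupOf S).index) ∈ E.subgroupOf S :=
    (E.subgroupOf S).pow_index_mem _
  rw [hi] at h1
  simpa using Subgroup.mem_subgroupOf.1 h1

theorem Step.comm_mem (hd : Step p S E) {g h : Ω} (hg : g ∈ S) (hh : h ∈ S) :
    g * h * g⁻¹ * h⁻¹ ∈ E := by
  by_cases hgE : g ∈ E
  · rw [show g * h * g⁻¹ * h⁻¹ = g * (h * g⁻¹ * h⁻¹) by group]
    exact mul_mem hgE (conj_mem_E hd.norm hh (inv_mem hgE))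
  obtain ⟨e, he, i, rfl⟩ := hd.gen hg hgE hh
  rw [show g * (e * g ^ i) * g⁻¹ * (e * g ^ i)⁻¹ = (g * e * g⁻¹) * e⁻¹ by group]
  exact mul_mem (conj_mem_E hd.norm hg he) (inv_mem he)

theorem Step.dvd_of_zpow_mem (hd : Step p S E) {x : Ω} (hx : x ∈ S) (hxE : x ∉ E) {i : ℤ}
    (hi : x ^ i ∈ E) : (p : ℤ) ∣ i := by
  by_contra h
  obtain ⟨u, v, huv⟩ :=
    ((Nat.prime_iff_prime_int.1 hp.out).coprime_iff_not_dvd.2 h : IsCoprime (p : ℤ) i)
  refine hxE ?_
  have hxp : x ^ (p : ℤ) ∈ E := by rw [zpow_natCast]; exact hd.pow_mem hx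
  rw [show x = x ^ (u * (p : ℤ) + v * i) by rw [huv, zpow_one], zpow_add, mul_comm u, zpow_mul,
    mul_comm v, zpow_mul]
  exact mul_mem (zpow_mem hxp u) (zpow_mem hi v)

/-- A subgroup invariant in every automizer is trivial in a core-free system. -/
theorem eq_bot_of_invariant (hS : IsPGroup p S) (hF : F.IsSaturated p) (hO : F.core = ⊥)
    {K : Subgroup Ω} (hKS : K ≤ S)
    (hA : ∀ φ ∈ F.autGroup S, ∀ x : S, (x : Ω) ∈ K → ((φ x : S) : Ω) ∈ K)
    (hP : ∀ P : Subgroup Ω, F.IsEssential p P → K ≤ P ∧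
      ∀ α ∈ F.autGroup P, ∀ x : P, (x : Ω) ∈ K → ((α x : P) : Ω) ∈ K) : K = ⊥ := by
  refine le_bot_iff.1 (hO ▸ le_core (isNormal_of_invariant hS hF fun P h => ?_))
  rcases h with rfl | h
  · exact ⟨hKS, fun α hα => map_subgroupOf_eq le_rfl (by
      rintro _ ⟨x, hx, rfl⟩; exact hA α hα x hx)⟩
  · exact ⟨(hP P h).1, fun α hα => map_subgroupOf_eq h.1.1 (by
      rintro _ ⟨x, hx, rfl⟩; exact (hP P h).2 α hα x hx)⟩

/-- No nontrivial subgroup is invariant in `Aut_F(S)` and in the automizers of the members of `ℰ`. -/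
def Reduced (F : FusionSystem S) (ℰ : Subgroup Ω → Prop) : Prop :=
  ∀ K : Subgroup Ω, K ≤ S → (∀ φ ∈ F.autGroup S, ∀ x : S, (x : Ω) ∈ K → ((φ x : S) : Ω) ∈ K) →
    (∀ P : Subgroup Ω, ℰ P → K ≤ P ∧
      ∀ α ∈ F.autGroup P, ∀ x : P, (x : Ω) ∈ K → ((α x : P) : Ω) ∈ K) → K = ⊥

variable (p) in
/-- A family of essential subgroups seeing that the core is trivial. -/
structure Family (F : FusionSystem S) (ℰ : Subgroup Ω → Prop) : Prop where
  ess : ∀ P : Subgroup Ω, ℰ P → F.IsEssential p P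
  reduced : Reduced F ℰ

theorem family_of_core (hS : IsPGroup p S) (hF : F.IsSaturated p) (hO : F.core = ⊥) :
    Family p F (F.IsEssential p) :=
  ⟨fun _ h => h, fun _ hK hA hP => eq_bot_of_invariant hS hF hO hK hA hP⟩

/-- A system with an essential subgroup and sectional rank above two has order above `p³`. -/
theorem lt_card (hS : IsPGroup p S) (hF : F.IsSaturated p) (h2 : ¬ SectionalPRankLE p 2 ↥S)
    (hE : F.IsEssential p E) : p ^ 3 < Nat.card S := by
  have hp' := hp.out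
  by_contra hle
  push Not at hle
  simp only [SectionalPRankLE, PRankLE] at h2
  push Not at h2
  obtain ⟨H, N, hN, A, hAc, -, hA⟩ := h2
  have h1 := Subgroup.card_mul_index (H := A)
  have hpow : ∃ k, Nat.card A = p ^ k :=
    ((hS.to_subgroup H).to_quotient N |>.to_subgroup A).exists_card_eq
  obtain ⟨k, hk⟩ := hpow
  have hk3 : p ^ 3 ≤ Nat.card A := by
    rw [hk] at hA ⊢
    exact Nat.pow_le_pow_right hp'.pos ((Nat.pow_lt_pow_iff_right hp'.one_lt).1 hA)
  have hQ : Nat.card A ≤ Nat.card (H ⧸ N) := Subgroup.card_le_card_group A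
  have hH : Nat.card H = Nat.card (H ⧸ N) * Nat.card N := N.card_eq_card_quotient_mul_card_subgroup
  have hHS : Nat.card H ≤ Nat.card S := Subgroup.card_le_card_group H
  have hN1 : 0 < Nat.card N := Nat.card_pos
  have hge : Nat.card (H ⧸ N) ≤ Nat.card H := hH ▸ Nat.le_mul_of_pos_right _ hN1
  have eA : A = ⊤ := Subgroup.eq_top_of_le_card A (by omega)
  have eH : H = ⊤ := Subgroup.eq_top_of_le_card H (by omega)
  have eN : N = ⊥ := Subgroup.eq_bot_of_card_eq _ (by
    have h5 : Nat.card (H ⧸ N) * Nat.card N ≤ Nat.card (H ⧸ N) * 1 := by omega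
    have := Nat.le_of_mul_le_mul_left h5 Nat.card_pos
    omega)
  subst eA eN
  have hcomm : ∀ a b : S, a * b = b * a := fun a b => by
    have h := congrArg Subtype.val (hAc.is_comm.comm
      (⟨QuotientGroup.mk' _ ⟨a, eH ▸ trivial⟩, trivial⟩ : (⊤ : Subgroup (H ⧸ (⊥ : Subgroup H))))
      ⟨QuotientGroup.mk' _ ⟨b, eH ▸ trivial⟩, trivial⟩)
    simp only [Subgroup.coe_mul, ← map_mul, QuotientGroup.mk'_apply] at h
    have h' := QuotientGroup.eq.1 h
    rw [Subgroup.mem_bot, inv_mul_eq_one] at h'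
    exact congrArg Subtype.val h'
  refine isEssential_ne_self hS hF hE (le_antisymm hE.1.1 fun s hs => ?_)
  exact hE.1.2 E (isConj_refl hE.1.1)
    (mem_centralizerIn.2 ⟨hs, fun y hy => congrArg Subtype.val (hcomm ⟨y, hE.1.1 hy⟩ ⟨s, hs⟩)⟩)

end CfsgLib.Fusion.NormalEssential
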