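import Cfsg.Agent.Lib.Fusion.NormalEssential.Basic
import Cfsg.Agent.Lib.Fusion.CentralTorus
import Cfsg.Agent.Lib.Fusion.AbelianIndexP
import Cfsg.Agent.Lib.PGroups.ClassTwo

/-!
# A central element of one normal essential subgroup outside another

Let `E₁`, `E₂` be normal essential subgroups and `z ∈ Ω₁(Z(E₂)) ∖ E₁`. Then `z` is a transvection on
`E₁ / Φ(E₁)`; with a conjugate it gives `u` such that `S = C ⟨z, b, u⟩`, `C` central cyclic, and a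
core-free system forces `C = ⟨y⟩` of order `p`: `S` has order `p⁴` and maximal class.
-/

set_option autoImplicit false

namespace CfsgLib.Fusion.NormalEssential

open Cfsg Cfsg.FusionSystem CfsgLib CfsgLib.Fusion CfsgLib.Fusion.RankThree CfsgLib.Fusion.TransvAut

variable {p : ℕ} [hp : Fact p.Prime] {Ω : Type*} [Group Ω] {S : Subgroup Ω}
  {F : FusionSystem S} {E₁ E₂ : Subgroup Ω}

/-- The elements of order dividing `p` in the centre. -/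
def omegaCenter (p : ℕ) (E : Subgroup Ω) : Subgroup Ω where
  carrier := {x | x ∈ E ∧ x ^ p = 1 ∧ ∀ e ∈ E, x * e = e * x}
  one_mem' := ⟨one_mem E, one_pow p, fun e _ => by simp⟩
  mul_mem' := fun {a b} ha hb => ⟨mul_mem ha.1 hb.1, by
      rw [(show Commute a b from ha.2.2 b hb.1).mul_pow, ha.2.1, hb.2.1, one_mul],
    fun e he => ((show Commute a e from ha.2.2 e he).mul_left (hb.2.2 e he)).eq⟩
  inv_mem' := fun {a} ha => ⟨inv_mem ha.1, by rw [inv_pow, ha.2.1, inv_one],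
    fun e he => ((show Commute a e from ha.2.2 e he).inv_left).eq⟩

omit hp in
theorem omegaCenter_conj {E : Subgroup Ω} (hn : S ≤ Subgroup.normalizer (E : Set Ω)) {s : Ω}
    (hs : s ∈ S) {x : Ω} (hx : x ∈ omegaCenter p E) : s * x * s⁻¹ ∈ omegaCenter p E := by
  refine ⟨conj_mem_E hn hs hx.1, by rw [conj_pow, hx.2.1, mul_one, mul_inv_cancel], fun e he => ?_⟩
  have h := hx.2.2 _ (conj_mem_E hn (inv_mem hs) he)
  rw [inv_inv] at h
  calc s * x * s⁻¹ * e = s * (x * (s⁻¹ * e * s)) * s⁻¹ := by group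
    _ = s * ((s⁻¹ * e * s) * x) * s⁻¹ := by rw [h]
    _ = e * (s * x * s⁻¹) := by group

omit hp in
theorem omegaCenter_map {E : Subgroup Ω} (σ : MulAut E) {x : E} (hx : (x : Ω) ∈ omegaCenter p E) :
    ((σ x : E) : Ω) ∈ omegaCenter p E := by
  refine ⟨(σ x).2, ?_, fun e he => ?_⟩
  · rw [← Subgroup.coe_pow, ← map_pow, show x ^ p = 1 from Subtype.ext hx.2.1, map_one, Subgroup.coe_one]
  · have h : x * σ⁻¹ ⟨e, he⟩ = σ⁻¹ ⟨e, he⟩ * x := Subtype.ext (hx.2.2 _ (σ⁻¹ ⟨e, he⟩).2)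
    have := congrArg σ h
    rw [map_mul, map_mul, MulAut.apply_inv_self] at this
    exact congrArg Subtype.val this

/-- Generators of a group of order `p⁴` and maximal class with an abelian maximal subgroup
`⟨z, b, y⟩`, `p` odd. -/
structure Shape (p : ℕ) {G : Type*} [Group G] (z b y u : G) : Prop where
  z_pow : z ^ p = 1
  b_pow : b ^ p = 1
  y_pow : y ^ p = 1
  u_pow : u ^ p = 1
  zb : Commute z b
  zy : Commute z y
  bys : Commute b y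
  uy : Commute u y
  uz : u * z * u⁻¹ = z * b
  ub : u * b * u⁻¹ = b * y
  y_ne : y ≠ 1
  card : Nat.card G = p ^ 4

variable [Finite S]

/-- The conjugates of a transvection are not all in the group it generates. -/
theorem exists_moved_conj (hS : IsPGroup p S) (hE : F.IsEssential p E₁) (x : F.autGroup E₁)
    (hx : orderOf (outAut F E₁ x) = p) :
    ∃ α : F.autGroup E₁,
      outAut F E₁ (α * x * α⁻¹) ∉ Subgroup.zpowers (outAut F E₁ x) := by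
  by_contra h
  push Not at h
  set L := outAut F E₁ with hL
  have hES := hE.1.1
  have := finite_le hES
  have hKn : ((Subgroup.zpowers (L x)).comap L).Normal := ⟨fun k hk y => by
    obtain ⟨i, hi⟩ := Subgroup.mem_zpowers_iff.1 (Subgroup.mem_comap.1 hk)
    rw [Subgroup.mem_comap, map_mul, map_mul, map_inv, ← hi, ← conj_zpow, ← map_inv, ← map_mul,
      ← map_mul]
    exact zpow_mem (h y) i⟩
  have hKp : IsPGroup p ((Subgroup.zpowers (L x)).comap L) := by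
    intro τ
    obtain ⟨i, hi⟩ := Subgroup.mem_zpowers_iff.1 (Subgroup.mem_comap.1 τ.2)
    have h1 : L ((τ : F.autGroup E₁) ^ p) = 1 := by
      rw [map_pow, ← hi, ← zpow_natCast, ← zpow_mul, mul_comm, zpow_mul, zpow_natCast, ← hx,
        pow_orderOf_eq_one, one_zpow]
    obtain ⟨u, hu⟩ := outAut_ker hS hE h1
    obtain ⟨m, hm⟩ := (hS.to_le hES) u
    refine ⟨m + 1, Subtype.ext (Subtype.ext ?_)⟩
    rw [pow_succ', pow_mul, SubgroupClass.coe_pow, SubgroupClass.coe_pow, SubgroupClass.coe_pow,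
      SubgroupClass.coe_pow, ← SubgroupClass.coe_pow (τ : F.autGroup E₁), ← hu, ← map_pow, hm,
      map_one]
    rfl
  have h1 := outAut_inn hS hES (inn_of_normal hS hE hKn hKp (σ := x)
    (Subgroup.mem_comap.2 (Subgroup.mem_zpowers _)))
  rw [← hL] at h1
  rw [h1, orderOf_one] at hx
  exact hp.out.one_lt.ne hx

omit hp in
/-- Two transvections with the same centre commute. -/
theorem img_comm {V : Type*} [CommGroup V] {σ τ : MulAut V} {a : V}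
    (hσ : ∀ v, σ v * v⁻¹ ∈ Subgroup.zpowers a) (hτ : ∀ v, τ v * v⁻¹ ∈ Subgroup.zpowers a)
    (hσa : σ a = a) (hτa : τ a = a) : σ * τ = τ * σ := MulEquiv.ext fun v => by
  obtain ⟨i, hi⟩ := Subgroup.mem_zpowers_iff.1 (hσ v)
  obtain ⟨j, hj⟩ := Subgroup.mem_zpowers_iff.1 (hτ v)
  have e1 : σ v = a ^ i * v := by rw [hi, inv_mul_cancel_right]
  have e2 : τ v = a ^ j * v := by rw [hj, inv_mul_cancel_right]
  rw [MulAut.mul_apply, MulAut.mul_apply, e1, e2, map_mul, map_mul, map_zpow, map_zpow, hσa, hτa,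
    e1, e2]
  exact mul_left_comm _ _ _

/-- The image of the centre of a transvection under an element moving the transvection is not fixed. -/
theorem not_fixed_of_moved {G V : Type*} [Group G] [CommGroup V] [Finite V] {L : G →* MulAut V}
    {z g : G} {a : V} (hp2 : p ≠ 2) (T : Transv p L z a)
    (hg : L (g * z * g⁻¹) ∉ Subgroup.zpowers (L z)) : L z (L g a) ≠ L g a := by
  intro hfix
  obtain ⟨-, -, -, htor⟩ := T.exists_elements hg
  obtain ⟨d, -, hd1, -, hdf, -⟩ := htor (-1) (-1) (by simp)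
  set e := L g a with he
  have h2 : e * e ∈ Subgroup.zpowers a := by
    have := hdf e hfix
    rw [hd1, zpow_neg_one, ← mul_inv, inv_mem_iff] at this
    exact this
  have hea : e ∈ Subgroup.zpowers a := by
    obtain ⟨k, hk⟩ := hp.out.odd_of_ne_two hp2
    have h3 : e = ((e * e) ^ k)⁻¹ := by
      rw [eq_inv_iff_mul_eq_one, ← pow_two, ← pow_mul, ← pow_succ', ← hk, T.exp]
    rw [h3]
    exact inv_mem (pow_mem h2 k)
  have ha1 : a ≠ 1 := fun h => T.ne (MulEquiv.ext fun v => by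
    have := T.img v
    rw [h, Subgroup.zpowers_one_eq_bot, Subgroup.mem_bot, mul_inv_eq_one] at this
    exact this)
  obtain ⟨i, hi⟩ := Subgroup.mem_zpowers_iff.1 hea
  have hi0 : ¬ (p : ℤ) ∣ i := fun ⟨c, hc⟩ => ha1 ((L g).injective (by
    rw [map_one, ← he, ← hi, hc, zpow_mul, zpow_natCast, T.exp, one_zpow]))
  have hae : ∃ v : ℤ, a = e ^ v := by
    obtain ⟨w, v, hwv⟩ := (Nat.prime_iff_prime_int.1 hp.out).coprime_iff_not_dvd.2 hi0
    refine ⟨v, ?_⟩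
    rw [← hi, ← zpow_mul]
    conv_lhs => rw [← zpow_one a, ← hwv, zpow_add, mul_comm w, zpow_mul, zpow_natCast, T.exp,
      one_zpow, one_mul]
    rw [mul_comm]
  set σ := L (g * z * g⁻¹) with hσ
  have hσv : ∀ v, σ v = L g (L z ((L g)⁻¹ v)) := fun v => by
    rw [hσ, map_mul, map_mul, map_inv]; rfl
  have hσimg : ∀ v, σ v * v⁻¹ ∈ Subgroup.zpowers a := fun v => by
    obtain ⟨j, hj⟩ := Subgroup.mem_zpowers_iff.1 (T.img ((L g)⁻¹ v))
    have := congrArg (L g) hj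
    rw [map_mul, map_inv, ← hσv, MulAut.apply_inv_self, map_zpow, ← he] at this
    rw [← this, ← hi, ← zpow_mul]
    exact Subgroup.zpow_mem _ (Subgroup.mem_zpowers a) _
  have hσe : σ e = e := by rw [hσv, he, MulAut.inv_apply_self, T.fix]
  have hσa : σ a = a := by obtain ⟨v, hv⟩ := hae; rw [hv, map_zpow, hσe]
  refine hg (T.alone _ (img_comm hσimg T.img hσa T.fix) ?_)
  rw [map_mul, map_mul, map_inv, conj_pow, T.pow_eq_one, mul_one, mul_inv_cancel]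

set_option maxHeartbeats 1600000 in
/-- The elements produced by the transvection. -/
theorem exists_frame_center (hS : IsPGroup p S) (hp2 : p ≠ 2) (hF : F.IsSaturated p)
    (hd₁ : Step p S E₁) (hd₂ : Step p S E₂) (hE₁ : F.IsEssential p E₁) {z : Ω}
    (hz : z ∈ omegaCenter p E₂) (hzE : z ∉ E₁) :
    ∃ (C : Subgroup Ω) (b u : Ω), b ∈ E₁ ⊓ omegaCenter p E₂ ∧ u ∈ E₁ ∧ u ∉ E₂ ∧ u ^ p = 1 ∧
      b = z⁻¹ * u * z * u⁻¹ ∧ b⁻¹ * u * b * u⁻¹ ∈ C ∧ C ≤ E₁ ⊓ E₂ ∧ b ∉ C ∧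
      (∀ c ∈ C, u * c = c * u) ∧ (∀ d ∈ E₁ ⊓ E₂, ∃ c ∈ C, ∃ j : ℤ, d = c * b ^ j) := by
  classical
  have hp' := hp.out
  have hE₁S := hd₁.le
  have hzE₂ : z ∈ E₂ := hz.1
  have hzS : z ∈ S := hd₂.le hzE₂
  have := finite_le hE₁S
  have hEp : IsPGroup p E₁ := hS.to_le hE₁S
  -- the centralizer of `z` in `S`
  have hCz : ∀ s ∈ S, s * z = z * s → s ∈ E₂ := by
    intro s hs hsz
    by_contra hsE
    refine hzE (hE₁.1.2 E₁ (isConj_refl hE₁S) (mem_centralizerIn.2 ⟨hzS, fun g hg => ?_⟩))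
    obtain ⟨e, he, i, rfl⟩ := hd₂.gen hs hsE (hE₁S hg)
    exact ((show Commute z e from hz.2.2 e he).mul_right
      ((show Commute z s from hsz.symm).zpow_right i)).eq.symm
  obtain ⟨e₀, he₀, he₀E⟩ : ∃ e ∈ E₁, e ∉ E₂ := by
    by_contra h
    push Not at h
    have := finite_le hd₂.le
    have hc : Nat.card E₁ = Nat.card E₂ :=
      Nat.eq_of_mul_eq_mul_left hp'.pos (hd₁.card.symm.trans hd₂.card)
    exact hzE ((Subgroup.eq_of_le_of_card_ge h hc.ge).symm ▸ hzE₂)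
  set a₀ := z * e₀ * z⁻¹ * e₀⁻¹ with ha₀
  have ha₀E : a₀ ∈ E₁ := hd₁.comm_mem hzS (hE₁S he₀)
  have ha₀w : a₀ ∈ omegaCenter p E₂ := by
    rw [ha₀, show z * e₀ * z⁻¹ * e₀⁻¹ = z * (e₀ * z⁻¹ * e₀⁻¹) by group]
    exact mul_mem hz (omegaCenter_conj hd₂.norm (hE₁S he₀) (inv_mem hz))
  -- the transvection on the Frattini quotient
  letI : CommGroup (E₁ ⧸ frattini E₁) :=
    { (inferInstance : Group (E₁ ⧸ frattini E₁)) with mul_comm := quot_comm hEp }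
  set π := QuotientGroup.mk' (frattini E₁) with hπ
  set L := outAut F E₁ with hL
  set zz := toAut F hE₁S hd₁.norm ⟨z, hzS⟩ with hzz
  have hLπ : ∀ (σ : F.autGroup E₁) (x : E₁), L σ (π x) = π ((σ : MulAut E₁) x) := fun σ x => rfl
  obtain ⟨a, ha⟩ : ∃ a : E₁, a = ⟨a₀, ha₀E⟩ := ⟨_, rfl⟩
  have hav : ((a : E₁) : Ω) = a₀ := by rw [ha]
  have hzfix : ∀ x : E₁, (x : Ω) ∈ E₂ → (zz : MulAut E₁) x = x := fun x hx => Subtype.ext (by
    rw [hzz, toAut_apply, hz.2.2 _ hx, mul_inv_cancel_right])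
  have hfixV : ∀ x : E₁, (x : Ω) ∈ E₂ → L zz (π x) = π x := fun x hx => by rw [hLπ, hzfix x hx]
  have himg : ∀ v, L zz v * v⁻¹ ∈ Subgroup.zpowers (π a) := by
    intro v
    obtain ⟨x, rfl⟩ := QuotientGroup.mk'_surjective _ v
    obtain ⟨d, hd, i, hxd⟩ := hd₂.gen (hE₁S he₀) he₀E (hE₁S x.2)
    have hdE : d ∈ E₁ := by
      rw [show d = (x : Ω) * (e₀ ^ i)⁻¹ by rw [hxd, mul_inv_cancel_right]]
      exact mul_mem x.2 (inv_mem (zpow_mem he₀ i))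
    have hx' : x = ⟨d, hdE⟩ * ⟨e₀, he₀⟩ ^ i := Subtype.ext (by simpa using hxd)
    refine Subgroup.mem_zpowers_iff.2 ⟨i, ?_⟩
    rw [← hπ, hx', map_mul, map_mul, hfixV _ hd, map_zpow, map_zpow, hLπ,
      show (zz : MulAut E₁) ⟨e₀, he₀⟩ = a * ⟨e₀, he₀⟩ from Subtype.ext (by
        rw [hzz, toAut_apply, Subgroup.coe_mul, hav, ha₀]; group),
      map_mul, mul_zpow, mul_inv]
    rw [mul_mul_mul_comm, mul_inv_cancel, one_mul, mul_inv_cancel_right]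
  have hne : L zz ≠ 1 := fun h =>
    hzE ((toAut_inn_iff hE₁ hd₁.norm ⟨z, hzS⟩).1 (outAut_ker hS hE₁ h))
  have hzp : L zz ^ p = 1 := by
    rw [← map_pow, hzz, ← map_pow, show (⟨z, hzS⟩ : S) ^ p = 1 from Subtype.ext hz.2.1, map_one,
      map_one]
  have hzo : orderOf (L zz) = p := orderOf_eq_prime hzp hne
  obtain ⟨Ty, hTy, -⟩ := exists_sylow hS hF hE₁ hd₁.norm
  have := finite_mulAut_of_le (S := S) hE₁S
  have hTz : ∀ t ∈ (Ty : Subgroup (F.autGroup E₁)), L t ∈ Subgroup.zpowers (L zz) := by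
    intro t ht
    obtain ⟨s, rfl⟩ := hTy t ht
    obtain ⟨e, he, i, hsi⟩ := hd₁.gen hzS hzE s.2
    refine Subgroup.mem_zpowers_iff.2 ⟨i, ?_⟩
    rw [show s = ⟨e, hE₁S he⟩ * ⟨z, hzS⟩ ^ i from Subtype.ext (by simpa using hsi), map_mul,
      map_mul, map_zpow, map_zpow, outAut_inn hS hE₁S ((toAut_inn_iff hE₁ hd₁.norm ⟨e, hE₁S he⟩).2 he),
      one_mul, ← hzz, hL]
  have hT : Transv p L zz (π a) :=
    ⟨quot_pow hEp, himg, hfixV a (by rw [hav]; exact ha₀w.1), hne,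
      fun c h1 h2 => alone_of_sylow L Ty hTz hzo h1 h2⟩
  obtain ⟨α, hα⟩ := exists_moved_conj hS hE₁ zz hzo
  have hα' : L (α⁻¹ * zz * α⁻¹⁻¹) ∉ Subgroup.zpowers (L zz) := by
    rw [inv_inv]
    intro h
    refine hα ?_
    obtain ⟨i, hi⟩ := Subgroup.mem_zpowers_iff.1 h
    have hx : L (α * zz * α⁻¹) ^ i = L zz := by
      rw [map_mul, map_mul, map_inv, conj_zpow, hi, map_mul, map_mul, map_inv]
      simp [mul_assoc]
    have hxp : L (α * zz * α⁻¹) ^ (p : ℤ) = 1 := by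
      rw [zpow_natCast, map_mul, map_mul, map_inv, conj_pow, hzp, mul_one, mul_inv_cancel]
    have hi0 : ¬ (p : ℤ) ∣ i := fun ⟨c, hc⟩ => hne (by
      rw [← hx, hc, zpow_mul, hxp, one_zpow])
    obtain ⟨w, v, hwv⟩ := (Nat.prime_iff_prime_int.1 hp').coprime_iff_not_dvd.2 hi0
    refine Subgroup.mem_zpowers_iff.2 ⟨v, ?_⟩
    conv_rhs => rw [← zpow_one (L (α * zz * α⁻¹)), ← hwv, zpow_add, mul_comm w, zpow_mul, hxp,
      one_zpow, one_mul, mul_comm, zpow_mul, hx]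
  have hmove : ∀ g : F.autGroup E₁, L (g * zz * g⁻¹) ∉ Subgroup.zpowers (L zz) →
      ((g : MulAut E₁) a : Ω) ∉ E₂ := fun g hg h => by
    have h' := not_fixed_of_moved hp2 hT hg
    rw [hLπ] at h'
    exact h' (hfixV _ h)
  obtain ⟨u', hu'⟩ : ∃ u' : E₁, u' = (α : MulAut E₁) a := ⟨_, rfl⟩
  obtain ⟨u, hu⟩ : ∃ u, u = (u' : Ω) := ⟨_, rfl⟩
  have huE : u ∉ E₂ := by rw [hu, hu']; exact hmove α hα
  have huS : u ∈ S := hu ▸ hE₁S u'.2
  have hup : u ^ p = 1 := by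
    rw [hu, hu', ← Subgroup.coe_pow, ← map_pow,
      show a ^ p = 1 from Subtype.ext (by rw [Subgroup.coe_pow, hav]; exact ha₀w.2.1), map_one,
      Subgroup.coe_one]
  obtain ⟨b, hb⟩ : ∃ b, b = z⁻¹ * u * z * u⁻¹ := ⟨_, rfl⟩
  have hbE : b ∈ E₁ := by
    rw [hb, show z⁻¹ * u * z * u⁻¹ = z⁻¹ * u * z⁻¹⁻¹ * u⁻¹ by group]
    exact hd₁.comm_mem (inv_mem hzS) huS
  have hbw : b ∈ omegaCenter p E₂ := by
    rw [hb, show z⁻¹ * u * z * u⁻¹ = z⁻¹ * (u * z * u⁻¹) by group]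
    exact mul_mem (inv_mem hz) (omegaCenter_conj hd₂.norm huS hz)
  -- `C = D ⊓ α(D)`
  let D : Subgroup E₁ := E₂.subgroupOf E₁
  obtain ⟨C, hC⟩ : ∃ C, C = (D ⊓ D.map (α : MulAut E₁).toMonoidHom).map E₁.subtype := ⟨_, rfl⟩
  have hCmem : ∀ x : E₁, (x : Ω) ∈ C ↔
      (x : Ω) ∈ E₂ ∧ (((α : MulAut E₁)⁻¹ x : E₁) : Ω) ∈ E₂ := by
    intro x
    rw [hC]
    constructor
    · rintro ⟨w, ⟨hw1, v, hv, hvw⟩, hwx⟩
      obtain rfl : w = x := Subtype.ext hwx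
      refine ⟨hw1, ?_⟩
      rw [← hvw]
      show ((((α : MulAut E₁)⁻¹ ((α : MulAut E₁) v)) : E₁) : Ω) ∈ E₂
      rw [MulAut.inv_apply_self]
      exact hv
    · rintro ⟨h1, h2⟩
      exact ⟨x, ⟨h1, (α : MulAut E₁)⁻¹ x, h2, MulAut.apply_inv_self _ _ _⟩, rfl⟩
  have hCle : C ≤ E₁ ⊓ E₂ := by
    rw [hC]
    rintro _ ⟨w, ⟨hw, -⟩, rfl⟩
    exact ⟨w.2, hw⟩
  have hCu : ∀ c ∈ C, u * c = c * u := by
    intro c hc
    obtain ⟨-, h2⟩ := (hCmem ⟨c, (hCle hc).1⟩).1 hc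
    have h : a * (α : MulAut E₁)⁻¹ ⟨c, (hCle hc).1⟩ = (α : MulAut E₁)⁻¹ ⟨c, (hCle hc).1⟩ * a :=
      Subtype.ext (by rw [Subgroup.coe_mul, Subgroup.coe_mul, hav]; exact ha₀w.2.2 _ h2)
    have h' := congrArg (α : MulAut E₁) h
    rw [map_mul, map_mul, MulAut.apply_inv_self, ← hu'] at h'
    rw [hu]
    exact congrArg Subtype.val h'
  have hyC : b⁻¹ * u * b * u⁻¹ ∈ C := by
    have hy1 : b⁻¹ * u * b * u⁻¹ ∈ E₂ := by
      rw [show b⁻¹ * u * b * u⁻¹ = b⁻¹ * (u * b * u⁻¹) by group]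
      exact mul_mem (inv_mem hbw.1) (conj_mem_E hd₂.norm huS hbw.1)
    have hy2 : b⁻¹ * u * b * u⁻¹ ∈ E₁ :=
      mul_mem (mul_mem (mul_mem (inv_mem hbE) (hu ▸ u'.2)) hbE) (inv_mem (hu ▸ u'.2))
    refine (hCmem ⟨_, hy2⟩).2 ⟨hy1, ?_⟩
    obtain ⟨b', hb'⟩ : ∃ b' : E₁, b' = (α : MulAut E₁)⁻¹ ⟨b, hbE⟩ := ⟨_, rfl⟩
    have e : (α : MulAut E₁)⁻¹ ⟨_, hy2⟩ = b'⁻¹ * a * b' * a⁻¹ := by
      have : (⟨_, hy2⟩ : E₁) = ⟨b, hbE⟩⁻¹ * u' * ⟨b, hbE⟩ * u'⁻¹ :=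
        Subtype.ext (by simp [hu])
      rw [this, map_mul, map_mul, map_mul, map_inv, map_inv, hu', MulAut.inv_apply_self, hb']
    rw [e, Subgroup.coe_mul, Subgroup.coe_mul, Subgroup.coe_mul, Subgroup.coe_inv, Subgroup.coe_inv,
      hav, show (b' : Ω)⁻¹ * a₀ * b' * a₀⁻¹ = ((b' : Ω)⁻¹ * a₀ * (b' : Ω)⁻¹⁻¹) * a₀⁻¹ by group]
    exact mul_mem (omegaCenter_conj hd₂.norm (inv_mem (hE₁S b'.2)) ha₀w).1 (inv_mem ha₀w.1)
  -- the Frattini subgroup lies in `C`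
  have hDn : D.Normal := ⟨fun d hd g => conj_mem_E hd₂.norm (hE₁S g.2) hd⟩
  have hΦD : frattini E₁ ≤ D := PGroups.frattini_le_of_elementary (p := p)
    (Subgroup.commutator_le.2 fun g _ h _ => by
      rw [commutatorElement_def]
      exact hd₂.comm_mem (hE₁S g.2) (hE₁S h.2))
    fun g => hd₂.pow_mem (hE₁S g.2)
  have hΦC : ∀ x ∈ frattini E₁, (x : Ω) ∈ C := fun x hx =>
    (hCmem x).2 ⟨hΦD hx,
    hΦD (Subgroup.characteristic_iff_map_le.1 inferInstance _ ⟨x, hx, rfl⟩)⟩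
  have ha₁ : (((α : MulAut E₁)⁻¹ a : E₁) : Ω) ∉ E₂ := by
    rw [show (α : MulAut E₁)⁻¹ = ((α⁻¹ : F.autGroup E₁) : MulAut E₁) from rfl]
    exact hmove α⁻¹ hα'
  -- `z` moves `u` along `a₀`
  obtain ⟨k, hk⟩ := Subgroup.mem_zpowers_iff.1 (himg (π u'))
  obtain ⟨w, hw⟩ : ∃ w : E₁, w = ⟨z * u * z⁻¹ * u⁻¹,
      hd₁.comm_mem hzS huS⟩ := ⟨_, rfl⟩
  have hwπ : π w = π a ^ k := by
    rw [hk, hLπ, ← map_inv, ← map_mul]
    refine congrArg π (Subtype.ext ?_)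
    rw [hw, Subgroup.coe_mul, Subgroup.coe_inv, hzz, toAut_apply]
    simp only [hu]
  have hwb : w = ⟨b, hbE⟩⁻¹ := Subtype.ext (by
    rw [hw, Subgroup.coe_inv]
    show z * u * z⁻¹ * u⁻¹ = b⁻¹
    rw [hb]
    have h1 : Commute z (u * z * u⁻¹) := hz.2.2 _ (conj_mem_E hd₂.norm huS hzE₂)
    rw [show z * u * z⁻¹ * u⁻¹ = z * (u * z * u⁻¹)⁻¹ by group,
      show (z⁻¹ * u * z * u⁻¹)⁻¹ = (u * z * u⁻¹)⁻¹ * z by group]
    exact h1.inv_right.eq)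
  have hk0 : ¬ (p : ℤ) ∣ k := by
    rintro ⟨c, rfl⟩
    refine hmove α hα ?_
    rw [← hu']
    by_contra hu2
    refine not_fixed_of_moved hp2 hT hα ?_
    rw [hLπ, ← hu']
    rw [zpow_mul, zpow_natCast, quot_pow hEp, one_zpow, hLπ] at hk
    exact mul_inv_eq_one.1 hk.symm
  -- `a₀` is in `⟨b⟩ C`
  obtain ⟨kw, kv, hkk⟩ := (Nat.prime_iff_prime_int.1 hp').coprime_iff_not_dvd.2 hk0
  have hab : a₀ * b ^ kv ∈ C := by
    have h : π (a * ⟨b, hbE⟩ ^ kv) = 1 := by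
      rw [map_mul, map_zpow, show (⟨b, hbE⟩ : E₁) = w⁻¹ by rw [hwb, inv_inv], map_inv, hwπ,
        inv_zpow, ← zpow_mul, mul_inv_eq_one]
      conv_lhs => rw [← zpow_one (π a), ← hkk, zpow_add, mul_comm kw, zpow_mul, zpow_natCast,
        quot_pow hEp, one_zpow, one_mul, mul_comm]
    have := hΦC _ ((QuotientGroup.eq_one_iff _).1 h)
    rwa [Subgroup.coe_mul, Subgroup.coe_zpow, hav] at this
  refine ⟨C, b, u, ⟨hbE, hbw⟩, hu ▸ u'.2, huE, hup, hb, hyC, hCle, fun h => ha₁ ?_, hCu, ?_⟩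
  · have h1 := mul_mem hab (inv_mem (zpow_mem h kv))
    rw [mul_inv_cancel_right, ← hav] at h1
    exact ((hCmem a).1 h1).2
  intro d hd
  obtain ⟨d', hd', j, hdd⟩ := hd₂.gen (hE₁S ((α : MulAut E₁)⁻¹ a).2) ha₁
    (hE₁S ((α : MulAut E₁)⁻¹ ⟨d, hd.1⟩).2)
  have hd'E : d' ∈ E₁ := by
    rw [show d' = (((α : MulAut E₁)⁻¹ ⟨d, hd.1⟩ : E₁) : Ω) *
      ((((α : MulAut E₁)⁻¹ a : E₁) : Ω) ^ j)⁻¹ by rw [hdd, mul_inv_cancel_right]]
    exact mul_mem (Subtype.coe_prop _) (inv_mem (zpow_mem (Subtype.coe_prop _) j))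
  obtain ⟨c₁, hc₁⟩ : ∃ c₁ : E₁, c₁ = (α : MulAut E₁) ⟨d', hd'E⟩ := ⟨_, rfl⟩
  have hde : (⟨d, hd.1⟩ : E₁) = c₁ * a ^ j := by
    have : (α : MulAut E₁)⁻¹ ⟨d, hd.1⟩ = ⟨d', hd'E⟩ * ((α : MulAut E₁)⁻¹ a) ^ j :=
      Subtype.ext (by simpa using hdd)
    have := congrArg (α : MulAut E₁) this
    rwa [map_mul, map_zpow, MulAut.apply_inv_self, MulAut.apply_inv_self, ← hc₁] at this
  have hc₁C : (c₁ : Ω) ∈ C := by
    refine (hCmem c₁).2 ⟨?_, ?_⟩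
    · rw [show c₁ = ⟨d, hd.1⟩ * (a ^ j)⁻¹ by rw [hde, mul_inv_cancel_right]]
      push_cast
      rw [hav]
      exact mul_mem hd.2 (inv_mem (zpow_mem ha₀w.1 j))
    · rw [hc₁, MulAut.inv_apply_self]; exact hd'
  have hde' : d = (c₁ : Ω) * a₀ ^ j := by
    have := congrArg Subtype.val hde
    push_cast at this
    rwa [hav] at this
  refine ⟨c₁ * (a₀ * b ^ kv) ^ j, mul_mem hc₁C (zpow_mem hab j), -(kv * j), ?_⟩
  have hcomm : Commute a₀ (b ^ kv) :=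
    (show Commute a₀ b from ha₀w.2.2 b hbw.1).zpow_right kv
  rw [hde', hcomm.mul_zpow, ← zpow_mul, zpow_neg, mul_assoc, mul_assoc, mul_inv_cancel, mul_one]

end CfsgLib.Fusion.NormalEssential
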