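import Cfsg.Agent.Lib.Fusion.TransvectionEssential
import Cfsg.Agent.Lib.Fusion.NormalEssential.CenterShape

/-!
# The line fixed by all conjugates of a transvection on a space of order `p³`

When a transvection is, up to powers, alone of order `p` in its centralizer and its fixed points are
not invariant, its conjugates fix a common line.
-/

set_option autoImplicit false

namespace CfsgLib.Fusion.NormalEssential

open Cfsg CfsgLib CfsgLib.Fusion.TransvAut

variable {p : ℕ} [hp : Fact p.Prime] {G V : Type*} [Group G] [CommGroup V] [Finite V]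
  {L : G →* MulAut V} {x : G} {a : V}

/-- If a conjugate of the transvection is outside the group it generates, so is the inverse
conjugate. -/
theorem moved_inv (T : Transv p L x a) {g : G}
    (hg : L (g * x * g⁻¹) ∉ Subgroup.zpowers (L x)) :
    L (g⁻¹ * x * g⁻¹⁻¹) ∉ Subgroup.zpowers (L x) := by
  rw [inv_inv]
  intro h
  refine hg ?_
  obtain ⟨i, hi⟩ := Subgroup.mem_zpowers_iff.1 h
  have hx : L (g * x * g⁻¹) ^ i = L x := by
    rw [map_mul, map_mul, map_inv, conj_zpow, hi, map_mul, map_mul, map_inv]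
    simp [mul_assoc]
  have hxp : L (g * x * g⁻¹) ^ (p : ℤ) = 1 := by
    rw [zpow_natCast, map_mul, map_mul, map_inv, conj_pow, T.pow_eq_one, mul_one, mul_inv_cancel]
  have hi0 : ¬ (p : ℤ) ∣ i := fun ⟨c, hc⟩ => T.ne (by rw [← hx, hc, zpow_mul, hxp, one_zpow])
  obtain ⟨w, v, hwv⟩ := (Nat.prime_iff_prime_int.1 hp.out).coprime_iff_not_dvd.2 hi0
  refine Subgroup.mem_zpowers_iff.2 ⟨v, ?_⟩
  conv_rhs => rw [← zpow_one (L (g * x * g⁻¹)), ← hwv, zpow_add, mul_comm w, zpow_mul, hxp,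
    one_zpow, one_mul, mul_comm, zpow_mul, hx]

omit hp [Finite V] in
/-- What the generators fix is fixed by the subgroup they generate. -/
theorem fixed_of_closure {H : Type*} [Group H] (M : H →* MulAut V) {s : Set H} {σ : H}
    (hσ : σ ∈ Subgroup.closure s) {v : V} (h : ∀ w ∈ s, M w v = v) : M σ v = v := by
  induction hσ using Subgroup.closure_induction with
  | mem w hw => exact h w hw
  | one => rw [map_one]; rfl
  | mul s t _ _ hs ht => rw [map_mul, MulAut.mul_apply, ht, hs]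
  | inv s _ hs =>
    rw [map_inv]
    conv_lhs => rw [← hs]
    exact MulAut.inv_apply_self V _ v

omit hp [Finite V] in
/-- Powers fix the fixed points. -/
theorem zpow_fixed {σ : MulAut V} {v : V} (h : σ v = v) (i : ℤ) : (σ ^ i) v = v :=
  ((Subgroup.zpowers_le (H := MulAction.stabilizer (MulAut V) v)).2 h :)
    (zpow_mem (Subgroup.mem_zpowers σ) i)

/-- The fixed points of an automorphism. -/
def fixOf (σ : MulAut V) : Subgroup V := MonoidHom.eqLocus σ.toMonoidHom (MonoidHom.id V)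

set_option maxHeartbeats 800000 in
/-- The common fixed line. -/
theorem exists_fixed_line (hp2 : p ≠ 2) (T : Transv p L x a) (hV : Nat.card V = p ^ 3)
    (hfix : Nat.card (fixOf (L x)) = p ^ 2)
    (hmov : ∃ g : G, ∃ v, L x v = v ∧ L x (L g v) ≠ L g v) :
    ∃ c : V, c ≠ 1 ∧ ∀ g : G, L (g * x * g⁻¹) c = c := by
  classical
  have hp' := hp.out
  have hF : ∀ v, v ∈ fixOf (L x) ↔ L x v = v := fun v => Iff.rfl
  have hconj : ∀ (g : G) (v : V), L (g * x * g⁻¹) v = L g (L x ((L g)⁻¹ v)) := fun g v => by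
    rw [map_mul, map_mul, map_inv]; rfl
  have hpow : ∀ g : G, L (g * x * g⁻¹) ∈ Subgroup.zpowers (L x) → ∀ v, L x v = v →
      L (g * x * g⁻¹) v = v := fun g hg v hv => by
    obtain ⟨i, hi⟩ := Subgroup.mem_zpowers_iff.1 hg
    rw [← hi]
    exact zpow_fixed hv i
  -- two hyperplanes meet in a line
  have hline : ∀ g : G, L (g * x * g⁻¹) ∉ Subgroup.zpowers (L x) →
      ∃ c, c ≠ 1 ∧ L x c = c ∧ L (g * x * g⁻¹) c = c ∧ ∀ v, L x v = v →
        ∃ i : ℤ, ∃ w, v = w * a ^ i ∧ L x w = w ∧ L (g * x * g⁻¹) w = w := by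
    intro g hg
    obtain ⟨W, hW⟩ : ∃ W, W = fixOf (L (g * x * g⁻¹)) := ⟨_, rfl⟩
    have hWm : ∀ v, v ∈ W ↔ L (g * x * g⁻¹) v = v := fun v => by rw [hW]; exact Iff.rfl
    have haW : a ∉ W := by
      intro h
      refine not_fixed_of_moved hp2 T (moved_inv T hg) ?_
      have h' := (hWm a).1 h
      rw [hconj] at h'
      have := congrArg ((L g)⁻¹ : MulAut V) h'
      rwa [MulAut.inv_apply_self, ← map_inv] at this
    have hWc : Nat.card W = p ^ 2 := by
      suffices hWe : W = (fixOf (L x)).map (L g).toMonoidHom by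
        rw [hWe, Subgroup.card_map_of_injective (L g).injective, hfix]
      ext v
      rw [hWm, hconj]
      constructor
      · intro h
        refine ⟨(L g)⁻¹ v, (hF _).2 ?_, MulAut.apply_inv_self V (L g) v⟩
        have := congrArg ((L g)⁻¹ : MulAut V) h
        rwa [MulAut.inv_apply_self] at this
      · rintro ⟨w, hw, rfl⟩
        show L g (L x ((L g)⁻¹ (L g w))) = L g w
        rw [MulAut.inv_apply_self, (hF w).1 hw]
    have hai : ∀ i : ℤ, a ^ i ∈ W → a ^ i = 1 := by
      intro i hi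
      obtain ⟨k, rfl⟩ : (p : ℤ) ∣ i := by
        by_contra h
        obtain ⟨u, v, huv⟩ := (Nat.prime_iff_prime_int.1 hp').coprime_iff_not_dvd.2 h
        refine haW ?_
        rw [← zpow_one a, ← huv, zpow_add, mul_comm u, zpow_mul, zpow_natCast, T.exp, one_zpow,
          one_mul, mul_comm, zpow_mul]
        exact zpow_mem hi v
      rw [zpow_mul, zpow_natCast, T.exp, one_zpow]
    have ha1 : a ≠ 1 := fun h => haW (h ▸ one_mem W)
    -- the sup with `⟨a⟩`
    obtain ⟨I, hI⟩ : ∃ I, I = W ⊓ fixOf (L x) := ⟨_, rfl⟩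
    have hIc : p ≤ Nat.card I := by
      let f : W × fixOf (L x) → V := fun q => q.1 * q.2
      by_contra hlt
      push Not at hlt
      have hI1 : Nat.card I = 1 := by
        obtain ⟨e, -, he⟩ := (Nat.dvd_prime_pow hp').1 (hV ▸ Subgroup.card_subgroup_dvd_card I)
        rcases e with _ | e
        · rw [he, pow_zero]
        · rw [he] at hlt
          exact absurd (Nat.le_self_pow (Nat.succ_ne_zero e) p) (not_le.2 hlt)
      have hf : Function.Injective f := fun q r h => by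
        have h' : (q.1 : V) * (r.1 : V)⁻¹ = (r.2 : V) * (q.2 : V)⁻¹ := by
          have : (q.1 : V) * q.2 = r.1 * r.2 := h
          rw [mul_inv_eq_iff_eq_mul, mul_right_comm, eq_mul_inv_iff_mul_eq, this, mul_comm]
        have hmem : (q.1 : V) * (r.1 : V)⁻¹ ∈ I := by
          rw [hI]
          exact Subgroup.mem_inf.2
            ⟨mul_mem q.1.2 (inv_mem r.1.2), h' ▸ mul_mem r.2.2 (inv_mem q.2.2)⟩
        rw [Subgroup.eq_bot_of_card_eq _ hI1, Subgroup.mem_bot] at hmem
        have e1 := mul_inv_eq_one.1 hmem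
        refine Prod.ext (Subtype.ext e1) (Subtype.ext ?_)
        have : (q.1 : V) * q.2 = r.1 * r.2 := h
        rw [e1] at this
        exact mul_left_cancel this
      have := Nat.card_le_card_of_injective f hf
      rw [Nat.card_prod, hWc, hfix, hV, ← pow_add] at this
      exact absurd ((Nat.pow_le_pow_iff_right hp'.one_lt).1 this) (by norm_num)
    obtain ⟨⟨c, hc⟩, hc1⟩ : ∃ c : I, c ≠ 1 := by
      by_contra h
      push Not at h
      haveI : Subsingleton I := ⟨fun u v => (h u).trans (h v).symm⟩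
      rw [Nat.card_unique] at hIc
      exact absurd hIc (not_le.2 hp'.one_lt)
    rw [hI] at hc
    refine ⟨c, fun h => hc1 (Subtype.ext h), (hF c).1 hc.2, (hWm c).1 hc.1, fun v hv => ?_⟩
    obtain ⟨J, hJ⟩ : ∃ J, J = I ⊔ Subgroup.zpowers a := ⟨_, rfl⟩
    have hJle : J ≤ fixOf (L x) := hJ ▸ sup_le (hI ▸ inf_le_right) (Subgroup.zpowers_le.2 T.fix)
    have hJc : Nat.card (fixOf (L x)) ≤ Nat.card J := by
      rw [hfix]
      let f : I × Subgroup.zpowers a → J := fun q => ⟨q.1 * q.2, hJ ▸ Subgroup.mul_mem_sup q.1.2 q.2.2⟩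
      have hf : Function.Injective f := fun q r h => by
        have h0 : (q.1 : V) * q.2 = r.1 * r.2 := congrArg Subtype.val h
        obtain ⟨i, hi⟩ := Subgroup.mem_zpowers_iff.1
          (mul_mem r.2.2 (inv_mem q.2.2) : (r.2 : V) * (q.2 : V)⁻¹ ∈ Subgroup.zpowers a)
        have h' : (q.1 : V) * (r.1 : V)⁻¹ = a ^ i := by
          rw [hi, mul_inv_eq_iff_eq_mul, mul_right_comm, eq_mul_inv_iff_mul_eq, h0, mul_comm]
        have hmem : a ^ i ∈ W := by
          rw [← h']
          exact mul_mem (hI.le q.1.2).1 (inv_mem (hI.le r.1.2).1)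
        rw [hai i hmem] at h'
        have e1 := mul_inv_eq_one.1 h'
        refine Prod.ext (Subtype.ext e1) (Subtype.ext ?_)
        rw [e1] at h0
        exact mul_left_cancel h0
      have := Nat.card_le_card_of_injective f hf
      rw [Nat.card_prod, Nat.card_zpowers, orderOf_eq_prime (T.exp a) ha1] at this
      refine le_trans ?_ this
      rw [pow_two]
      exact Nat.mul_le_mul_right p hIc
    have hvJ : v ∈ J := by
      rw [Subgroup.eq_of_le_of_card_ge hJle hJc]
      exact (hF v).2 hv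
    rw [hJ] at hvJ
    obtain ⟨w, hw, t, ht, hwt⟩ := Subgroup.mem_sup.1 hvJ
    obtain ⟨i, rfl⟩ := Subgroup.mem_zpowers_iff.1 ht
    rw [hI] at hw
    exact ⟨i, w, hwt.symm, (hF w).1 hw.2, (hWm w).1 hw.1⟩
  obtain ⟨g₀, v₀, hv₀, hv₀'⟩ := hmov
  have hg₀ : L (g₀ * x * g₀⁻¹) ∉ Subgroup.zpowers (L x) := by
    intro h
    obtain ⟨i, hi⟩ := Subgroup.mem_zpowers_iff.1 h
    have hi0 : ¬ (p : ℤ) ∣ i := fun ⟨c, hc⟩ => T.ne (by
      rw [hc, zpow_mul, zpow_natCast, T.pow_eq_one, one_zpow, map_mul, map_mul, map_inv] at hi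
      exact conj_eq_one_iff.1 hi.symm)
    obtain ⟨w, u, hwu⟩ := (Nat.prime_iff_prime_int.1 hp').coprime_iff_not_dvd.2 hi0
    have hgx : L (g₀ * x * g₀⁻¹) (L g₀ v₀) = L g₀ v₀ := by rw [hconj, MulAut.inv_apply_self, hv₀]
    refine hv₀' ?_
    have : L x = L (g₀ * x * g₀⁻¹) ^ u := by
      rw [← hi, ← zpow_mul]
      conv_lhs => rw [← zpow_one (L x), ← hwu, zpow_add, mul_comm w, zpow_mul, zpow_natCast,
        T.pow_eq_one, one_zpow, one_mul, mul_comm]
    rw [this]
    exact zpow_fixed hgx u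
  obtain ⟨c, hc1, hcx, hcg, -⟩ := hline g₀ hg₀
  refine ⟨c, hc1, fun g => ?_⟩
  by_cases hg : L (g * x * g⁻¹) ∈ Subgroup.zpowers (L x)
  · exact hpow g hg c hcx
  -- the two involutions agree on the fixed points
  have htorus : ∀ g : G, L (g * x * g⁻¹) ∉ Subgroup.zpowers (L x) → ∃ d : G, L d a = a⁻¹ ∧
      L d * L x = L x * L d ∧ (∀ v, L x v = v → L d v * v⁻¹ ∈ Subgroup.zpowers a) ∧
      (∀ v, L x v = v → L (g * x * g⁻¹) v = v → L d v = v) ∧
      ∀ v, L x (L d v * v) = L d v * v := by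
    intro g hg
    obtain ⟨-, -, -, htor⟩ := T.exists_elements hg
    obtain ⟨d, hd0, -, hdx, hdf, hdcl⟩ := htor (-1) (-1) (by simp)
    rw [neg_mul_neg, mul_one, zpow_one, map_mul, map_mul, map_inv, mul_inv_eq_iff_eq_mul] at hdx
    refine ⟨d, by rw [hd0, zpow_neg_one], hdx, hdf, fun v h1 h2 => ?_, fun v => ?_⟩
    · exact fixed_of_closure L hdcl (by rintro w (rfl | rfl) <;> assumption)
    · obtain ⟨i, hi⟩ := Subgroup.mem_zpowers_iff.1 (T.img v)
      have e : L x v = a ^ i * v := by rw [hi, inv_mul_cancel_right]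
      have e2 : L x (L d v) = (a ^ i)⁻¹ * L d v := by
        rw [← MulAut.mul_apply, ← hdx, MulAut.mul_apply, e, map_mul, map_zpow, hd0, zpow_neg_one,
          inv_zpow]
      rw [map_mul, e, e2, mul_mul_mul_comm, inv_mul_cancel, one_mul]
  obtain ⟨d, hda, hdc, hdf, hdfix, hdv⟩ := htorus g₀ hg₀
  obtain ⟨d', hd'a, hd'c, hd'f, hd'fix, hd'v⟩ := htorus g hg
  obtain ⟨q, hq⟩ : ∃ q, q = d' * d := ⟨_, rfl⟩
  have hqa : L q a = a := by rw [hq, map_mul, MulAut.mul_apply, hda, map_inv, hd'a, inv_inv]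
  have hqc : L q * L x = L x * L q := by
    rw [hq, map_mul, mul_assoc, hdc, ← mul_assoc, hd'c, mul_assoc]
  have hqY : ∀ v, L x v = v → ∃ i : ℤ, L q v = v * a ^ i := by
    intro v hv
    obtain ⟨i, hi⟩ := Subgroup.mem_zpowers_iff.1 (hdf v hv)
    obtain ⟨j, hj⟩ := Subgroup.mem_zpowers_iff.1 (hd'f v hv)
    refine ⟨j - i, ?_⟩
    rw [hq, map_mul, MulAut.mul_apply, show L d v = a ^ i * v by rw [hi, inv_mul_cancel_right],
      map_mul, map_zpow, hd'a, show L d' v = a ^ j * v by rw [hj, inv_mul_cancel_right],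
      inv_zpow', ← mul_assoc, ← zpow_add, mul_comm]
    congr 2
    ring
  have hqV : ∀ v, L x (L q v * v⁻¹) = L q v * v⁻¹ := by
    intro v
    have h2 := hd'v (L d v)
    have h1 := hdv v
    have e : L q v * v⁻¹ = (L d' (L d v) * L d v) * (L d v * v)⁻¹ := by
      rw [hq, map_mul, MulAut.mul_apply, mul_inv, ← mul_assoc, mul_inv_cancel_right]
    rw [e, map_mul, map_inv, h2, h1]
  have hqp : L q ^ p = 1 := MulEquiv.ext fun v => by
    obtain ⟨y, hy⟩ : ∃ y, y = L q v * v⁻¹ := ⟨_, rfl⟩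
    obtain ⟨i, hi⟩ := hqY y (hy ▸ hqV v)
    have hv : L q v = y * v := by rw [hy, inv_mul_cancel_right]
    have hit : ∀ n : ℕ, (L q ^ n) v = v * y ^ n * (a ^ i) ^ n.choose 2 := by
      intro n
      induction n with
      | zero => simp
      | succ n ih =>
        rw [pow_succ', MulAut.mul_apply, ih, map_mul, map_mul, map_pow, map_pow, hv, hi, map_zpow,
          hqa, show (n + 1).choose 2 = n + n.choose 2 by
            rw [Nat.choose_succ_succ' n 1, Nat.choose_one_right], mul_pow, pow_add (a ^ i), pow_add y, pow_one]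
        ac_rfl
    rw [hit, MulAut.one_apply, T.exp, mul_one]
    obtain ⟨k, hk⟩ : p ∣ p.choose 2 :=
      hp'.dvd_choose_self two_ne_zero (lt_of_le_of_ne hp'.two_le (Ne.symm hp2))
    rw [hk, pow_mul, T.exp, one_pow, mul_one]
  obtain ⟨n, hn⟩ := Subgroup.mem_zpowers_iff.1 (T.alone q hqc hqp)
  have hdc' : L d c = c := hdfix c hcx hcg
  have hqc' : L q c = c := by
    rw [← hn]
    exact zpow_fixed hcx n
  have hd'c' : L d' c = c := by
    rw [hq, map_mul, MulAut.mul_apply, hdc'] at hqc'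
    exact hqc'
  obtain ⟨-, -, -, -, hdec⟩ := hline g hg
  obtain ⟨i, w, hw, hwx, hwg⟩ := hdec c hcx
  have hai1 : a ^ i = 1 := by
    rw [hw, map_mul, hd'fix w hwx hwg, map_zpow, hd'a] at hd'c'
    have h := mul_left_cancel hd'c'
    rw [inv_zpow, inv_eq_iff_mul_eq_one] at h
    have h2 : (a ^ i) ^ 2 = 1 := by rw [pow_two]; exact h
    refine orderOf_eq_one_iff.1 (Nat.dvd_one.1 ?_)
    rw [← Nat.Coprime.gcd_eq_one ((Nat.coprime_primes hp' Nat.prime_two).2 hp2)]
    exact Nat.dvd_gcd (orderOf_dvd_of_pow_eq_one (T.exp _)) (orderOf_dvd_of_pow_eq_one h2)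
  rw [hw, hai1, mul_one]
  exact hwg

end CfsgLib.Fusion.NormalEssential
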