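import Cfsg.Agent.Lib.Fusion.NormalEssential.CaseTools
import Cfsg.Agent.Lib.Fusion.NormalEssential.FixedLine

/-!
# `|Ω₁Z(E)| = p³` gives a nontrivial core

When all essential subgroups are normal and contain every `Ω₁Z`, and some essential `E` moves
`Ω₁Z(S)` with `|Ω₁Z(E)| = p³`, either `Ω₁Z(E)` or a line of `Ω₁Z(S)` is invariant everywhere.
-/

set_option autoImplicit false

namespace CfsgLib.Fusion.NormalEssential

open Cfsg Cfsg.FusionSystem CfsgLib CfsgLib.Fusion CfsgLib.Fusion.RankThree CfsgLib.Fusion.TransvAut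

variable {p : ℕ} [hp : Fact p.Prime] {Ω : Type*} [Group Ω] {S : Subgroup Ω} [Finite S]
  {F : FusionSystem S} {E₂ : Subgroup Ω}

variable (p) in
/-- All essential subgroups have index `p` and contain every `Ω₁Z` of such a subgroup. -/
structure Inside (F : FusionSystem S) (ℰ : Subgroup Ω → Prop) : Prop extends Family p F ℰ where
  step : ∀ P : Subgroup Ω, ℰ P → Step p S P
  le : ∀ P : Subgroup Ω, ℰ P → ∀ Q : Subgroup Ω, ℰ Q → omegaCenter p Q ≤ P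
  img : ∀ Q : Subgroup Ω, ℰ Q → ∀ φ ∈ F.autGroup S, ∀ x : S, (x : Ω) ∈ omegaCenter p Q →
    ((φ x : S) : Ω) ∈ Q ∧ ∀ a ∈ omegaCenter p Q, a * ((φ x : S) : Ω) = ((φ x : S) : Ω) * a

variable (p) in
/-- The automizer of `E` moves `Ω₁Z(S)`. -/
def Moved (F : FusionSystem S) (E : Subgroup Ω) : Prop :=
  ∃ α ∈ F.autGroup E, ∃ x : E, (x : Ω) ∈ omegaCenter p S ∧
    (((α : MulAut E) x : E) : Ω) ∉ omegaCenter p S

omit hp in
theorem not_moved_iff {E : Subgroup Ω} : ¬ Moved p F E ↔ ∀ α ∈ F.autGroup E, ∀ x : E,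
    (x : Ω) ∈ omegaCenter p S → (((α : MulAut E) x : E) : Ω) ∈ omegaCenter p S := by
  simp only [Moved, not_exists, not_and, not_not]

/-- Some member of the family moves `Ω₁Z(S)`. -/
theorem exists_moved {ℰ : Subgroup Ω → Prop} (hS : IsPGroup p S) (hℰ : Family p F ℰ) (hne : S ≠ ⊥) :
    ∃ E, ℰ E ∧ Moved p F E := by
  by_contra h
  push Not at h
  obtain ⟨t, -, ht, ht1⟩ := exists_mem_omegaS hS le_rfl Subgroup.le_normalizer hne
  refine ht1 (Subgroup.mem_bot.1 ?_)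
  rw [← hℰ.reduced _ omegaCenter_le (fun φ _ x hx => omegaCenter_map φ hx)
    (fun P hP => ⟨(omegaS_le (hℰ.ess P hP)).trans omegaCenter_le, not_moved_iff.1 (h P hP)⟩)]
  exact ht

omit hp in
theorem Moved.exists_mem {E : Subgroup Ω} (hE : F.IsEssential p E) (hm : Moved p F E) :
    ∃ z ∈ omegaCenter p E, z ∉ omegaCenter p S := by
  obtain ⟨α, -, x, hx, hαx⟩ := hm
  exact ⟨_, omegaCenter_map α (omegaS_le hE hx), hαx⟩

omit hp in
/-- An automorphism of `S` preserving `P` restricts into the automizer of `P`. -/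
theorem exists_restrict {P : Subgroup Ω} (hPS : P ≤ S) {φ : MulAut S} (hφ : φ ∈ F.autGroup S)
    (hP : ∀ x : S, (x : Ω) ∈ P → ((φ x : S) : Ω) ∈ P) :
    ∃ β ∈ F.autGroup P, ∀ x : P, (((β : MulAut P) x : P) : Ω) = ((φ (Subgroup.inclusion hPS x) : S) : Ω) := by
  have := finite_le hPS
  let f : P →* P := ((S.subtype.comp φ.toMonoidHom).comp (Subgroup.inclusion hPS)).codRestrict P
    fun x => hP _ x.2
  let β : MulAut P := MulEquiv.ofBijective f (Finite.injective_iff_bijective.1 fun a b h =>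
    Subgroup.inclusion_injective hPS (φ.injective (Subtype.ext (congrArg (fun w : P => (w : Ω)) h))))
  refine ⟨β, (mem_autGroup_iff hPS).2 (restrict_mem' ((mem_autGroup_iff le_rfl).1 hφ) hPS fun x => rfl),
    fun x => rfl⟩

/-- When `Ω₁Z` of every subgroup of index `p` lies in every essential subgroup, so do the images. -/
theorem inside_of_all (hℰ : Family p F (F.IsEssential p))
    (hst : ∀ P : Subgroup Ω, F.IsEssential p P → Step p S P)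
    (hle : ∀ P : Subgroup Ω, F.IsEssential p P → ∀ Q : Subgroup Ω, Step p S Q →
      omegaCenter p Q ≤ P) : Inside p F (F.IsEssential p) where
  toFamily := hℰ
  step := hst
  le P hP Q hQ := hle P hP Q (hst Q hQ)
  img Q hQ φ _ x hx := by
    have h := hle Q hQ _ (step_map (hst Q hQ) φ) (omega_map hQ.1.1 φ hx)
    exact ⟨h, fun a ha => ha.2.2 _ h⟩

omit hp [Finite S] in
theorem omega_comm {E : Subgroup Ω} (a : Ω) (ha : a ∈ omegaCenter p E) (b : Ω)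
    (hb : b ∈ omegaCenter p E) : a * b = b * a := ha.2.2 b hb.1

set_option maxHeartbeats 1600000 in
/-- The case `|Ω₁Z(E₂)| = p³`. -/
theorem false_of_cube {ℰ : Subgroup Ω → Prop} (hS : IsPGroup p S) (hp2 : p ≠ 2) (hsr : SecLE p S)
    (hF : F.IsSaturated p) (hI : Inside p F ℰ) (hE' : ℰ E₂) (hm : Moved p F E₂)
    (hZ : Nat.card (omegaCenter p E₂) = p ^ 3) : False := by
  classical
  have hp' := hp.out
  have hE := hI.ess E₂ hE'
  have hd := hI.step E₂ hE'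
  obtain ⟨Z, hZdef⟩ : ∃ Z, Z = omegaCenter p E₂ := ⟨_, rfl⟩
  obtain ⟨Y, hYdef⟩ : ∃ Y, Y = omegaCenter p S := ⟨_, rfl⟩
  have hZS : Z ≤ S := hZdef ▸ omegaCenter_le.trans hd.le
  have hYZ : Y ≤ Z := hZdef ▸ hYdef ▸ omegaS_le hE
  rw [← hZdef] at hZ
  have := finite_le hZS
  have := finite_le (hYZ.trans hZS)
  have hZc : ∀ a ∈ Z, ∀ b ∈ Z, a * b = b * a := fun a ha b hb =>
    omega_comm a (hZdef ▸ ha) b (hZdef ▸ hb)
  have hZe : ∀ a ∈ Z, a ^ p = 1 := fun a ha => (hZdef ▸ ha : a ∈ omegaCenter p E₂).2.1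
  have hmemZ : ∀ {x : Ω}, x ∈ S → (∀ a ∈ Z, a * x = x * a) → x ^ p = 1 → x ∈ Z :=
    fun hxS hx hxp => mem_of_comm_elementary hsr hZS hZc hZe hZ hxS hx hxp
  obtain ⟨z, hzZ, hzY⟩ := hm.exists_mem hE
  rw [← hZdef] at hzZ
  have hA : ∀ φ ∈ F.autGroup S, ∀ x : S, (x : Ω) ∈ Z → ((φ x : S) : Ω) ∈ Z := fun φ hφ x hx => by
    have h := hI.img E₂ hE' φ hφ x (hZdef ▸ hx)
    refine hmemZ (φ x).2 (fun a ha => h.2 a (hZdef ▸ ha)) ?_
    rw [← Subgroup.coe_pow, ← map_pow, show x ^ p = 1 from Subtype.ext (hZe _ hx), map_one,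
      Subgroup.coe_one]
  -- otherwise `Ω₁Z(E₂)` is invariant
  obtain ⟨P, hP', α, hα, x, hx, hαx⟩ : ∃ P, ℰ P ∧ ∃ α ∈ F.autGroup P, ∃ x : P,
      (x : Ω) ∈ Z ∧ (((α : MulAut P) x : P) : Ω) ∉ Z := by
    by_contra h
    push Not at h
    have := hI.reduced Z hZS hA
      (fun P hP => ⟨fun w hw => hI.le P hP E₂ hE' (hZdef ▸ hw), h P hP⟩)
    rw [this, Subgroup.card_bot] at hZ
    exact absurd hZ (Nat.one_lt_pow (by norm_num) hp'.one_lt).ne
  have hP := hI.ess P hP'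
  have hPS := hP.1.1
  have hdP := hI.step P hP'
  obtain ⟨x', hx'⟩ : ∃ x', x' = (α : MulAut P) x := ⟨_, rfl⟩
  have hx'p : (x' : Ω) ^ p = 1 := by
    rw [hx', ← Subgroup.coe_pow, ← map_pow, show x ^ p = 1 from Subtype.ext (hZe _ hx), map_one,
      Subgroup.coe_one]
  have hx'S : (x' : Ω) ∈ S := hPS x'.2
  have hx'E : (x' : Ω) ∉ E₂ := fun h => hαx (hmemZ (hx' ▸ hx'S)
    (fun a ha => hx' ▸ (hZdef ▸ ha : a ∈ omegaCenter p E₂).2.2 _ h) (hx' ▸ hx'p))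
  have hZn : ∀ {s : Ω}, s ∈ S → ∀ a ∈ Z, s * a * s⁻¹ ∈ Z := fun hs a ha =>
    hZdef ▸ omegaCenter_conj hd.norm hs (hZdef ▸ ha)
  -- `[Z, x'] ≤ Y`
  have hcY : ∀ a ∈ Z, a * (x' : Ω) * a⁻¹ * (x' : Ω)⁻¹ ∈ Y := by
    intro a ha
    have hw1 : a * (x' : Ω) * a⁻¹ * (x' : Ω)⁻¹ ∈ Z := by
      rw [show a * (x' : Ω) * a⁻¹ * (x' : Ω)⁻¹ = a * ((x' : Ω) * a⁻¹ * (x' : Ω)⁻¹) by group]
      exact mul_mem ha (hZn hx'S _ (inv_mem ha))
    have haP : a ∈ P := hI.le P hP' E₂ hE' (hZdef ▸ ha)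
    -- it lies in the image of `Z`, which `x'` centralizes
    obtain ⟨w, hwZ, hw⟩ : ∃ w : P, (w : Ω) ∈ Z ∧
        (((α : MulAut P) w : P) : Ω) = a * (x' : Ω) * a⁻¹ * (x' : Ω)⁻¹ := by
      obtain ⟨b, hb⟩ : ∃ b : P, b = (α : MulAut P)⁻¹ ⟨a, haP⟩ := ⟨_, rfl⟩
      refine ⟨b * x * b⁻¹ * x⁻¹, ?_, ?_⟩
      · push_cast
        exact mul_mem (hZn (hPS b.2) _ hx) (inv_mem hx)
      · rw [map_mul, map_mul, map_mul, map_inv, map_inv, ← hx', hb, MulAut.apply_inv_self]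
        push_cast
        rfl
    have hcomm : (x' : Ω) * (a * (x' : Ω) * a⁻¹ * (x' : Ω)⁻¹) =
        a * (x' : Ω) * a⁻¹ * (x' : Ω)⁻¹ * (x' : Ω) := by
      rw [← hw, hx']
      have h : x * w = w * x := Subtype.ext (hZc _ hx _ hwZ)
      have := congrArg (α : MulAut P) h
      rw [map_mul, map_mul] at this
      exact congrArg Subtype.val this
    rw [hYdef]
    by_contra hwY
    exact hx'E (mem_of_comm hd (hZdef ▸ hw1) hwY hx'S hcomm)
  let f : Z →* Y :=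
    { toFun := fun a => ⟨(a : Ω) * (x' : Ω) * (a : Ω)⁻¹ * (x' : Ω)⁻¹, hcY a a.2⟩
      map_one' := Subtype.ext (by simp)
      map_mul' := fun a b => Subtype.ext (by
        have hb : (b : Ω) * (x' : Ω) * (b : Ω)⁻¹ * (x' : Ω)⁻¹ ∈ omegaCenter p S := hYdef ▸ hcY b b.2
        obtain ⟨c, hc⟩ : ∃ c, c = (b : Ω) * (x' : Ω) * (b : Ω)⁻¹ * (x' : Ω)⁻¹ := ⟨_, rfl⟩
        rw [← hc] at hb
        show (a : Ω) * b * (x' : Ω) * ((a : Ω) * b)⁻¹ * (x' : Ω)⁻¹ =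
          (a : Ω) * (x' : Ω) * (a : Ω)⁻¹ * (x' : Ω)⁻¹ *
            ((b : Ω) * (x' : Ω) * (b : Ω)⁻¹ * (x' : Ω)⁻¹)
        rw [← hc, ← hb.2.2 _ (mul_mem (mul_mem (mul_mem (hZS a.2) hx'S) (inv_mem (hZS a.2)))
            (inv_mem hx'S)),
          show (a : Ω) * b * (x' : Ω) * ((a : Ω) * b)⁻¹ * (x' : Ω)⁻¹ =
            (a : Ω) * ((b : Ω) * (x' : Ω) * (b : Ω)⁻¹ * (x' : Ω)⁻¹) *
              ((x' : Ω) * (a : Ω)⁻¹ * (x' : Ω)⁻¹) by group,
          ← hc, ← hb.2.2 _ (hZS a.2)]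
        group) }
  have hker : f.ker ≤ Y.subgroupOf Z := by
    intro a ha
    rw [Subgroup.mem_subgroupOf, hYdef]
    by_contra haY
    refine hx'E (mem_of_comm hd (hZdef ▸ a.2) haY hx'S ?_)
    have h : (a : Ω) * (x' : Ω) * (a : Ω)⁻¹ * (x' : Ω)⁻¹ = 1 :=
      congrArg Subtype.val (MonoidHom.mem_ker.1 ha)
    rw [mul_inv_eq_one, mul_inv_eq_iff_eq_mul] at h
    exact h.symm
  obtain ⟨j, hj⟩ : ∃ j, Nat.card Y = p ^ j := (hS.to_le (hYZ.trans hZS)).exists_card_eq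
  have hY2 : Nat.card Y = p ^ 2 := by
    have h1 : Nat.card Z ≤ Nat.card Y * Nat.card Y := by
      rw [f.ker.card_eq_card_quotient_mul_card_subgroup,
        Nat.card_congr (QuotientGroup.quotientKerEquivRange f).toEquiv]
      refine Nat.mul_le_mul (Subgroup.card_le_card_group _) ((Subgroup.card_le_of_le hker).trans ?_)
      rw [Nat.card_congr (Subgroup.subgroupOfEquivOfLe hYZ).toEquiv]
    have h2 : Nat.card Y < Nat.card Z := lt_of_le_of_ne (Subgroup.card_le_of_le hYZ) fun h =>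
      hzY (hYdef ▸ (Subgroup.eq_of_le_of_card_ge hYZ h.ge).symm ▸ hzZ)
    rw [hZ, hj, ← pow_add] at h1
    rw [hZ, hj] at h2
    have := (Nat.pow_le_pow_iff_right hp'.one_lt).1 h1
    have := (Nat.pow_lt_pow_iff_right hp'.one_lt).1 h2
    rw [hj, show j = 2 by omega]
  -- the transvection on `Z`
  have hsplit : ∀ v ∈ Z, ∃ y ∈ Y, ∃ i : ℤ, v = y * z ^ i := by
    have hzp : z ^ p ∈ Y := by rw [hZe z hzZ]; exact one_mem Y
    obtain ⟨hc, hdec⟩ := card_sup_zpowers_of_pow_mem (Z := Y) (x := z)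
      (fun c hc => hZc c (hYZ hc) z hzZ) hzp (hYdef ▸ hzY)
    have he : Y ⊔ Subgroup.zpowers z = Z :=
      Subgroup.eq_of_le_of_card_ge (sup_le hYZ (Subgroup.zpowers_le.2 hzZ))
        (by rw [hc, hY2, hZ, ← pow_succ'])
    intro v hv
    obtain ⟨y, hy, i, hi⟩ := hdec v (he.symm ▸ hv)
    exact ⟨y, hy, i, by rw [hi, zpow_natCast]⟩
  obtain ⟨s, hs, hsE⟩ : ∃ s ∈ S, s ∉ E₂ := ⟨x', hx'S, hx'E⟩
  letI : CommGroup Z := { (inferInstance : Group Z) with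
    mul_comm := fun a b => Subtype.ext (hZc a a.2 b b.2) }
  have hZE : Z ≤ E₂ := hZdef ▸ omegaCenter_le
  have hstab : ∀ σ : F.autGroup E₂, (Z.subgroupOf E₂).map ((σ : MulAut E₂)).toMonoidHom =
      Z.subgroupOf E₂ := fun σ => map_subgroupOf_eq hE.1.1 (by
    rintro _ ⟨w, hw, rfl⟩
    show (((σ : MulAut E₂) w : E₂) : Ω) ∈ Z
    exact hZdef ▸ omegaCenter_map (σ : MulAut E₂) (hZdef ▸ hw))
  let e := Subgroup.subgroupOfEquivOfLe hZE
  let L : F.autGroup E₂ →* MulAut Z :=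
    { toFun := fun σ => e.symm.trans ((((σ : MulAut E₂).subgroupMap (Z.subgroupOf E₂)).trans
        (MulEquiv.subgroupCongr (hstab σ))).trans e)
      map_one' := MulEquiv.ext fun v => Subtype.ext rfl
      map_mul' := fun σ τ => MulEquiv.ext fun v => Subtype.ext rfl }
  have hLv : ∀ (σ : F.autGroup E₂) (v : Z),
      ((L σ v : Z) : Ω) = (((σ : MulAut E₂) ⟨v, hZE v.2⟩ : E₂) : Ω) := fun σ v => rfl
  obtain ⟨t, ht⟩ : ∃ t, t = toAut F hE.1.1 hd.norm ⟨s, hs⟩ := ⟨_, rfl⟩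
  have hLt : ∀ (g : S) (v : Z), ((L (toAut F hE.1.1 hd.norm g) v : Z) : Ω) =
      (g : Ω) * v * (g : Ω)⁻¹ := fun g v => by rw [hLv, toAut_apply]
  obtain ⟨a, ha⟩ : ∃ a : Z, a = ⟨s * z * s⁻¹ * z⁻¹, mul_mem (hZn hs z hzZ) (inv_mem hzZ)⟩ := ⟨_, rfl⟩
  have hfixY : ∀ (g : S) (v : Z), (v : Ω) ∈ Y → L (toAut F hE.1.1 hd.norm g) v = v := fun g v hv =>
    Subtype.ext (by
      rw [hLt, ← (hYdef ▸ hv : (v : Ω) ∈ omegaCenter p S).2.2 g g.2, mul_inv_cancel_right])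
  have hne : L t ≠ 1 := fun h => hsE (mem_of_comm hd (hZdef ▸ hzZ) hzY hs (by
    have := congrArg Subtype.val (DFunLike.congr_fun h ⟨z, hzZ⟩)
    rw [ht, hLt, MulAut.one_apply] at this
    exact mul_inv_eq_iff_eq_mul.1 this))
  have hfixiff : ∀ v : Z, L t v = v ↔ (v : Ω) ∈ Y := fun v => ⟨fun h => by
    by_contra hvY
    refine hsE (mem_of_comm hd (hZdef ▸ v.2) (hYdef ▸ hvY) hs ?_)
    have := congrArg Subtype.val h
    rw [ht, hLt] at this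
    exact mul_inv_eq_iff_eq_mul.1 this, fun h => by rw [ht]; exact hfixY _ v h⟩
  have himg : ∀ v : Z, L t v * v⁻¹ ∈ Subgroup.zpowers a := by
    intro v
    obtain ⟨y, hy, i, hv⟩ := hsplit v v.2
    have hv' : v = ⟨y, hYZ hy⟩ * ⟨z, hzZ⟩ ^ i := Subtype.ext (by simpa using hv)
    refine Subgroup.mem_zpowers_iff.2 ⟨i, ?_⟩
    rw [hv', map_mul, map_zpow, (hfixiff ⟨y, hYZ hy⟩).2 hy,
      show L t ⟨z, hzZ⟩ = a * ⟨z, hzZ⟩ from Subtype.ext (by rw [ht, hLt, Subgroup.coe_mul, ha]; group),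
      mul_zpow, mul_inv, mul_mul_mul_comm, mul_inv_cancel, one_mul, mul_inv_cancel_right]
  have htp : L t ^ p = 1 := by
    rw [← map_pow, ht, ← map_pow]
    refine MulEquiv.ext fun v => Subtype.ext ?_
    rw [hLt, MulAut.one_apply]
    have hmem : (((⟨s, hs⟩ : S) ^ p : S) : Ω) ∈ E₂ := by
      rw [SubgroupClass.coe_pow]; exact hd.pow_mem hs
    rw [← (hZdef ▸ v.2 : (v : Ω) ∈ omegaCenter p E₂).2.2 _ hmem, mul_inv_cancel_right]
  have hexp : ∀ v : Z, v ^ p = 1 := fun v => Subtype.ext (hZe v v.2)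
  have hafix : L t a = a := fix_of_img hexp himg (k := 1) (by rw [pow_one]; exact htp)
  have := finite_mulAut_of_le (S := S) hE.1.1
  obtain ⟨Ty, hTy, -⟩ := exists_sylow hS hF hE hd.norm
  have hTz : ∀ u ∈ (Ty : Subgroup (F.autGroup E₂)), L u ∈ Subgroup.zpowers (L t) := by
    intro u hu
    obtain ⟨g, rfl⟩ := hTy u hu
    obtain ⟨e', he', i, hgi⟩ := hd.gen hs hsE g.2
    refine Subgroup.mem_zpowers_iff.2 ⟨i, ?_⟩
    rw [show g = ⟨e', hE.1.1 he'⟩ * ⟨s, hs⟩ ^ i from Subtype.ext (by simpa using hgi), map_mul,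
      map_mul, map_zpow, map_zpow, ← ht,
      show L (toAut F hE.1.1 hd.norm ⟨e', hE.1.1 he'⟩) = 1 from MulEquiv.ext fun v => Subtype.ext (by
        rw [hLt, MulAut.one_apply,
          ← (hZdef ▸ v.2 : (v : Ω) ∈ omegaCenter p E₂).2.2 e' he', mul_inv_cancel_right]), one_mul]
  have hzo : orderOf (L t) = p := orderOf_eq_prime htp hne
  have hT : Transv p L t a :=
    ⟨hexp, himg, hafix, hne, fun c h1 h2 => alone_of_sylow L Ty hTz hzo h1 h2⟩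
  have hfix : Nat.card (fixOf (L t)) = p ^ 2 := by
    rw [← hY2, ← Nat.card_congr (Subgroup.subgroupOfEquivOfLe hYZ).toEquiv]
    congr 2
    ext v
    exact (hfixiff v).trans Subgroup.mem_subgroupOf.symm
  obtain ⟨β, hβ, w, hw, hβw⟩ := hm
  obtain ⟨c, hc1, hc⟩ := exists_fixed_line hp2 hT hZ hfix
    ⟨⟨β, hβ⟩, ⟨w, hYZ (hYdef ▸ hw)⟩, (hfixiff _).2 (hYdef ▸ hw), fun h => hβw (hYdef ▸ (hfixiff _).1 h)⟩
  -- the line
  obtain ⟨K, hK⟩ : ∃ K, K = ((⨅ g : F.autGroup E₂, fixOf (L (g * t * g⁻¹)))).map Z.subtype := ⟨_, rfl⟩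
  have hKmem : ∀ v : Z, (v : Ω) ∈ K ↔ ∀ g : F.autGroup E₂, L (g * t * g⁻¹) v = v := by
    intro v
    rw [hK]
    constructor
    · rintro ⟨u, hu, huv⟩ g
      obtain rfl : u = v := Subtype.ext huv
      exact Subgroup.mem_iInf.1 hu g
    · exact fun h => ⟨v, Subgroup.mem_iInf.2 h, rfl⟩
  have hKY : K ≤ Y := by
    intro w hw
    have hwZ : w ∈ Z := by
      rw [hK] at hw
      exact Subgroup.map_subtype_le _ hw
    have h := (hKmem ⟨w, hwZ⟩).1 hw 1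
    rw [one_mul, inv_one, mul_one] at h
    exact (hfixiff ⟨w, hwZ⟩).1 h
  have hKinv : ∀ σ ∈ F.autGroup E₂, ∀ v : E₂, (v : Ω) ∈ K →
      (((σ : MulAut E₂) v : E₂) : Ω) ∈ K := by
    intro σ hσ v hv
    have hvZ : (v : Ω) ∈ Z := hYZ (hKY hv)
    have h := (hKmem ⟨v, hvZ⟩).1 hv
    have : (((σ : MulAut E₂) v : E₂) : Ω) = ((L ⟨σ, hσ⟩ ⟨v, hvZ⟩ : Z) : Ω) := by rw [hLv]
    rw [this, hKmem]
    intro g
    rw [← MulAut.mul_apply, ← map_mul, show g * t * g⁻¹ * ⟨σ, hσ⟩ =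
      ⟨σ, hσ⟩ * ((⟨σ, hσ⟩⁻¹ * g) * t * (⟨σ, hσ⟩⁻¹ * g)⁻¹) by group, map_mul, MulAut.mul_apply, h]
  have hKA : ∀ φ ∈ F.autGroup S, ∀ v : S, (v : Ω) ∈ K → ((φ v : S) : Ω) ∈ K := by
    intro φ hφ v hv
    obtain ⟨β', hβ', hβv⟩ := exists_restrict (P := E₂) hd.le hφ fun w hw => by
      by_contra hwE
      -- the image of `E₂` centralizes an element of `Z` outside `Y`
      obtain ⟨u, hu⟩ := φ.surjective ⟨z, hZS hzZ⟩
      have huZ : (u : Ω) ∈ Z := by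
        have := hA φ⁻¹ (inv_mem hφ) ⟨z, hZS hzZ⟩ hzZ
        rwa [← hu, MulAut.inv_apply_self] at this
      refine hwE (mem_of_comm hd (hZdef ▸ hzZ) hzY (φ w).2 ?_)
      have h : w * u = u * w := Subtype.ext ((hZdef ▸ huZ : (u : Ω) ∈ omegaCenter p E₂).2.2 _ hw).symm
      have := congrArg φ h
      rw [map_mul, map_mul, hu] at this
      exact congrArg Subtype.val this
    have hvE : (v : Ω) ∈ E₂ := hZE (hYZ (hKY hv))
    have h := hKinv β' hβ' ⟨v, hvE⟩ hv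
    rwa [hβv] at h
  have hbot := hI.reduced K (hKY.trans (hYZ.trans hZS)) hKA fun Q hQ' => by
    have hQ := hI.ess Q hQ'
    refine ⟨hKY.trans (hYdef ▸ (omegaS_le hQ).trans omegaCenter_le), fun σ hσ => ?_⟩
    by_cases hmQ : Moved p F Q
    · -- `Q = E₂`
      obtain ⟨u, huQ, huY⟩ := hmQ.exists_mem hQ
      have hdQ := hI.step Q hQ'
      have huE : u ∈ E₂ := hI.le E₂ hE' Q hQ' huQ
      have huZ : u ∈ Z := hmemZ (hd.le huE) (fun b hb => (hZdef ▸ hb : b ∈ omegaCenter p E₂).2.2 u huE)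
        huQ.2.1
      have hQE : Q = E₂ := by
        have := finite_le hd.le
        refine Subgroup.eq_of_le_of_card_ge
          (fun q hq => mem_of_comm hd (hZdef ▸ huZ) huY (hQ.1.1 hq) (huQ.2.2 q hq).symm) ?_
        exact (Nat.eq_of_mul_eq_mul_left hp'.pos (hd.card.symm.trans hdQ.card)).le
      subst hQE
      exact hKinv σ hσ
    · exact keep_of_fix hS hF hQ (hI.step Q hQ') (not_moved_iff.1 hmQ) (hYdef ▸ hKY) hKA σ hσ
  refine hc1 (Subtype.ext ?_)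
  have : (c : Ω) ∈ K := (hKmem c).2 hc
  rw [hbot, Subgroup.mem_bot] at this
  exact this

end CfsgLib.Fusion.NormalEssential
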