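import Cfsg.Agent.Lib.Fusion.NormalEssential.PairSpan

/-!
# An essential subgroup fixing `Ω₁Z(E)` but twisting the elementary subgroup of order `p³` above it

The image of such an automizer on `M / Z`, `M = ⟨a, γ a⟩ Z`, contains a torus commuting with the
element of `S` that acts as a transvection, which is impossible.
-/

set_option autoImplicit false

namespace CfsgLib.Fusion.NormalEssential

open Cfsg Cfsg.FusionSystem CfsgLib CfsgLib.Fusion CfsgLib.Fusion.RankThree CfsgLib.Fusion.TransvAut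
open scoped commutatorElement

variable {p : ℕ} [hp : Fact p.Prime] {Ω : Type*} [Group Ω] {S : Subgroup Ω} [Finite S]
  {F : FusionSystem S} {E₂ P : Subgroup Ω} {Z Y : Subgroup Ω} {z : Ω}

/-- An element of `E` of order dividing `p` commuting with `E` into `Z`. -/
def Good (p : ℕ) (E₂ Z : Subgroup Ω) (v : Ω) : Prop :=
  v ∈ E₂ ∧ v ^ p = 1 ∧ ∀ g ∈ E₂, ⁅g, v⁆ ∈ Z

set_option maxHeartbeats 3200000 in
/-- No automorphism of `P` moves `a` off `Z ⟨a⟩`. -/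
theorem false_of_twist (hS : IsPGroup p S) (hp2 : p ≠ 2) (hsr : SecLE p S) (hF : F.IsSaturated p)
    (hd : Step p S E₂) (hm : Moved p F E₂) (hdP : Step p S P) (hP : F.IsEssential p P)
    (hq : Square p S E₂ Z Y z) (hZP : Z ≤ P)
    (hZinv : ∀ β ∈ F.autGroup P, ∀ x : P, (x : Ω) ∈ Z → (((β : MulAut P) x : P) : Ω) ∈ Z)
    {a : P} (hap : (a : Ω) ^ p = 1) (haZ : (a : Ω) ∉ Z) (haE : (a : Ω) ∈ E₂)
    (hSa : ∀ g ∈ S, ⁅g, (a : Ω)⁆ ∈ Z)
    (huniq : ∀ v, Good p E₂ Z v → ∃ ζ ∈ Z, ∃ i : ℤ, v = ζ * (a : Ω) ^ i)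
    {γ : MulAut P} (hγ : γ ∈ F.autGroup P)
    (hmov : ∀ ζ ∈ Z, ∀ i : ℤ, ((γ a : P) : Ω) ≠ ζ * (a : Ω) ^ i) : False := by
  classical
  have hp' := hp.out
  have hZE : Z ≤ E₂ := hq.Z_eq ▸ omegaCenter_le
  have hPS := hdP.le
  have hYP : Y ≤ P := hq.le.trans hZP
  have := finite_le hPS
  have := finite_mulAut_of_le (S := S) hPS
  have hzp : z ^ p = 1 := (hq.omega hq.mem).2.1
  -- images of `a` lie in `E₂` and commute with `P` into `Z`
  have himgE : ∀ β ∈ F.autGroup P, ((β a : P) : Ω) ∈ E₂ := by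
    intro β hβ
    obtain ⟨w, hw⟩ := β.surjective ⟨z, hZP hq.mem⟩
    have hwZ : (w : Ω) ∈ Z := by
      have := hZinv β⁻¹ (inv_mem hβ) ⟨z, hZP hq.mem⟩ hq.mem
      rwa [← hw, MulAut.inv_apply_self] at this
    refine mem_of_comm hd (hq.omega hq.mem) (hq.Y_eq ▸ hq.not_mem) (hPS (β a).2) ?_
    have h : w * a = a * w := Subtype.ext (hq.central_in hwZ haE).eq
    have := congrArg β h
    rw [map_mul, map_mul, hw] at this
    exact (congrArg Subtype.val this).symm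
  have himgp : ∀ β : MulAut P, ((β a : P) : Ω) ^ p = 1 := fun β => by
    rw [← Subgroup.coe_pow, ← map_pow, show a ^ p = 1 from Subtype.ext hap, map_one, Subgroup.coe_one]
  have himgc : ∀ β ∈ F.autGroup P, ∀ g ∈ P, ⁅g, ((β a : P) : Ω)⁆ ∈ Z := by
    intro β hβ g hg
    obtain ⟨h, hh⟩ := β.surjective ⟨g, hg⟩
    have := hZinv β hβ ⁅h, a⁆ (hSa h (hPS h.2))
    rw [map_commutatorElement, hh] at this
    simpa [commutatorElement_def] using this
  obtain ⟨a', ha'def⟩ : ∃ a', a' = ((γ a : P) : Ω) := ⟨_, rfl⟩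
  rw [← ha'def] at hmov
  have ha'E : a' ∈ E₂ := ha'def ▸ himgE γ hγ
  have ha'P : a' ∈ P := ha'def ▸ (γ a).2
  have ha'p : a' ^ p = 1 := ha'def ▸ himgp γ
  have hPa' : ∀ g ∈ P, ⁅g, a'⁆ ∈ Z := ha'def ▸ himgc γ hγ
  have hab : ⁅(a : Ω), a'⁆ ∈ Z := hPa' a a.2
  obtain ⟨m, hmdef⟩ : ∃ m, m = ⁅(a : Ω), a'⁆ := ⟨_, rfl⟩
  have hm1 : m ≠ 1 := hmdef ▸ hq.pair_ne hsr hd.le haE ha'E hap ha'p haZ hmov
  have hspan : ∀ β ∈ F.autGroup P, ∃ ζ ∈ Z, ∃ i j : ℤ,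
      ((β a : P) : Ω) = ζ * ((a : Ω) ^ i * a' ^ j) := fun β hβ =>
    hq.span_of_pair hsr hd.le hp2 haE ha'E (himgE β hβ) hap ha'p (himgp β) haZ hmov hab
      (himgc β hβ a a.2) (himgc β hβ a' ha'P)
  -- `m` spans `Y`
  have hmZ : m ∈ Z := hmdef ▸ hab
  have hminv : ∀ β ∈ F.autGroup P,
      ∃ k : ℤ, (((β : MulAut P) ⟨m, hZP hmZ⟩ : P) : Ω) = m ^ k := by
    intro β hβ
    obtain ⟨ζ, hζ, i, j, h1⟩ := hspan β hβ
    obtain ⟨ζ', hζ', i', j', h2⟩ := hspan (β * γ) (mul_mem hβ hγ)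
    refine ⟨i * j' - j * i', ?_⟩
    have e : (⟨m, hZP hmZ⟩ : P) = ⁅a, γ a⁆ :=
      Subtype.ext (by simp [hmdef, ha'def, commutatorElement_def])
    rw [MulAut.mul_apply] at h2
    rw [e, map_commutatorElement]
    show ((⁅β a, β (γ a)⁆ : P) : Ω) = _
    rw [hmdef, ← hq.br_span haE ha'E hab hζ hζ' i j i' j', ← h1, ← h2]
    simp [commutatorElement_def]
  have hmp : m ^ p = 1 := (hq.omega hmZ).2.1
  have hmY : m ∈ Y := by
    obtain ⟨K, hK⟩ : ∃ K, K = Subgroup.zpowers m := ⟨_, rfl⟩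
    have hKn : S ≤ Subgroup.normalizer (K : Set Ω) := fun s hs => by
      have key : ∀ s ∈ S, ∀ w ∈ K, s * w * s⁻¹ ∈ K := fun s hs w hw => by
        rw [hK] at hw ⊢
        obtain ⟨i, rfl⟩ := Subgroup.mem_zpowers_iff.1 hw
        obtain ⟨k, hk⟩ := hminv _ (toAut F hPS hdP.norm ⟨s, hs⟩).2
        rw [toAut_apply] at hk
        rw [← conj_zpow, show s * m * s⁻¹ = m ^ k from hk]
        exact zpow_mem (zpow_mem (Subgroup.mem_zpowers m) k) i
      refine Subgroup.mem_normalizer_iff.2 fun w => ⟨key s hs w, fun hw => ?_⟩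
      have := key s⁻¹ (inv_mem hs) _ hw
      rwa [inv_inv, show s⁻¹ * (s * w * s⁻¹) * s = w by group] at this
    have hKS : K ≤ S := hK ▸ Subgroup.zpowers_le.2 (hd.le (hZE hmZ))
    obtain ⟨t, htK, ht, ht1⟩ := exists_mem_omegaS hS hKS hKn
      (hK ▸ fun e => hm1 (Subgroup.zpowers_eq_bot.1 e))
    rw [hK] at htK
    obtain ⟨i, hi⟩ := Subgroup.mem_zpowers_iff.1 htK
    rw [← hq.Y_eq] at ht
    by_contra hmY
    obtain ⟨k, hk⟩ := dvd_of_zpow_mem hmp hmY (a := i) (hi.symm ▸ ht)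
    exact ht1 (by rw [← hi, hk, zpow_mul, zpow_natCast, hmp, one_zpow])
  have hYinv : ∀ β ∈ F.autGroup P, ∀ x : P, (x : Ω) ∈ Y →
      (((β : MulAut P) x : P) : Ω) ∈ Y := by
    intro β hβ x hx
    obtain ⟨i, hi⟩ := hq.gen hmY hm1 hx
    obtain ⟨k, hk⟩ := hminv β hβ
    rw [show x = ⟨m, hZP hmZ⟩ ^ i from Subtype.ext (by rw [SubgroupClass.coe_zpow]; exact hi),
      map_zpow, SubgroupClass.coe_zpow, hk]
    exact zpow_mem (zpow_mem hmY k) i
  -- an element of `E₂` moving `a'` modulo `Z`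
  obtain ⟨g, hgE, hga'⟩ : ∃ g ∈ E₂, ⁅g, a'⁆ ∉ Z := by
    by_contra h
    push Not at h
    obtain ⟨ζ, hζ, i, hi⟩ := huniq a' ⟨ha'E, ha'p, h⟩
    exact hmov ζ hζ i hi
  have hgS : g ∈ S := hd.le hgE
  have hgP : g ∉ P := fun h => hga' (hPa' g h)
  have hgZ : ∀ ζ ∈ Z, g * ζ * g⁻¹ = ζ := fun ζ hζ => by
    rw [← (hq.central_in hζ hgE).eq, mul_inv_cancel_right]
  obtain ⟨z₁, hz₁⟩ : ∃ z₁, z₁ = ⁅g, (a : Ω)⁆ := ⟨_, rfl⟩
  have hz₁Z : z₁ ∈ Z := hz₁ ▸ hSa g hgS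
  have hga : g * (a : Ω) * g⁻¹ = z₁ * a := by rw [hz₁, commutatorElement_def]; group
  obtain ⟨gA, hgA⟩ : ∃ gA, gA = toAut F hPS hdP.norm ⟨g, hgS⟩ := ⟨_, rfl⟩
  have hgAv : ∀ v : P, (((gA : MulAut P) v : P) : Ω) = g * v * g⁻¹ := fun v => by rw [hgA]; rfl
  obtain ⟨ζ₁, hζ₁, k, l, hga'2⟩ := hspan ((gA : MulAut P) * γ) (mul_mem gA.2 hγ)
  rw [MulAut.mul_apply, hgAv, ← ha'def] at hga'2
  have hl : (p : ℤ) ∣ l - 1 := by
    have e : g * m * g⁻¹ = m ^ l := by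
      rw [hmdef, show g * ⁅(a : Ω), a'⁆ * g⁻¹ = ⁅g * (a : Ω) * g⁻¹, g * a' * g⁻¹⁆ by
        simp only [commutatorElement_def]; group, hga, hga'2]
      have := hq.br_span haE ha'E hab hz₁Z hζ₁ 1 0 k l
      simpa using this
    rw [hgZ m hmZ] at e
    have ho : orderOf m = p := orderOf_eq_prime hmp hm1
    rw [← ho]
    exact orderOf_dvd_iff_zpow_eq_one.2 (by rw [zpow_sub_one, ← e, mul_inv_cancel])
  have hga'3 : g * a' * g⁻¹ = ζ₁ * ((a : Ω) ^ k * a') := by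
    obtain ⟨c, hc⟩ := hl
    rw [hga'2, show l = (p : ℤ) * c + 1 by omega, zpow_add_one, zpow_mul, zpow_natCast, ha'p,
      one_zpow, one_mul]
  have hk : ¬ (p : ℤ) ∣ k := by
    rintro ⟨c, rfl⟩
    refine hga' ?_
    rw [commutatorElement_def, hga'3, zpow_mul, zpow_natCast, hap, one_zpow, one_mul,
      mul_inv_cancel_right]
    exact hζ₁
  -- commutators with elements of `P ∩ E₂`
  have hbrD : ∀ d, d ∈ P → d ∈ E₂ → ⁅d, (a : Ω)⁆ ∈ Z ∧ ⁅d, a'⁆ ∈ Z := fun d hdP' _ =>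
    ⟨hSa d (hPS hdP'), hPa' d hdP'⟩
  have hDa : ∀ d, d ∈ P → d ∈ E₂ → ⁅d, (a : Ω)⁆ ∈ Y := by
    by_contra hcon
    push Not at hcon
    obtain ⟨d₀, hd₀P, hd₀E, hd₀⟩ := hcon
    obtain ⟨D, hD⟩ : ∃ D, D = (P ⊓ E₂ : Subgroup Ω) := ⟨_, rfl⟩
    have := finite_le ((hD ▸ inf_le_left : D ≤ P).trans hPS)
    have hmemD : ∀ d : D, (d : Ω) ∈ P ∧ (d : Ω) ∈ E₂ := fun d => Subgroup.mem_inf.1 (hD ▸ d.2)
    have hbr : ∀ (b : Ω), (∀ d : D, ⁅(d : Ω), b⁆ ∈ Z) → ∀ d d' : D,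
        ⁅(d : Ω) * d', b⁆ = ⁅(d : Ω), b⁆ * ⁅(d' : Ω), b⁆ := by
      intro b hb d d'
      have e : ⁅(d : Ω) * d', b⁆ = (d : Ω) * ⁅(d' : Ω), b⁆ * (d : Ω)⁻¹ * ⁅(d : Ω), b⁆ := by
        simp only [commutatorElement_def]; group
      rw [e, ← (hq.central_in (hb d') (hmemD d).2).eq, mul_inv_cancel_right,
        (hq.central_in (hb d') (hZE (hb d))).eq]
    let ψ : D →* Z × Z :=
      { toFun := fun d => (⟨⁅(d : Ω), (a : Ω)⁆, (hbrD d (hmemD d).1 (hmemD d).2).1⟩,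
          ⟨⁅(d : Ω), a'⁆, (hbrD d (hmemD d).1 (hmemD d).2).2⟩)
        map_one' := Prod.ext (Subtype.ext (commutatorElement_one_left _))
          (Subtype.ext (commutatorElement_one_left _))
        map_mul' := fun d d' => Prod.ext
          (Subtype.ext (hbr _ (fun d => (hbrD d (hmemD d).1 (hmemD d).2).1) d d'))
          (Subtype.ext (hbr _ (fun d => (hbrD d (hmemD d).1 (hmemD d).2).2) d d')) }
    have hψv : ∀ d : D, (((ψ d).1 : Z) : Ω) = ⁅(d : Ω), (a : Ω)⁆ ∧ (((ψ d).2 : Z) : Ω) = ⁅(d : Ω), a'⁆ :=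
      fun d => ⟨rfl, rfl⟩
    -- the first coordinate is surjective
    have hfst : ∀ u : Z, ∃ d : D, (ψ d).1 = u := by
      obtain ⟨f, hf⟩ : ∃ f, f = (MonoidHom.fst Z Z).comp ψ := ⟨_, rfl⟩
      have ha'D : a' ∈ D := hD ▸ Subgroup.mem_inf.2 ⟨ha'P, ha'E⟩
      have hd₀D : d₀ ∈ D := hD ▸ Subgroup.mem_inf.2 ⟨hd₀P, hd₀E⟩
      have h1 : Y.subgroupOf Z < f.range := by
        refine lt_of_le_of_ne (fun w hw => ?_) fun e => hd₀ ?_
        · obtain ⟨i, hi⟩ := hq.gen hmY hm1 (show (w : Ω) ∈ Y from hw)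
          refine ⟨(⟨a', ha'D⟩ : D) ^ (-i), ?_⟩
          rw [map_zpow, hf]
          refine Subtype.ext ?_
          rw [SubgroupClass.coe_zpow, hi, zpow_neg, ← inv_zpow]
          show (⁅a', (a : Ω)⁆⁻¹) ^ i = _
          rw [commutatorElement_inv, ← hmdef]
        · have hr : f ⟨d₀, hd₀D⟩ ∈ f.range := ⟨_, rfl⟩
          rw [← e, hf] at hr
          exact hr
      have h2 : f.range = ⊤ := by
        have := finite_le (hZP.trans hPS)
        refine Subgroup.eq_top_of_card_eq _ ?_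
        obtain ⟨e, he, hce⟩ := (Nat.dvd_prime_pow hp').1 (hq.cardZ ▸ Subgroup.card_subgroup_dvd_card f.range)
        have hlt : Nat.card (Y.subgroupOf Z) < Nat.card f.range := by
          refine lt_of_le_of_ne (Subgroup.card_le_of_le h1.le) fun h => h1.ne ?_
          exact Subgroup.eq_of_le_of_card_ge h1.le h.ge
        rw [Nat.card_congr (Subgroup.subgroupOfEquivOfLe hq.le).toEquiv, hq.cardY, hce] at hlt
        have := (Nat.pow_lt_pow_iff_right hp'.one_lt).1 (by rwa [pow_one] : p ^ 1 < p ^ e)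
        rw [hce, hq.cardZ, show e = 2 by omega]
      intro u
      obtain ⟨d, hd'⟩ := h2.ge (Subgroup.mem_top u)
      exact ⟨d, by rw [← hd', hf]; rfl⟩
    -- conjugation by `g` adds the first coordinate to the second
    have hshear : ∀ d : D, ∃ d' : D, (ψ d').1 = (ψ d).1 ∧
        (ψ d').2 = (ψ d).2 * ((ψ d).1 ^ k)⁻¹ := by
      intro d
      have hd'P : g * (d : Ω) * g⁻¹ ∈ P := conj_mem_E hdP.norm hgS (hmemD d).1
      have hd'E : g * (d : Ω) * g⁻¹ ∈ E₂ := mul_mem (mul_mem hgE (hmemD d).2) (inv_mem hgE)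
      obtain ⟨D', hD'⟩ : ∃ D', D' = g * (d : Ω) * g⁻¹ := ⟨_, rfl⟩
      rw [← hD'] at hd'P hd'E
      refine ⟨⟨D', hD ▸ Subgroup.mem_inf.2 ⟨hd'P, hd'E⟩⟩, ?_⟩
      have hb1 := hbrD D' hd'P hd'E
      have hkey : ∀ b, g * ⁅(d : Ω), b⁆ * g⁻¹ = ⁅D', g * b * g⁻¹⁆ := fun b => by
        rw [hD']; simp only [commutatorElement_def]; group
      have h1 : ⁅D', (a : Ω)⁆ = ⁅(d : Ω), (a : Ω)⁆ := by
        have := hkey a
        rw [hgZ _ (hbrD d (hmemD d).1 (hmemD d).2).1, hga] at this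
        rw [this, show ⁅D', z₁ * (a : Ω)⁆ = ⁅D', z₁⁆ * (z₁ * ⁅D', (a : Ω)⁆ * z₁⁻¹) by
          simp only [commutatorElement_def]; group,
          commutatorElement_eq_one_iff_mul_comm.2 (hq.central_in hz₁Z hd'E).symm.eq, one_mul,
          (hq.central_in hz₁Z (hZE hb1.1)).eq, mul_inv_cancel_right]
      have h2 : ⁅(d : Ω), a'⁆ = ⁅(d : Ω), (a : Ω)⁆ ^ k * ⁅D', a'⁆ := by
        have := hkey a'
        rw [hgZ _ (hbrD d (hmemD d).1 (hmemD d).2).2, hga'3] at this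
        rw [this, show ⁅D', ζ₁ * ((a : Ω) ^ k * a')⁆ =
          ⁅D', ζ₁⁆ * (ζ₁ * ⁅D', (a : Ω) ^ k * a'⁆ * ζ₁⁻¹) by simp only [commutatorElement_def]; group,
          commutatorElement_eq_one_iff_mul_comm.2 (hq.central_in hζ₁ hd'E).symm.eq, one_mul]
        have hk1 : ⁅D', (a : Ω) ^ k * a'⁆ = ⁅(d : Ω), (a : Ω)⁆ ^ k * ⁅D', a'⁆ := by
          rw [show ⁅D', (a : Ω) ^ k * a'⁆ = ⁅D', (a : Ω) ^ k⁆ * ((a : Ω) ^ k * ⁅D', a'⁆ * ((a : Ω) ^ k)⁻¹) by
            simp only [commutatorElement_def]; group,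
            ← (hq.central_in hb1.2 (zpow_mem haE k)).eq, mul_inv_cancel_right, ← h1]
          have := hq.br_zpow hd'E haE hb1.1 1 k
          rw [zpow_one, one_mul] at this
          rw [this]
        rw [hk1, (hq.central_in hζ₁ (mul_mem (zpow_mem (hZE (hbrD d (hmemD d).1 (hmemD d).2).1) k)
          (hZE hb1.2))).eq, mul_inv_cancel_right]
      refine ⟨Subtype.ext h1, ?_⟩
      rw [eq_mul_inv_iff_mul_eq]
      refine Subtype.ext ?_
      rw [Subgroup.coe_mul, SubgroupClass.coe_zpow]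
      show ⁅D', a'⁆ * ⁅(d : Ω), (a : Ω)⁆ ^ k = ⁅(d : Ω), a'⁆
      rw [h2, (hq.central_in hb1.2 (zpow_mem (hZE (hbrD d (hmemD d).1 (hmemD d).2).1) k)).eq]
    -- so `ψ` is surjective
    have hsurj : Function.Surjective ψ := by
      have hsnd : ∀ u : Z, (1, u) ∈ ψ.range := by
        intro u
        obtain ⟨w, v, hwv⟩ := (Nat.prime_iff_prime_int.1 hp').coprime_iff_not_dvd.2 hk
        obtain ⟨d, hd'⟩ := hfst (u ^ (-v))
        obtain ⟨d', hd1, hd2⟩ := hshear d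
        refine ⟨d' * d⁻¹, ?_⟩
        have hup : u ^ (p : ℤ) = 1 := by rw [zpow_natCast]; exact Subtype.ext (hq.omega u.2).2.1
        rw [map_mul, map_inv]
        refine Prod.ext ?_ ?_
        · show (ψ d').1 * ((ψ d).1)⁻¹ = 1
          rw [hd1, mul_inv_cancel]
        · show (ψ d').2 * ((ψ d).2)⁻¹ = u
          have hcz : ∀ a b : Z, a * b = b * a := fun a b =>
            Subtype.ext (hq.central_in a.2 (hZE b.2)).eq
          rw [hd2, hcz ((ψ d).2), mul_inv_cancel_right, hd', ← zpow_mul, ← zpow_neg,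
            show -(-v * k) = 1 + (p : ℤ) * (-w) by linear_combination hwv, zpow_add, zpow_one,
            zpow_mul, hup, one_zpow, mul_one]
      rintro ⟨u₁, u₂⟩
      obtain ⟨d, hd'⟩ := hfst u₁
      obtain ⟨e, he⟩ := hsnd (((ψ d).2)⁻¹ * u₂)
      refine ⟨d * e, ?_⟩
      rw [map_mul, he]
      exact Prod.ext (by show (ψ d).1 * 1 = u₁; rw [mul_one, hd'])
        (by show (ψ d).2 * (((ψ d).2)⁻¹ * u₂) = u₂; rw [mul_inv_cancel_left])
    have hsec := (hsr.of_injective _ (Subgroup.inclusion_injective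
      ((hD ▸ inf_le_left : D ≤ P).trans hPS))) ⊤ ψ.ker le_top
      (fun g _ b hb => ψ.normal_ker.conj_mem b hb g)
      (fun g _ h _ => by
        rw [MonoidHom.mem_ker, map_commutatorElement, commutatorElement_eq_one_iff_mul_comm]
        exact Prod.ext (Subtype.ext (hq.central_in (ψ g).1.2 (hZE (ψ h).1.2)).eq)
          (Subtype.ext (hq.central_in (ψ g).2.2 (hZE (ψ h).2.2)).eq))
      (fun g _ => by
        rw [MonoidHom.mem_ker, map_pow]
        exact Prod.ext (Subtype.ext (by simpa using (hq.omega (ψ g).1.2).2.1))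
          (Subtype.ext (by simpa using (hq.omega (ψ g).2.2).2.1)))
    rw [Subgroup.card_top, ψ.ker.card_eq_card_quotient_mul_card_subgroup,
      Nat.card_congr (QuotientGroup.quotientKerEquivRange ψ).toEquiv,
      MonoidHom.range_eq_top.2 hsurj, Subgroup.card_top, Nat.card_prod, hq.cardZ, ← pow_add] at hsec
    exact absurd ((Nat.pow_le_pow_iff_right hp'.one_lt).1 (Nat.le_of_mul_le_mul_right hsec Nat.card_pos))
      (by norm_num)
  -- `[P, a] ≤ Y`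
  have hprop : ∀ β ∈ F.autGroup P, ∀ v : P, (∀ h : P, ((⁅h, v⁆ : P) : Ω) ∈ Y) →
      ∀ h : P, ((⁅h, (β : MulAut P) v⁆ : P) : Ω) ∈ Y := by
    intro β hβ v hv h
    obtain ⟨h', hh'⟩ := β.surjective h
    rw [← hh', ← map_commutatorElement]
    exact hYinv β hβ _ (hv h')
  have hYS : ∀ {y : Ω}, y ∈ Y → ∀ {s : Ω}, s ∈ S → s * y * s⁻¹ = y := fun {y} hy {s} hs => by
    rw [← hq.comm hy hs, mul_inv_cancel_right]
  have hPa : ∀ h : P, ((⁅h, a⁆ : P) : Ω) ∈ Y := by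
    obtain ⟨e, heP, heE⟩ : ∃ e ∈ P, e ∉ E₂ := by
      by_contra h
      push Not at h
      have := finite_le hd.le
      exact hgP ((Subgroup.eq_of_le_of_card_ge h
        (Nat.eq_of_mul_eq_mul_left hp'.pos (hd.card.symm.trans hdP.card)).le).symm ▸ hgE)
    -- the property follows from its case `h = e`
    have hred : ∀ v ∈ ({(a : Ω), a'} : Set Ω), v ∈ P ∧ ∀ d, d ∈ P → d ∈ E₂ → ⁅d, v⁆ ∈ Y := by
      rintro v (rfl | rfl)
      · exact ⟨a.2, hDa⟩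
      · refine ⟨ha'P, fun d hdP' hdE => ?_⟩
        obtain ⟨d', hd'⟩ := γ.surjective ⟨d, hdP'⟩
        have hd'E : (d' : Ω) ∈ E₂ := by
          refine mem_of_comm hd (hq.omega hq.mem) (hq.Y_eq ▸ hq.not_mem) (hPS d'.2) ?_
          have hwZ := hZinv γ hγ ⟨z, hZP hq.mem⟩ hq.mem
          have h : γ ⟨z, hZP hq.mem⟩ * ⟨d, hdP'⟩ = ⟨d, hdP'⟩ * γ ⟨z, hZP hq.mem⟩ :=
            Subtype.ext (hq.central_in hwZ hdE).eq
          rw [← hd', ← map_mul, ← map_mul] at h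
          exact (congrArg Subtype.val (γ.injective h)).symm
        have h1 : ((⁅d', a⁆ : P) : Ω) ∈ Y := by
          simpa [commutatorElement_def] using hDa d' d'.2 hd'E
        have := hYinv γ hγ _ h1
        rw [map_commutatorElement, hd'] at this
        rw [ha'def]
        simpa [commutatorElement_def] using this
    have hext : ∀ v, v ∈ P → (∀ d, d ∈ P → d ∈ E₂ → ⁅d, v⁆ ∈ Y) → ⁅e, v⁆ ∈ Y →
        ∀ h : P, ⁅(h : Ω), v⁆ ∈ Y := by
      intro v hv hD he h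
      let H : Subgroup P :=
        { carrier := {h | ⁅(h : Ω), v⁆ ∈ Y}
          one_mem' := by simp
          mul_mem' := fun {s t} (hs : ⁅(s : Ω), v⁆ ∈ Y) (ht : ⁅(t : Ω), v⁆ ∈ Y) => by
            show ⁅(s : Ω) * t, v⁆ ∈ Y
            rw [show ⁅(s : Ω) * t, v⁆ = (s : Ω) * ⁅(t : Ω), v⁆ * (s : Ω)⁻¹ * ⁅(s : Ω), v⁆ by
              simp only [commutatorElement_def]; group, hYS ht (hPS s.2)]
            exact mul_mem ht hs
          inv_mem' := fun {s} (hs : ⁅(s : Ω), v⁆ ∈ Y) => by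
            show ⁅(s : Ω)⁻¹, v⁆ ∈ Y
            rw [show ⁅(s : Ω)⁻¹, v⁆ = (s : Ω)⁻¹ * ⁅(s : Ω), v⁆⁻¹ * (s : Ω)⁻¹⁻¹ by
              simp only [commutatorElement_def]; group, hYS (inv_mem hs) (inv_mem (hPS s.2))]
            exact inv_mem hs }
      obtain ⟨d, hdE, i, hdi⟩ := hd.gen (hPS heP) heE (hPS h.2)
      have hdP' : d ∈ P := by
        rw [show d = (h : Ω) * (e ^ i)⁻¹ by rw [hdi, mul_inv_cancel_right]]
        exact mul_mem h.2 (inv_mem (zpow_mem heP i))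
      have hh : h = ⟨d, hdP'⟩ * ⟨e, heP⟩ ^ i := Subtype.ext (by simpa using hdi)
      rw [hh]
      exact H.mul_mem (hD d hdP' hdE) (H.zpow_mem (show (⟨e, heP⟩ : P) ∈ H from he) i)
    obtain ⟨y₁, hy₁, r, hr⟩ := hq.split _ (hSa e (hPS heP))
    obtain ⟨y₂, hy₂, s, hs⟩ := hq.split _ (hPa' e heP)
    -- reduce to `[e, a] ∈ Y`
    suffices hgoal : ⁅e, (a : Ω)⁆ ∈ Y by
      intro h
      simpa [commutatorElement_def] using hext a a.2 hDa hgoal h
    have hfromA' : (⁅e, a'⁆ ∈ Y) → ⁅e, (a : Ω)⁆ ∈ Y := by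
      intro h'
      have hall := hext a' ha'P (hred a' (by simp)).2 h'
      have hga'Y : ⁅e, g * a' * g⁻¹⁆ ∈ Y := by
        have he' : g⁻¹ * e * g ∈ P := by
          have := conj_mem_E hdP.norm (inv_mem hgS) heP
          rwa [inv_inv] at this
        have h1 := hall ⟨_, he'⟩
        rw [show ⁅e, g * a' * g⁻¹⁆ = g * ⁅g⁻¹ * e * g, a'⁆ * g⁻¹ by
          simp only [commutatorElement_def]; group, hYS h1 hgS]
        exact h1
      -- hence `[e, a^k] ∈ Y`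
      have hak : ⁅e, (a : Ω) ^ k⁆ ∈ Y := by
        have e1 : (a : Ω) ^ k = ζ₁⁻¹ * (g * a' * g⁻¹) * a'⁻¹ := by rw [hga'3]; group
        rw [e1, show ⁅e, ζ₁⁻¹ * (g * a' * g⁻¹) * a'⁻¹⁆ = ⁅e, ζ₁⁻¹⁆ * (ζ₁⁻¹ * ⁅e, g * a' * g⁻¹⁆ * ζ₁⁻¹⁻¹) *
          ((ζ₁⁻¹ * (g * a' * g⁻¹) * a'⁻¹) * ⁅e, a'⁆⁻¹ * (ζ₁⁻¹ * (g * a' * g⁻¹) * a'⁻¹)⁻¹) by
            simp only [commutatorElement_def]; group, hYS hga'Y (hPS (inv_mem (hZP hζ₁))),
          hYS (inv_mem h') (mul_mem (mul_mem (hPS (inv_mem (hZP hζ₁)))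
            (mul_mem (mul_mem hgS (hPS ha'P)) (inv_mem hgS))) (hPS (inv_mem ha'P)))]
        refine mul_mem (mul_mem ?_ hga'Y) (inv_mem h')
        exact hq.central e (hPS heP) _ (inv_mem hζ₁)
      obtain ⟨w, v, hwv⟩ := (Nat.prime_iff_prime_int.1 hp').coprime_iff_not_dvd.2 hk
      let H : Subgroup P :=
        { carrier := {t | ⁅e, (t : Ω)⁆ ∈ Y}
          one_mem' := by simp
          mul_mem' := fun {s t} (hs : ⁅e, (s : Ω)⁆ ∈ Y) (ht : ⁅e, (t : Ω)⁆ ∈ Y) => by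
            show ⁅e, (s : Ω) * t⁆ ∈ Y
            rw [show ⁅e, (s : Ω) * t⁆ = ⁅e, (s : Ω)⁆ * ((s : Ω) * ⁅e, (t : Ω)⁆ * (s : Ω)⁻¹) by
              simp only [commutatorElement_def]; group, hYS ht (hPS s.2)]
            exact mul_mem hs ht
          inv_mem' := fun {s} (hs : ⁅e, (s : Ω)⁆ ∈ Y) => by
            show ⁅e, (s : Ω)⁻¹⁆ ∈ Y
            rw [show ⁅e, (s : Ω)⁻¹⁆ = (s : Ω)⁻¹ * ⁅e, (s : Ω)⁆⁻¹ * (s : Ω)⁻¹⁻¹ by
              simp only [commutatorElement_def]; group, hYS (inv_mem hs) (inv_mem (hPS s.2))]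
            exact inv_mem hs }
      have hakH : a ^ k ∈ H := by
        show ⁅e, ((a ^ k : P) : Ω)⁆ ∈ Y
        rw [SubgroupClass.coe_zpow]; exact hak
      have : a ∈ H := by
        rw [← zpow_one a, ← hwv, zpow_add, mul_comm w, zpow_mul, zpow_natCast,
          show a ^ p = 1 from Subtype.ext hap, one_zpow, one_mul, mul_comm, zpow_mul]
        exact zpow_mem hakH v
      exact this
    by_cases hsd : (p : ℤ) ∣ (s : ℤ)
    · obtain ⟨c, hc⟩ := hsd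
      refine hfromA' ?_
      rw [hs, ← zpow_natCast, hc, zpow_mul, zpow_natCast, hzp, one_zpow, mul_one]
      exact hy₂
    obtain ⟨w, v, hwv⟩ := (Nat.prime_iff_prime_int.1 hp').coprime_iff_not_dvd.2 hsd
    obtain ⟨t, c₀, ht, ht0⟩ : ∃ t c₀ : ℤ, t = -(v * r) + p * c₀ ∧ 0 ≤ t := by
      refine ⟨_, |v * r|, rfl, ?_⟩
      have h1 : (1 : ℤ) ≤ p := by exact_mod_cast hp'.pos
      nlinarith [le_abs_self (v * (r : ℤ)), abs_nonneg (v * (r : ℤ))]
    by_cases htd : (p : ℤ) ∣ t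
    · obtain ⟨c, hc⟩ := htd
      -- then `p ∣ r`
      have hrp : (p : ℤ) ∣ (r : ℤ) :=
        ⟨w * r + s * c₀ - s * c, by linear_combination (-(r : ℤ)) * hwv + (-(s : ℤ)) * (ht.symm.trans hc)⟩
      obtain ⟨c', hc'⟩ := hrp
      rw [hr, ← zpow_natCast, hc', zpow_mul, zpow_natCast, hzp, one_zpow, mul_one]
      exact hy₁
    · -- `a a'^t` has the property; apply `g`
      have hn0 : ⁅e, (a : Ω) * a' ^ t⁆ ∈ Y := by
        have h1 : ⁅e, a' ^ t⁆ * ((y₂ * z ^ s) ^ t)⁻¹ ∈ Y := by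
          have hc : ⁅e, a' ^ t⁆ = (y₂ * z ^ s) ^ t := by
            rw [commutatorElement_def, ← conj_zpow,
              show e * a' * e⁻¹ = ⁅e, a'⁆ * a' by rw [commutatorElement_def]; group,
              (hq.central_in (hPa' e heP) ha'E).mul_zpow, mul_inv_cancel_right, hs]
          rw [hc, mul_inv_cancel]
          exact one_mem Y
        have hcm : ∀ {y : Ω}, y ∈ Y → Commute y z := fun hy => hq.comm hy (hd.le (hZE hq.mem))
        rw [show ⁅e, (a : Ω) * a' ^ t⁆ = ⁅e, (a : Ω)⁆ * ((a : Ω) * ⁅e, a' ^ t⁆ * (a : Ω)⁻¹) by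
          simp only [commutatorElement_def]; group]
        have hat : ⁅e, a' ^ t⁆ = (y₂ * z ^ s) ^ t := by
          rw [commutatorElement_def, ← conj_zpow,
            show e * a' * e⁻¹ = ⁅e, a'⁆ * a' by rw [commutatorElement_def]; group,
            (hq.central_in (hPa' e heP) ha'E).mul_zpow, mul_inv_cancel_right, hs]
        have hat' : ⁅e, a' ^ t⁆ ∈ Z := by
          rw [hat]
          exact zpow_mem (mul_mem (hq.le hy₂) (pow_mem hq.mem s)) t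
        rw [← (hq.central_in hat' haE).eq, mul_inv_cancel_right, hat, hr,
          ((hcm hy₂).pow_right s).mul_zpow, ← zpow_natCast z s, ← zpow_natCast z r, ← zpow_mul,
          show y₁ * z ^ (r : ℤ) * (y₂ ^ t * z ^ ((s : ℤ) * t)) =
            y₁ * (z ^ (r : ℤ) * y₂ ^ t) * z ^ ((s : ℤ) * t) by group,
          ← ((hcm hy₂).zpow_zpow t (r : ℤ)).eq, mul_assoc, mul_assoc (y₂ ^ t), ← zpow_add,
          show (r : ℤ) + (s : ℤ) * t = (p : ℤ) * (w * r + s * c₀) by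
            rw [ht]; linear_combination (-(r : ℤ)) * hwv,
          zpow_mul, zpow_natCast, hzp, one_zpow, mul_one]
        exact mul_mem hy₁ (zpow_mem hy₂ t)
      have hn0D : ∀ d, d ∈ P → d ∈ E₂ → ⁅d, (a : Ω) * a' ^ t⁆ ∈ Y := by
        intro d hdP' hdE
        rw [show ⁅d, (a : Ω) * a' ^ t⁆ = ⁅d, (a : Ω)⁆ * ((a : Ω) * ⁅d, a' ^ t⁆ * (a : Ω)⁻¹) by
          simp only [commutatorElement_def]; group]
        have h2 : ⁅d, a' ^ t⁆ = ⁅d, a'⁆ ^ t := by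
          have := hq.br_zpow hdE ha'E (hPa' d hdP') 1 t
          rwa [zpow_one, one_mul] at this
        have h3 : ⁅d, a' ^ t⁆ ∈ Y := by rw [h2]; exact zpow_mem ((hred a' (by simp)).2 d hdP' hdE) t
        rw [hYS h3 (hPS a.2)]
        exact mul_mem (hDa d hdP' hdE) h3
      have hall := hext _ (mul_mem a.2 (zpow_mem ha'P t)) hn0D hn0
      have hgn : ⁅e, g * ((a : Ω) * a' ^ t) * g⁻¹⁆ ∈ Y := by
        have he' : g⁻¹ * e * g ∈ P := by
          have := conj_mem_E hdP.norm (inv_mem hgS) heP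
          rwa [inv_inv] at this
        have h1 := hall ⟨_, he'⟩
        rw [show ⁅e, g * ((a : Ω) * a' ^ t) * g⁻¹⁆ = g * ⁅g⁻¹ * e * g, (a : Ω) * a' ^ t⁆ * g⁻¹ by
          simp only [commutatorElement_def]; group, hYS h1 hgS]
        exact h1
      -- the elements with the property form a subgroup
      let H : Subgroup P :=
        { carrier := {t | ⁅e, (t : Ω)⁆ ∈ Y}
          one_mem' := by simp
          mul_mem' := fun {s t} (hs : ⁅e, (s : Ω)⁆ ∈ Y) (ht : ⁅e, (t : Ω)⁆ ∈ Y) => by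
            show ⁅e, (s : Ω) * t⁆ ∈ Y
            rw [show ⁅e, (s : Ω) * t⁆ = ⁅e, (s : Ω)⁆ * ((s : Ω) * ⁅e, (t : Ω)⁆ * (s : Ω)⁻¹) by
              simp only [commutatorElement_def]; group, hYS ht (hPS s.2)]
            exact mul_mem hs ht
          inv_mem' := fun {s} (hs : ⁅e, (s : Ω)⁆ ∈ Y) => by
            show ⁅e, (s : Ω)⁻¹⁆ ∈ Y
            rw [show ⁅e, (s : Ω)⁻¹⁆ = (s : Ω)⁻¹ * ⁅e, (s : Ω)⁆⁻¹ * (s : Ω)⁻¹⁻¹ by
              simp only [commutatorElement_def]; group, hYS (inv_mem hs) (inv_mem (hPS s.2))]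
            exact inv_mem hs }
      -- `g n g⁻¹ = (central) · a^(kt) · n`
      have hz₁P : z₁ ∈ P := hZP hz₁Z
      have hζP : ζ₁ ∈ P := hZP hζ₁
      obtain ⟨ρ, hρ, hρe⟩ : ∃ ρ ∈ Z, ((a : Ω) ^ k * a') ^ t = ρ * ((a : Ω) ^ (k * t) * a' ^ t) := by
        have hmul : ∀ i₁ j₁ i₂ j₂ : ℤ, ∃ ρ ∈ Z, (a : Ω) ^ i₁ * a' ^ j₁ * ((a : Ω) ^ i₂ * a' ^ j₂) =
            ρ * ((a : Ω) ^ (i₁ + i₂) * a' ^ (j₁ + j₂)) := by
          intro i₁ j₁ i₂ j₂
          refine ⟨_, hq.br_zpow_mem haE ha'E hab i₂ j₁, ?_⟩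
          have hc := hq.central_in (hq.br_zpow_mem haE ha'E hab i₂ j₁) (zpow_mem haE i₁)
          rw [show (a : Ω) ^ i₁ * a' ^ j₁ * ((a : Ω) ^ i₂ * a' ^ j₂) =
            ((a : Ω) ^ i₁ * ⁅a' ^ j₁, (a : Ω) ^ i₂⁆) * ((a : Ω) ^ i₂ * a' ^ j₁ * a' ^ j₂) by
              simp only [commutatorElement_def]; group, ← hc.eq, zpow_add, zpow_add]
          group
        have hpow : ∀ n : ℕ, ∃ ρ ∈ Z, ((a : Ω) ^ k * a') ^ n = ρ * ((a : Ω) ^ (k * n) * a' ^ (n : ℤ)) := by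
          intro n
          induction n with
          | zero => exact ⟨1, one_mem Z, by simp⟩
          | succ n ih =>
            obtain ⟨ρ, hρ, e1⟩ := ih
            obtain ⟨ρ', hρ', e2⟩ := hmul (k * n) n k 1
            refine ⟨ρ * ρ', mul_mem hρ hρ', ?_⟩
            rw [pow_succ, e1, mul_assoc ρ, show (a : Ω) ^ k * a' = (a : Ω) ^ k * a' ^ (1 : ℤ) by rw [zpow_one],
              e2, ← mul_assoc, Nat.cast_succ, mul_add, mul_one]
        obtain ⟨ρ, hρ, e1⟩ := hpow t.toNat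
        refine ⟨ρ, hρ, ?_⟩
        rw [← zpow_natCast, Int.toNat_of_nonneg ht0] at e1
        exact e1
      have hρP : ρ ∈ P := hZP hρ
      have hgn' : g * ((a : Ω) * a' ^ t) * g⁻¹ = (z₁ * (ζ₁ ^ t * ρ)) * ((a : Ω) ^ (k * t)) * ((a : Ω) * a' ^ t) := by
        rw [show g * ((a : Ω) * a' ^ t) * g⁻¹ = (g * (a : Ω) * g⁻¹) * (g * a' * g⁻¹) ^ t by
          rw [conj_zpow]; group, hga, hga'3,
          (hq.central_in hζ₁ (mul_mem (zpow_mem haE k) ha'E)).mul_zpow, hρe]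
        have hc1 : Commute (ζ₁ ^ t * ρ) (a : Ω) := hq.central_in (mul_mem (zpow_mem hζ₁ t) hρ) haE
        rw [show z₁ * (a : Ω) * (ζ₁ ^ t * (ρ * ((a : Ω) ^ (k * t) * a' ^ t))) =
          z₁ * ((a : Ω) * (ζ₁ ^ t * ρ)) * ((a : Ω) ^ (k * t) * a' ^ t) by group, ← hc1.eq,
          show z₁ * (ζ₁ ^ t * ρ * (a : Ω)) * ((a : Ω) ^ (k * t) * a' ^ t) =
            z₁ * (ζ₁ ^ t * ρ) * ((a : Ω) * (a : Ω) ^ (k * t)) * a' ^ t by group,
          ((Commute.refl (a : Ω)).zpow_right (k * t)).eq]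
        group
      have hakt : (a : P) ^ (k * t) ∈ H := by
        have hX : (⟨z₁ * (ζ₁ ^ t * ρ), mul_mem hz₁P (mul_mem (zpow_mem hζP t) hρP)⟩ : P) * a ^ (k * t) *
            (a * ⟨a', ha'P⟩ ^ t) ∈ H := by
          show ⁅e, _⁆ ∈ Y
          push_cast
          rw [← hgn']
          exact hgn
        have hN : a * (⟨a', ha'P⟩ : P) ^ t ∈ H := by
          show ⁅e, _⁆ ∈ Y
          push_cast
          exact hn0
        have hC : (⟨z₁ * (ζ₁ ^ t * ρ), mul_mem hz₁P (mul_mem (zpow_mem hζP t) hρP)⟩ : P) ∈ H :=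
          hq.central e (hPS heP) _ (mul_mem hz₁Z (mul_mem (zpow_mem hζ₁ t) hρ))
        have := mul_mem (inv_mem hC) (mul_mem hX (inv_mem hN))
        rwa [mul_inv_cancel_right, inv_mul_cancel_left] at this
      obtain ⟨w', v', hwv'⟩ := (Nat.prime_iff_prime_int.1 hp').coprime_iff_not_dvd.2
        (fun hdv => ((Nat.prime_iff_prime_int.1 hp').dvd_or_dvd hdv).elim hk htd : ¬ (p : ℤ) ∣ k * t)
      have : a ∈ H := by
        rw [← zpow_one a, ← hwv', zpow_add, mul_comm w', zpow_mul, zpow_natCast,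
          show a ^ p = 1 from Subtype.ext hap, one_zpow, one_mul, mul_comm, zpow_mul]
        exact zpow_mem hakt v'
      exact this
  -- `[g, a] ∉ Y`
  have hz₁Y : z₁ ∉ Y := by
    intro hz₁Y
    have hEa : ∀ h ∈ E₂, ⁅h, (a : Ω)⁆ ∈ Y := by
      intro h hh
      obtain ⟨d, hdP', i, rfl⟩ := hdP.gen hgS hgP (hd.le hh)
      have hdE : d ∈ E₂ := by
        have := mul_mem hh (inv_mem (zpow_mem hgE i))
        rwa [mul_inv_cancel_right] at this
      have hgi : ⁅g ^ i, (a : Ω)⁆ = z₁ ^ i := by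
        have := hq.br_zpow hgE haE (hz₁ ▸ hz₁Z) i 1
        rw [zpow_one, mul_one, ← hz₁] at this
        exact this
      rw [show ⁅d * g ^ i, (a : Ω)⁆ = d * ⁅g ^ i, (a : Ω)⁆ * d⁻¹ * ⁅d, (a : Ω)⁆ by
        simp only [commutatorElement_def]; group, hgi, hYS (zpow_mem hz₁Y i) (hPS hdP')]
      exact mul_mem (zpow_mem hz₁Y i) (hDa d hdP' hdE)
    obtain ⟨β, hβ, x, hx, hβx⟩ := hm
    rw [← hq.Y_eq] at hx hβx
    refine haZ ?_
    rw [hq.Z_eq]
    refine ⟨haE, hap, fun h hh => ?_⟩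
    by_contra hne
    have hbr1 : ⁅h, (a : Ω)⁆ ≠ 1 := fun e => hne (commutatorElement_eq_one_iff_mul_comm.1 e).symm
    obtain ⟨i, hi⟩ := hq.gen (hEa h hh) hbr1 hx
    have hb := β ⟨(a : Ω), haE⟩
    obtain ⟨ζ, hζ, j, hj⟩ := huniq (((β ⟨(a : Ω), haE⟩ : E₂)) : Ω) ⟨Subtype.coe_prop _, by
      rw [← Subgroup.coe_pow, ← map_pow, show (⟨(a : Ω), haE⟩ : E₂) ^ p = 1 from Subtype.ext hap,
        map_one, Subgroup.coe_one], fun f hf => by
      obtain ⟨f', hf'⟩ := β.surjective ⟨f, hf⟩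
      have hmem : ((⁅f', (⟨(a : Ω), haE⟩ : E₂)⁆ : E₂) : Ω) ∈ Z := hSa f' (hd.le f'.2)
      have h2 : ((β ⁅f', (⟨(a : Ω), haE⟩ : E₂)⁆ : E₂) : Ω) ∈ Z :=
        hq.Z_eq ▸ omegaCenter_map β (hq.Z_eq ▸ hmem)
      rw [map_commutatorElement, hf'] at h2
      simpa [commutatorElement_def] using h2⟩
    refine hβx ?_
    have hxe : x = ⁅(⟨h, hh⟩ : E₂), ⟨(a : Ω), haE⟩⁆ ^ i := Subtype.ext (by
      rw [SubgroupClass.coe_zpow, hi]; simp [commutatorElement_def])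
    rw [hxe, map_zpow, SubgroupClass.coe_zpow, map_commutatorElement]
    refine zpow_mem ?_ i
    have hv : ((⁅β ⟨h, hh⟩, β ⟨(a : Ω), haE⟩⁆ : E₂) : Ω) =
        ⁅((β ⟨h, hh⟩ : E₂) : Ω), ζ * (a : Ω) ^ j⁆ := by rw [← hj]; simp [commutatorElement_def]
    rw [hv, show ⁅((β ⟨h, hh⟩ : E₂) : Ω), ζ * (a : Ω) ^ j⁆ =
      ⁅((β ⟨h, hh⟩ : E₂) : Ω), ζ⁆ * (ζ * ⁅((β ⟨h, hh⟩ : E₂) : Ω), (a : Ω) ^ j⁆ * ζ⁻¹) by
        simp only [commutatorElement_def]; group,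
      commutatorElement_eq_one_iff_mul_comm.2 (hq.central_in hζ (Subtype.coe_prop _)).symm.eq, one_mul]
    have h1 := hEa _ (Subtype.coe_prop (β ⟨h, hh⟩))
    have h2 := hq.br_zpow (Subtype.coe_prop (β ⟨h, hh⟩)) haE (hq.le h1) 1 j
    rw [zpow_one, one_mul] at h2
    rw [h2, hYS (zpow_mem h1 j) (hd.le (hZE hζ))]
    exact zpow_mem h1 j
  -- the action on `M / Z`
  obtain ⟨M, hMdef⟩ : ∃ M : Subgroup Ω, M = spanTwo Z (a : Ω) a' (fun ζ hζ => hq.central_in hζ haE)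
      (fun ζ hζ => hq.central_in hζ ha'E) (fun i j => hq.br_zpow_mem haE ha'E hab i j) := ⟨_, rfl⟩
  have hMm : ∀ v, v ∈ M ↔ ∃ ζ ∈ Z, ∃ i j : ℤ, v = ζ * ((a : Ω) ^ i * a' ^ j) := fun v => by
    rw [hMdef]; exact Iff.rfl
  have hMP : M ≤ P := fun v hv => by
    obtain ⟨ζ, hζ, i, j, rfl⟩ := (hMm v).1 hv
    exact mul_mem (hZP hζ) (mul_mem (zpow_mem a.2 i) (zpow_mem ha'P j))
  have hMinv : ∀ β : F.autGroup P, ∀ v : P, (v : Ω) ∈ M →
      ((((β : MulAut P)) v : P) : Ω) ∈ M := by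
    intro β v hv
    obtain ⟨ζ, hζ, i, j, hve⟩ := (hMm v).1 hv
    have hv' : v = ⟨ζ, hZP hζ⟩ * (a ^ i * ⟨a', ha'P⟩ ^ j) := Subtype.ext (by simpa using hve)
    rw [hv', map_mul, map_mul, map_zpow, map_zpow]
    push_cast
    have hin : ∀ δ ∈ F.autGroup P, ((δ a : P) : Ω) ∈ M := fun δ hδ => (hMm _).2 (hspan δ hδ)
    refine mul_mem ((hMm _).2 ⟨_, hZinv β β.2 ⟨ζ, hZP hζ⟩ hζ, 0, 0, by simp⟩)
      (mul_mem (zpow_mem (hin β β.2) i) (zpow_mem ?_ j))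
    have := hin ((β : MulAut P) * γ) (mul_mem β.2 hγ)
    rw [MulAut.mul_apply] at this
    rwa [show (⟨a', ha'P⟩ : P) = γ a from Subtype.ext ha'def]
  have := finite_le (hMP.trans hPS)
  haveI hZn : (Z.subgroupOf M).Normal := ⟨fun ζ hζ v => by
    obtain ⟨ρ, hρ, i, j, hv⟩ := (hMm _).1 v.2
    have hvE : (v : Ω) ∈ E₂ := hv ▸ mul_mem (hZE hρ) (mul_mem (zpow_mem haE i) (zpow_mem ha'E j))
    show (v : Ω) * (ζ : Ω) * (v : Ω)⁻¹ ∈ Z
    have hζ' : (ζ : Ω) ∈ Z := hζ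
    rw [← (hq.central_in hζ' hvE).eq, mul_inv_cancel_right]
    exact hζ'⟩
  have hgen : ∀ v : M, ∃ i j : ℤ, (QuotientGroup.mk v : M ⧸ Z.subgroupOf M) =
      QuotientGroup.mk (⟨(a : Ω), (hMm _).2 ⟨1, one_mem Z, 1, 0, by simp⟩⟩ : M) ^ i *
      QuotientGroup.mk (⟨a', (hMm _).2 ⟨1, one_mem Z, 0, 1, by simp⟩⟩ : M) ^ j := by
    intro v
    obtain ⟨ζ, hζ, i, j, hv⟩ := (hMm _).1 v.2
    refine ⟨i, j, ?_⟩
    rw [← QuotientGroup.mk_zpow, ← QuotientGroup.mk_zpow, ← QuotientGroup.mk_mul, QuotientGroup.eq]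
    refine Subgroup.mem_subgroupOf.2 ?_
    push_cast
    rw [hv, mul_inv_rev, mul_assoc, (hq.central_in (inv_mem hζ)
      (mul_mem (zpow_mem haE i) (zpow_mem ha'E j))).eq, inv_mul_cancel_left]
    exact inv_mem hζ
  obtain ⟨A, hAdef⟩ : ∃ A : M ⧸ Z.subgroupOf M,
      A = QuotientGroup.mk (⟨(a : Ω), (hMm _).2 ⟨1, one_mem Z, 1, 0, by simp⟩⟩ : M) := ⟨_, rfl⟩
  obtain ⟨B, hBdef⟩ : ∃ B : M ⧸ Z.subgroupOf M,
      B = QuotientGroup.mk (⟨a', (hMm _).2 ⟨1, one_mem Z, 0, 1, by simp⟩⟩ : M) := ⟨_, rfl⟩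
  rw [← hAdef, ← hBdef] at hgen
  have hABc : Commute A B := by
    rw [hAdef, hBdef, commute_iff_eq, ← QuotientGroup.mk_mul, ← QuotientGroup.mk_mul, QuotientGroup.eq]
    refine Subgroup.mem_subgroupOf.2 ?_
    push_cast
    rw [show ((a : Ω) * a')⁻¹ * (a' * a) = ⁅a'⁻¹, (a : Ω)⁻¹⁆ by
      simp only [commutatorElement_def]; group]
    have := hq.br_zpow_mem haE ha'E hab (-1) (-1)
    rwa [zpow_neg_one, zpow_neg_one] at this
  letI : CommGroup (M ⧸ Z.subgroupOf M) :=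
    { (inferInstance : Group (M ⧸ Z.subgroupOf M)) with
      mul_comm := fun u v => by
        obtain ⟨u, rfl⟩ := QuotientGroup.mk'_surjective _ u
        obtain ⟨v, rfl⟩ := QuotientGroup.mk'_surjective _ v
        obtain ⟨i, j, hu⟩ := hgen u
        obtain ⟨i', j', hv⟩ := hgen v
        rw [QuotientGroup.mk'_apply, QuotientGroup.mk'_apply, hu, hv]
        exact ((((Commute.refl A).zpow_zpow i i').mul_right (hABc.zpow_zpow i j')).mul_left
          ((hABc.symm.zpow_zpow j i').mul_right ((Commute.refl B).zpow_zpow j j'))).eq }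
  have hAp : A ^ p = 1 := by
    rw [hAdef, ← QuotientGroup.mk_pow, QuotientGroup.eq_one_iff]
    exact Subgroup.mem_subgroupOf.2 (by push_cast; rw [hap]; exact one_mem Z)
  have hBp : B ^ p = 1 := by
    rw [hBdef, ← QuotientGroup.mk_pow, QuotientGroup.eq_one_iff]
    exact Subgroup.mem_subgroupOf.2 (by push_cast; rw [ha'p]; exact one_mem Z)
  have hexp : ∀ v : M ⧸ Z.subgroupOf M, v ^ p = 1 := fun v => by
    obtain ⟨v, rfl⟩ := QuotientGroup.mk'_surjective _ v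
    obtain ⟨i, j, hv⟩ := hgen v
    have hC : ∀ C : M ⧸ Z.subgroupOf M, C ^ p = 1 → ∀ n : ℤ, (C ^ n) ^ p = 1 := fun C h n => by
      rw [← zpow_natCast, ← zpow_mul, mul_comm n, zpow_mul, zpow_natCast, h, one_zpow]
    rw [QuotientGroup.mk'_apply, hv, mul_pow, hC A hAp, hC B hBp, one_mul]
  have hAB : ∀ i j : ℤ, A ^ i * B ^ j = 1 → (p : ℤ) ∣ i ∧ (p : ℤ) ∣ j := by
    intro i j h
    rw [hAdef, hBdef, ← QuotientGroup.mk_zpow, ← QuotientGroup.mk_zpow, ← QuotientGroup.mk_mul,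
      QuotientGroup.eq_one_iff, Subgroup.mem_subgroupOf] at h
    push_cast at h
    have hj : (p : ℤ) ∣ j := by
      by_contra hj
      obtain ⟨w, v, hwv⟩ := (Nat.prime_iff_prime_int.1 hp').coprime_iff_not_dvd.2 hj
      -- `a'` would be in `Z⟨a⟩`
      refine hmov _ (zpow_mem h v) (-(i * v)) ?_
      have hc : Commute ((a : Ω) ^ i * a' ^ j) ((a : Ω) ^ i) :=
        hq.central_in h (zpow_mem haE i)
      have hsplit : a' ^ j = ((a : Ω) ^ i * a' ^ j) * ((a : Ω) ^ i)⁻¹ := by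
        rw [hc.inv_right.eq, inv_mul_cancel_left]
      conv_lhs => rw [← zpow_one a', ← hwv, zpow_add, mul_comm w, zpow_mul, zpow_natCast, ha'p,
        one_zpow, one_mul, mul_comm, zpow_mul, hsplit, hc.inv_right.mul_zpow, inv_zpow, ← zpow_mul,
        ← zpow_neg]
    refine ⟨?_, hj⟩
    obtain ⟨c, rfl⟩ := hj
    rw [zpow_mul a', zpow_natCast, ha'p, one_zpow, mul_one] at h
    exact dvd_of_zpow_mem hap haZ h
  have hstab : ∀ β : F.autGroup P, (M.subgroupOf P).map ((β : MulAut P)).toMonoidHom = M.subgroupOf P :=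
    fun β => map_subgroupOf_eq hPS (by rintro _ ⟨w, hw, rfl⟩; exact hMinv β w hw)
  let em := Subgroup.subgroupOfEquivOfLe hMP
  let R : F.autGroup P →* MulAut M :=
    { toFun := fun σ => em.symm.trans ((((σ : MulAut P).subgroupMap (M.subgroupOf P)).trans
        (MulEquiv.subgroupCongr (hstab σ))).trans em)
      map_one' := MulEquiv.ext fun v => Subtype.ext rfl
      map_mul' := fun σ τ => MulEquiv.ext fun v => Subtype.ext rfl }
  have hRv : ∀ (σ : F.autGroup P) (v : M),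
      ((R σ v : M) : Ω) = (((σ : MulAut P) ⟨v, hMP v.2⟩ : P) : Ω) := fun σ v => rfl
  have hRZ : ∀ σ, (Z.subgroupOf M).map (R σ).toMonoidHom = Z.subgroupOf M := fun σ => by
    refine Subgroup.eq_of_le_of_card_ge ?_ (Subgroup.card_map_of_injective (R σ).injective).ge
    rintro _ ⟨w, hw, rfl⟩
    exact hZinv σ σ.2 ⟨w, hMP w.2⟩ hw
  let L : F.autGroup P →* MulAut (M ⧸ Z.subgroupOf M) :=
    { toFun := fun σ => QuotientGroup.congr _ _ (R σ) (hRZ σ)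
      map_one' := MulEquiv.ext fun v => by
        obtain ⟨x, rfl⟩ := QuotientGroup.mk'_surjective _ v
        show (((R 1) x : M) : M ⧸ Z.subgroupOf M) = _
        rw [map_one]; rfl
      map_mul' := fun σ τ => MulEquiv.ext fun v => by
        obtain ⟨x, rfl⟩ := QuotientGroup.mk'_surjective _ v
        show (((R (σ * τ)) x : M) : M ⧸ Z.subgroupOf M) = _
        rw [map_mul]; rfl }
  have hLv : ∀ (σ : F.autGroup P) (v : M),
      L σ (v : M ⧸ Z.subgroupOf M) = ((R σ v : M) : M ⧸ Z.subgroupOf M) := fun σ v => rfl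
  have heqV : ∀ v w : M, (v : Ω) * (w : Ω)⁻¹ ∈ Z → (v : M ⧸ Z.subgroupOf M) = w := by
    intro v w h
    rw [← mul_inv_eq_one, ← QuotientGroup.mk_inv, ← QuotientGroup.mk_mul, QuotientGroup.eq_one_iff]
    exact h
  have hLgA : L gA A = A := by
    rw [hAdef, hLv]
    refine heqV _ _ ?_
    rw [hRv, hgAv, hga, mul_inv_cancel_right]
    exact hz₁Z
  have hLgB : L gA B = A ^ k * B := by
    rw [hAdef, hBdef, hLv, ← QuotientGroup.mk_zpow, ← QuotientGroup.mk_mul]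
    refine heqV _ _ ?_
    rw [hRv, hgAv, hga'3]
    push_cast
    rw [mul_inv_cancel_right]
    exact hζ₁
  have himg : ∀ v, L gA v * v⁻¹ ∈ Subgroup.zpowers A := fun v => by
    obtain ⟨v, rfl⟩ := QuotientGroup.mk'_surjective _ v
    obtain ⟨i, j, hv⟩ := hgen v
    refine Subgroup.mem_zpowers_iff.2 ⟨k * j, ?_⟩
    rw [QuotientGroup.mk'_apply, hv, map_mul, map_zpow, map_zpow, hLgA, hLgB, mul_zpow, ← zpow_mul,
      mul_inv, mul_mul_mul_comm, mul_inv_cancel, one_mul, mul_inv_cancel_right]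
  have hne : L gA ≠ 1 := fun h => hk (hAB k 0 (by
    have h2 := hLgB
    rw [h, MulAut.one_apply] at h2
    rw [zpow_zero, mul_one]
    exact right_eq_mul.1 h2)).1
  have hgp : L gA ^ p = 1 := MulEquiv.ext fun v => by
    obtain ⟨i, hi⟩ := Subgroup.mem_zpowers_iff.1 (himg v)
    rw [MulAut.one_apply]
    exact PGroups.Transvections.pow_fix (v := A ^ i)
      (by rw [hi, mul_comm v, inv_mul_cancel_right]) (by rw [map_zpow, hLgA]) (hexp _)
  have hzo : orderOf (L gA) = p := orderOf_eq_prime hgp hne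
  obtain ⟨T, hTy, -⟩ := exists_sylow hS hF hP hdP.norm
  have hPtriv : ∀ h : S, (h : Ω) ∈ P → L (toAut F hPS hdP.norm h) = 1 := fun h hh => by
    refine MulEquiv.ext fun v => ?_
    obtain ⟨v, rfl⟩ := QuotientGroup.mk'_surjective _ v
    rw [QuotientGroup.mk'_apply, hLv, MulAut.one_apply]
    refine heqV _ _ ?_
    rw [hRv, toAut_apply]
    show ⁅(h : Ω), (v : Ω)⁆ ∈ Z
    obtain ⟨ζ, hζ, i, j, hv⟩ := (hMm _).1 v.2
    have k1 : ∀ b, b ∈ P → b ∈ E₂ → ⁅(h : Ω), b⁆ ∈ Z → ∀ n : ℤ, ⁅(h : Ω), b ^ n⁆ ∈ Z := by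
      intro b hbP hbE hb n
      rw [commutatorElement_def, ← conj_zpow,
        show (h : Ω) * b * (h : Ω)⁻¹ = ⁅(h : Ω), b⁆ * b by rw [commutatorElement_def]; group,
        (hq.central_in hb hbE).mul_zpow, mul_inv_cancel_right]
      exact zpow_mem hb n
    have k2 : ∀ b c, b ∈ E₂ → ⁅(h : Ω), b⁆ ∈ Z → ⁅(h : Ω), c⁆ ∈ Z → ⁅(h : Ω), b * c⁆ ∈ Z := by
      intro b c hbE hb hc
      rw [show ⁅(h : Ω), b * c⁆ = ⁅(h : Ω), b⁆ * (b * ⁅(h : Ω), c⁆ * b⁻¹) by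
        simp only [commutatorElement_def]; group, ← (hq.central_in hc hbE).eq, mul_inv_cancel_right]
      exact mul_mem hb hc
    rw [hv]
    refine k2 _ _ (hZE hζ) (hq.le (hq.central _ h.2 _ hζ)) (k2 _ _ (zpow_mem haE i)
      (k1 _ a.2 haE (hSa _ h.2) i) (k1 _ ha'P ha'E (hPa' _ hh) j))
  have hTz : ∀ t ∈ (T : Subgroup (F.autGroup P)), L t ∈ Subgroup.zpowers (L gA) := by
    intro t ht
    obtain ⟨s, rfl⟩ := hTy t ht
    obtain ⟨h, hh, i, hsi⟩ := hdP.gen hgS hgP s.2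
    refine Subgroup.mem_zpowers_iff.2 ⟨i, ?_⟩
    rw [show s = ⟨h, hPS hh⟩ * ⟨g, hgS⟩ ^ i from Subtype.ext (by simpa using hsi), map_mul, map_mul,
      map_zpow, map_zpow, hPtriv ⟨h, hPS hh⟩ hh, one_mul, ← hgA]
  have hTr : Transv p L gA A :=
    ⟨hexp, himg, hLgA, hne, fun c h1 h2 => alone_of_sylow L T hTz hzo h1 h2⟩
  obtain ⟨γ', hγ'⟩ : ∃ γ' : F.autGroup P, γ' = ⟨γ, hγ⟩ := ⟨_, rfl⟩
  have hγA : L γ' A = B := by
    rw [hAdef, hBdef, hLv]
    refine congrArg QuotientGroup.mk (Subtype.ext ?_)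
    rw [hRv, hγ']
    exact ha'def.symm
  have hy : L (γ' * gA * γ'⁻¹) ∉ Subgroup.zpowers (L gA) := by
    intro hmem
    obtain ⟨i, hi⟩ := Subgroup.mem_zpowers_iff.1 hmem
    have hfixB : (L gA ^ i) B = B := by
      rw [hi, map_mul, map_mul, map_inv, MulAut.mul_apply, MulAut.mul_apply, ← hγA,
        MulAut.inv_apply_self, hLgA]
    have hzp' : ∀ n : ℤ, (L gA ^ n) B = A ^ (k * n) * B := by
      intro n
      have hnat : ∀ n : ℕ, (L gA ^ n) B = A ^ (k * n) * B := by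
        intro n
        induction n with
        | zero => simp
        | succ n ih =>
          rw [pow_succ', MulAut.mul_apply, ih, map_mul, map_zpow, hLgA, hLgB, ← mul_assoc, ← zpow_add]
          congr 2
          push_cast
          ring
      obtain ⟨m, rfl | rfl⟩ := n.eq_nat_or_neg
      · rw [zpow_natCast]; exact hnat m
      · apply (L gA ^ (m : ℤ)).injective
        rw [← MulAut.mul_apply, ← zpow_add, add_neg_cancel, zpow_zero, MulAut.one_apply, map_mul,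
          map_zpow, zpow_natCast, hnat m,
          show (L gA ^ m) A = A from zpow_natCast (L gA) m ▸ zpow_fixed hLgA m, ← mul_assoc, ← zpow_add]
        rw [show k * -(m : ℤ) + k * m = 0 by ring, zpow_zero, one_mul]
    rw [hzp' i] at hfixB
    obtain ⟨hki, -⟩ := hAB (k * i) 0 (by rw [zpow_zero, mul_one]; exact mul_eq_right.1 hfixB)
    have hip := ((Nat.prime_iff_prime_int.1 hp').dvd_or_dvd hki).resolve_left hk
    obtain ⟨c, rfl⟩ := hip
    rw [zpow_mul, zpow_natCast, hgp, one_zpow, map_mul, map_mul, map_inv] at hi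
    exact hne (conj_eq_one_iff.1 hi.symm)
  obtain ⟨-, -, -, htor⟩ := hTr.exists_elements hy
  obtain ⟨d, hdA, -, hdg, -, hdcl⟩ := htor (-1) (-1) (by simp)
  rw [neg_mul_neg, mul_one, zpow_one] at hdg
  -- `d` fixes `Z` pointwise
  let G0 : Subgroup (F.autGroup P) :=
    { carrier := {σ | ∀ x : P, (x : Ω) ∈ Z → (σ : MulAut P) x = x}
      one_mem' := fun x _ => rfl
      mul_mem' := fun {s t} hs ht x hx => by
        show (s : MulAut P) ((t : MulAut P) x) = x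
        rw [ht x hx, hs x hx]
      inv_mem' := fun {s} hs x hx => by
        show (s : MulAut P)⁻¹ x = x
        conv_lhs => rw [← hs x hx]
        exact MulAut.inv_apply_self P _ x }
  haveI hG0 : G0.Normal := ⟨fun s hs t x hx => by
    show (t : MulAut P) ((s : MulAut P) ((t : MulAut P)⁻¹ x)) = x
    rw [hs _ (hZinv _ (inv_mem t.2) x hx), MulAut.apply_inv_self]⟩
  have hgG0 : gA ∈ G0 := fun x hx => Subtype.ext (by rw [hgAv]; exact hgZ _ hx)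
  have hdG0 : d ∈ G0 := (Subgroup.closure_le G0).2
    (by rintro w (rfl | rfl); exacts [hgG0, hG0.conj_mem _ hgG0 γ']) hdcl
  -- what is trivial on `Z` and `M / Z` is trivial on `M / Y`
  let N1 : Subgroup (F.autGroup P) :=
    { carrier := {σ | σ ∈ G0 ∧ ∀ v : P, (v : Ω) ∈ M →
        (((v⁻¹ * (σ : MulAut P) v : P)) : Ω) ∈ Y}
      one_mem' := ⟨one_mem G0, fun v _ => by simp⟩
      mul_mem' := fun {s t} hs ht => ⟨mul_mem hs.1 ht.1, fun v hv => by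
        have e : v⁻¹ * ((s * t : F.autGroup P) : MulAut P) v =
            (v⁻¹ * (s : MulAut P) v) * (s : MulAut P) (v⁻¹ * (t : MulAut P) v) := by
          rw [map_mul, map_inv, Subgroup.coe_mul, MulAut.mul_apply]; group
        rw [e, Subgroup.coe_mul]
        exact mul_mem (hs.2 v hv) (hYinv _ s.2 _ (ht.2 v hv))⟩
      inv_mem' := fun {s} hs => ⟨inv_mem hs.1, fun v hv => by
        have hw : ((((s⁻¹ : F.autGroup P) : MulAut P) v : P) : Ω) ∈ M := hMinv s⁻¹ v hv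
        have h := hs.2 _ hw
        rw [Subgroup.coe_inv, MulAut.apply_inv_self] at h
        have h' := inv_mem h
        rw [← Subgroup.coe_inv, mul_inv_rev, inv_inv] at h'
        rw [Subgroup.coe_inv]
        exact h'⟩ }
  have hNN1 : ∀ σ ∈ G0, L σ = 1 → σ ∈ N1 := by
    intro σ hσ0 hσL
    have hδ : ∀ τ ∈ G0, L τ = 1 → ∀ v : P, (v : Ω) ∈ M →
        (((v⁻¹ * (τ : MulAut P) v : P)) : Ω) ∈ Z := by
      intro τ _ hτ v hv
      have h : (R τ ⟨v, hv⟩ : M ⧸ Z.subgroupOf M) = (⟨(v : Ω), hv⟩ : M) := by rw [← hLv, hτ]; rfl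
      have := Subgroup.mem_subgroupOf.1 (QuotientGroup.eq.1 h.symm)
      exact this
    have hpw : σ ^ p ∈ N1 := by
      refine ⟨pow_mem hσ0 p, fun v hv => ?_⟩
      obtain ⟨δ, hδ'⟩ : ∃ δ, δ = v⁻¹ * (σ : MulAut P) v := ⟨_, rfl⟩
      have hδZ : (δ : Ω) ∈ Z := hδ' ▸ hδ σ hσ0 hσL v hv
      have hit : ∀ n : ℕ, ((σ : MulAut P) ^ n) v = v * δ ^ n := by
        intro n
        induction n with
        | zero => simp
        | succ n ih =>
          rw [pow_succ', MulAut.mul_apply, ih, map_mul, map_pow, hσ0 δ hδZ,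
            show (σ : MulAut P) v = v * δ by rw [hδ', mul_inv_cancel_left], pow_succ', mul_assoc]
      rw [SubgroupClass.coe_pow, hit, inv_mul_cancel_left, SubgroupClass.coe_pow,
        (hq.omega hδZ).2.1]
      exact one_mem Y
    obtain ⟨r, n, hn, hrn⟩ := Nat.exists_eq_pow_mul_and_not_dvd (orderOf_pos σ).ne' p hp'.ne_one
    have hpel : (σ ^ n) ^ p ^ r = 1 := by rw [← pow_mul, mul_comm, ← hrn, pow_orderOf_eq_one]
    obtain ⟨h, hh⟩ := exists_conj_mem_sylow T hpel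
    obtain ⟨s, hs⟩ := hTy _ hh
    have hτ0 : h * σ ^ n * h⁻¹ ∈ G0 := hG0.conj_mem _ (pow_mem hσ0 n) h
    have hτL : L (h * σ ^ n * h⁻¹) = 1 := by
      rw [map_mul, map_mul, map_pow, hσL, one_pow, mul_one, map_inv, mul_inv_cancel]
    obtain ⟨u, hu, i, hsi⟩ := hdP.gen hgS hgP s.2
    have hsP : (s : Ω) ∈ P := by
      have : L gA ^ i = 1 := by
        rw [← hτL, ← hs, show s = ⟨u, hPS hu⟩ * ⟨g, hgS⟩ ^ i from Subtype.ext (by simpa using hsi),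
          map_mul, map_mul, map_zpow, map_zpow, hPtriv ⟨u, hPS hu⟩ hu, one_mul, ← hgA]
      obtain ⟨c, hc⟩ : (p : ℤ) ∣ i := by rw [← hzo]; exact orderOf_dvd_iff_zpow_eq_one.2 this
      rw [hsi, hc, zpow_mul, zpow_natCast]
      exact mul_mem hu (zpow_mem (hdP.pow_mem hgS) c)
    have hτ1 : ∀ v : P, (v : Ω) ∈ M →
        (((v⁻¹ * ((h * σ ^ n * h⁻¹ : F.autGroup P) : MulAut P) v : P)) : Ω) ∈ Y := by
      intro v hv
      rw [← hs, Subgroup.coe_mul, toAut_apply]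
      obtain ⟨ζ, hζ, i', j', hve⟩ := (hMm _).1 hv
      have hz' : ⁅(s : Ω), (v : Ω)⁆ ∈ Y := by
        let H : Subgroup P :=
          { carrier := {w | ⁅(s : Ω), (w : Ω)⁆ ∈ Y}
            one_mem' := by simp
            mul_mem' := fun {b c} (hb : ⁅(s : Ω), (b : Ω)⁆ ∈ Y) (hc : ⁅(s : Ω), (c : Ω)⁆ ∈ Y) => by
              show ⁅(s : Ω), (b : Ω) * c⁆ ∈ Y
              rw [show ⁅(s : Ω), (b : Ω) * c⁆ =
                ⁅(s : Ω), (b : Ω)⁆ * ((b : Ω) * ⁅(s : Ω), (c : Ω)⁆ * (b : Ω)⁻¹) by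
                simp only [commutatorElement_def]; group, hYS hc (hPS b.2)]
              exact mul_mem hb hc
            inv_mem' := fun {b} (hb : ⁅(s : Ω), (b : Ω)⁆ ∈ Y) => by
              show ⁅(s : Ω), (b : Ω)⁻¹⁆ ∈ Y
              rw [show ⁅(s : Ω), (b : Ω)⁻¹⁆ = (b : Ω)⁻¹ * ⁅(s : Ω), (b : Ω)⁆⁻¹ * (b : Ω)⁻¹⁻¹ by
                simp only [commutatorElement_def]; group, hYS (inv_mem hb) (inv_mem (hPS b.2))]
              exact inv_mem hb }
        have h1 : (⟨ζ, hZP hζ⟩ : P) ∈ H := hq.central _ s.2 _ hζ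
        have h2 : a ∈ H := by
          show ⁅(s : Ω), (a : Ω)⁆ ∈ Y
          simpa [commutatorElement_def] using hPa ⟨s, hsP⟩
        have h3 : (⟨a', ha'P⟩ : P) ∈ H := by
          show ⁅(s : Ω), a'⁆ ∈ Y
          have := hprop γ hγ a hPa ⟨s, hsP⟩
          rw [ha'def]
          simpa [commutatorElement_def] using this
        have hv' : v = ⟨ζ, hZP hζ⟩ * (a ^ i' * ⟨a', ha'P⟩ ^ j') := Subtype.ext (by simpa using hve)
        show v ∈ H
        rw [hv']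
        exact H.mul_mem h1 (H.mul_mem (H.zpow_mem h2 i') (H.zpow_mem h3 j'))
      rw [Subgroup.coe_inv, show (v : Ω)⁻¹ * ((s : Ω) * v * (s : Ω)⁻¹) =
        (v : Ω)⁻¹ * ⁅(s : Ω), (v : Ω)⁆ * (v : Ω)⁻¹⁻¹ by simp only [commutatorElement_def]; group,
        hYS hz' (inv_mem (hPS v.2))]
      exact hz'
    have hN1n : σ ^ n ∈ N1 := by
      refine ⟨pow_mem hσ0 n, fun v hv => ?_⟩
      obtain ⟨w, hw⟩ : ∃ w, w = (h : MulAut P) v := ⟨_, rfl⟩
      have hwM : (w : Ω) ∈ M := hw ▸ hMinv h v hv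
      have e : v⁻¹ * ((σ ^ n : F.autGroup P) : MulAut P) v =
          (h : MulAut P)⁻¹ (w⁻¹ * ((h * σ ^ n * h⁻¹ : F.autGroup P) : MulAut P) w) := by
        rw [Subgroup.coe_mul, Subgroup.coe_mul, Subgroup.coe_inv, MulAut.mul_apply, MulAut.mul_apply,
          map_mul, map_inv, hw, MulAut.inv_apply_self, MulAut.inv_apply_self]
      rw [e]
      exact hYinv _ (inv_mem h.2) _ (hτ1 w hwM)
    obtain ⟨A', B', hAB'⟩ := (Nat.prime_iff_prime_int.1 hp').coprime_iff_not_dvd.2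
      (fun hd' => hn (by exact_mod_cast hd') : ¬ (p : ℤ) ∣ (n : ℤ))
    have : σ = (σ ^ p) ^ A' * (σ ^ n) ^ B' := by
      rw [← zpow_natCast σ p, ← zpow_natCast σ n, ← zpow_mul, ← zpow_mul, ← zpow_add,
        mul_comm (p : ℤ), mul_comm (n : ℤ), hAB', zpow_one]
    rw [this]
    exact mul_mem (zpow_mem hpw A') (zpow_mem hN1n B')
  -- the contradiction
  obtain ⟨β, hβ⟩ : ∃ β, β = d * gA * d⁻¹ * gA⁻¹ := ⟨_, rfl⟩
  have hβ1 : β ∈ N1 := hNN1 β
    (hβ ▸ mul_mem (hG0.conj_mem _ hgG0 d) (inv_mem hgG0))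
    (by rw [hβ, map_mul, hdg, map_inv, mul_inv_cancel])
  have hzv : ∀ σ ∈ G0, (σ : MulAut P) ⟨z₁, hZP hz₁Z⟩ = ⟨z₁, hZP hz₁Z⟩ := fun σ hσ => hσ _ hz₁Z
  obtain ⟨ζ₀, hζ₀, hda⟩ : ∃ ζ₀ : P, (ζ₀ : Ω) ∈ Z ∧ (d : MulAut P) a = ζ₀ * a⁻¹ := by
    refine ⟨(d : MulAut P) a * a, ?_, by rw [mul_inv_cancel_right]⟩
    have h := hdA
    rw [zpow_neg_one, hAdef, hLv, ← QuotientGroup.mk_inv, QuotientGroup.eq] at h
    have h' := Subgroup.mem_subgroupOf.1 h
    rw [Subgroup.coe_mul, Subgroup.coe_inv, Subgroup.coe_inv, hRv] at h'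
    have h2 := inv_mem h'
    rw [mul_inv_rev, inv_inv, inv_inv] at h2
    rw [Subgroup.coe_mul]
    have h3 : (a : Ω) * (((d : MulAut P) a : P) : Ω) ∈ Z := h2
    have e : (((d : MulAut P) a : P) : Ω) * (a : Ω) =
        (a : Ω)⁻¹ * ((a : Ω) * (((d : MulAut P) a : P) : Ω)) * (a : Ω) := by group
    rw [e, mul_assoc, (hq.central_in h3 haE).eq, inv_mul_cancel_left]
    exact h3
  obtain ⟨Zv, hZv⟩ : ∃ Zv : P, Zv = ⟨z₁, hZP hz₁Z⟩ := ⟨_, rfl⟩
  have hgav : (gA : MulAut P) a = Zv * a := Subtype.ext (by rw [hgAv, Subgroup.coe_mul, hZv, hga])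
  have hcom : Zv * a = a * Zv := Subtype.ext (by
    rw [Subgroup.coe_mul, Subgroup.coe_mul, hZv]; exact (hq.central_in hz₁Z haE).eq)
  have heq : ((d * gA : F.autGroup P) : MulAut P) a = ((β * gA * d : F.autGroup P) : MulAut P) a := by
    congr 2
    rw [hβ]; group
  simp only [Subgroup.coe_mul, MulAut.mul_apply] at heq
  rw [hgav, map_mul, hda, map_mul, map_inv, hgav, hgG0 ζ₀ hζ₀, map_mul, map_inv, map_mul,
    hβ1.1 ζ₀ hζ₀, show (β : MulAut P) Zv = Zv from hZv ▸ hzv β hβ1.1,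
    show (d : MulAut P) Zv = Zv from hZv ▸ hzv d hdG0] at heq
  obtain ⟨y, hy⟩ : ∃ y : P, y = a⁻¹ * (β : MulAut P) a := ⟨_, rfl⟩
  have hyY : (y : Ω) ∈ Y := hy ▸ hβ1.2 a ((hMm _).2 ⟨1, one_mem Z, 1, 0, by simp⟩)
  have hβa : (β : MulAut P) a = a * y := by rw [hy, mul_inv_cancel_left]
  rw [hβa] at heq
  -- `Zv² = y⁻¹`
  have hyc : ∀ w : P, y * w = w * y := fun w => Subtype.ext (hq.comm hyY (hPS w.2))
  have hZc : ∀ w : P, (w : Ω) ∈ E₂ → Zv * w = w * Zv := fun w hw => Subtype.ext (by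
    rw [Subgroup.coe_mul, Subgroup.coe_mul, hZv]; exact (hq.central_in hz₁Z hw).eq)
  have e1 : Zv * (ζ₀ * a⁻¹) = ζ₀ * (a⁻¹ * Zv) := by
    rw [hZc _ (mul_mem (hZE hζ₀) (inv_mem haE)), mul_assoc]
  have e2 : ζ₀ * (Zv * (a * y))⁻¹ = ζ₀ * (a⁻¹ * (Zv⁻¹ * y⁻¹)) := by
    congr 1
    have hy' : y⁻¹ * a⁻¹ = a⁻¹ * y⁻¹ := (show Commute y a from hyc a).inv_inv.eq
    have hy2 : y⁻¹ * Zv⁻¹ = Zv⁻¹ * y⁻¹ := (show Commute y Zv from hyc Zv).inv_inv.eq
    rw [mul_inv_rev, mul_inv_rev, hy', mul_assoc, hy2]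
  rw [e1, e2] at heq
  have h3 : Zv = Zv⁻¹ * y⁻¹ := mul_left_cancel (mul_left_cancel heq)
  refine hz₁Y ?_
  have h4 : Zv * Zv = y⁻¹ := by
    conv_lhs => arg 2; rw [h3]
    rw [mul_inv_cancel_left]
  have h5 : z₁ * z₁ ∈ Y := by
    have := congrArg Subtype.val h4
    rw [Subgroup.coe_mul, hZv, Subgroup.coe_inv] at this
    rw [this]
    exact inv_mem hyY
  obtain ⟨c, hc⟩ := hp'.odd_of_ne_two hp2
  have : z₁ = ((z₁ * z₁) ^ c)⁻¹ := by
    rw [eq_inv_iff_mul_eq_one, ← pow_two, ← pow_mul, ← pow_succ', ← hc, (hq.omega hz₁Z).2.1]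
  rw [this]
  exact inv_mem (pow_mem h5 c)

end CfsgLib.Fusion.NormalEssential
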