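import Cfsg.Agent.Lib.Fusion.NormalEssential.CaseNoncomm
import Cfsg.Agent.Lib.Fusion.NormalEssential.CaseTwist

/-!
# `|Ω₁Z(E)| = p²` gives a nontrivial core

All images of `Ω₁Z(E)` lie in one elementary subgroup of order `p³`, which is then invariant in every
automizer.
-/

set_option autoImplicit false

namespace CfsgLib.Fusion.NormalEssential

open Cfsg Cfsg.FusionSystem CfsgLib CfsgLib.Fusion CfsgLib.Fusion.RankThree CfsgLib.Fusion.TransvAut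
open scoped commutatorElement

variable {p : ℕ} [hp : Fact p.Prime] {Ω : Type*} [Group Ω] {S : Subgroup Ω} [Finite S]
  {F : FusionSystem S} {E₂ : Subgroup Ω} {Z Y : Subgroup Ω} {z : Ω}

omit hp [Finite S] in
theorem le_normalizer_of_conj {K : Subgroup Ω} (h : ∀ s ∈ S, ∀ w ∈ K, s * w * s⁻¹ ∈ K) :
    S ≤ Subgroup.normalizer (K : Set Ω) := fun s hs => by
  refine Subgroup.mem_normalizer_iff.2 fun w => ⟨h s hs w, fun hw => ?_⟩
  have := h s⁻¹ (inv_mem hs) _ hw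
  rwa [inv_inv, show s⁻¹ * (s * w * s⁻¹) * s = w by group] at this

omit hp [Finite S] in
theorem Square.conj_mem (hq : Square p S E₂ Z Y z) (hd : Step p S E₂) {s : Ω} (hs : s ∈ S) {w : Ω}
    (hw : w ∈ Z) : s * w * s⁻¹ ∈ Z :=
  hq.Z_eq ▸ omegaCenter_conj hd.norm hs (hq.omega hw)

/-- Images of `Ω₁Z(E₂)` inside `E₂` are commuted by `S` into it. -/
theorem good_image (hS : IsPGroup p S) (hsr : SecLE p S) (hd : Step p S E₂)
    (hq : Square p S E₂ Z Y z) {Q : Subgroup Ω} (hQS : Q ≤ S)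
    (hQn : S ≤ Subgroup.normalizer (Q : Set Ω))
    (hin : ∀ α ∈ F.autGroup Q, ∀ x : Q, (x : Ω) ∈ Z → (((α : MulAut Q) x : Q) : Ω) ∈ E₂)
    {α : MulAut Q} (hα : α ∈ F.autGroup Q) {x : Q} (hx : (x : Ω) ∈ Z) {g : Ω} (hg : g ∈ S) :
    ⁅g, ((α x : Q) : Ω)⁆ ∈ Z := by
  have hp' := hp.out
  have hZE : Z ≤ E₂ := hq.Z_eq ▸ omegaCenter_le
  obtain ⟨w, hw⟩ : ∃ w, w = ((α x : Q) : Ω) := ⟨_, rfl⟩
  rw [← hw]
  have hwE : w ∈ E₂ := hw ▸ hin α hα x hx
  by_cases hwZ : w ∈ Z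
  · exact hq.le (hq.central g hg w hwZ)
  have hwp : w ^ p = 1 := by
    rw [hw, ← Subgroup.coe_pow, ← map_pow, show x ^ p = 1 from Subtype.ext (hq.omega hx).2.1, map_one,
      Subgroup.coe_one]
  have hZc : ∀ a ∈ Z, ∀ b ∈ Z, a * b = b * a := fun a ha b hb => (hq.central_in ha (hZE hb)).eq
  have hZe : ∀ a ∈ Z, a ^ p = 1 := fun a ha => (hq.omega ha).2.1
  have hZw : ∀ a ∈ Z, a * w = w * a := fun a ha => (hq.central_in ha hwE).eq
  have := finite_le (hZE.trans hd.le)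
  obtain ⟨hc, hdec⟩ := card_sup_zpowers_of_pow_mem hZw (by rw [hwp]; exact one_mem Z) hwZ
  obtain ⟨he1, he2⟩ := elementary_sup hZc hZe hZw hwp
  obtain ⟨A, hA⟩ : ∃ A, A = Z ⊔ Subgroup.zpowers w := ⟨_, rfl⟩
  rw [← hA] at hc hdec he1 he2
  have hAS : A ≤ S := hA ▸ sup_le (hZE.trans hd.le) (Subgroup.zpowers_le.2 (hd.le hwE))
  have hZA : Z ≤ A := hA ▸ le_sup_left
  have hwA : w ∈ A := hA ▸ Subgroup.mem_sup_right (Subgroup.mem_zpowers w)
  have hAc : Nat.card A = p ^ 3 := by rw [hc, hq.cardZ, ← pow_succ']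
  -- conjugates of `w` centralize `w`
  have hconj : ∀ s ∈ S, s * w * s⁻¹ ∈ A := by
    intro s hs
    obtain ⟨τ, hτ⟩ : ∃ τ, τ = toAut F hQS hQn ⟨s, hs⟩ := ⟨_, rfl⟩
    have hτv : ((((τ : F.autGroup Q) : MulAut Q) (α x) : Q) : Ω) = s * w * s⁻¹ := by
      rw [hτ, toAut_apply, hw]
    have hτE : s * w * s⁻¹ ∈ E₂ := hτv ▸ hin ((τ : MulAut Q) * α) (mul_mem τ.2 hα) x hx
    have hu := hin (α⁻¹ * ((τ : MulAut Q) * α)) (mul_mem (inv_mem hα) (mul_mem τ.2 hα)) x hx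
    have h1 : x * (α⁻¹ * ((τ : MulAut Q) * α)) x = (α⁻¹ * ((τ : MulAut Q) * α)) x * x :=
      Subtype.ext (hq.central_in hx hu).eq
    have h2 := congrArg α h1
    rw [map_mul, map_mul, MulAut.mul_apply, MulAut.apply_inv_self, MulAut.mul_apply] at h2
    have h3 : w * (s * w * s⁻¹) = s * w * s⁻¹ * w := by
      rw [← hτv, hw]; exact congrArg Subtype.val h2
    refine mem_of_comm_elementary hsr hAS he1 he2 hAc (hd.le hτE) (fun a ha => ?_) ?_
    · obtain ⟨ζ, hζ, i, rfl⟩ := hdec a ha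
      exact ((hq.central_in hζ hτE).mul_left ((show Commute w (s * w * s⁻¹) from h3).pow_left i)).eq
    · rw [conj_pow, hwp, mul_one, mul_inv_cancel]
  have hAn : S ≤ Subgroup.normalizer (A : Set Ω) := le_normalizer_of_conj fun s hs v hv => by
    obtain ⟨ζ, hζ, i, rfl⟩ := hdec v hv
    rw [← conj_mul, ← conj_pow]
    exact mul_mem (hZA (hq.conj_mem hd hs hζ)) (pow_mem (hconj s hs) i)
  exact central_step hS hZA hAS (le_normalizer_of_conj fun s hs v hv => hq.conj_mem hd hs hv) hAn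
    (by rw [hAc, hq.cardZ, pow_succ']) hg hwA

/-- A single line modulo `Z` carries the elements of order `p` commuting with `E₂` into `Z`. -/
theorem good_unique (hS : IsPGroup p S) (hp2 : p ≠ 2) (hsr : SecLE p S) (hd : Step p S E₂)
    (hm : Moved p F E₂) (hq : Square p S E₂ Z Y z) {a v : Ω} (ha : Good p E₂ Z a) (haZ : a ∉ Z)
    (hv : Good p E₂ Z v) : ∃ ζ ∈ Z, ∃ i : ℤ, v = ζ * a ^ i := by
  by_contra hn
  push Not at hn
  have hp' := hp.out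
  obtain ⟨haE, hap, hag⟩ := ha
  obtain ⟨hvE, hvp, hvg⟩ := hv
  have hZE : Z ≤ E₂ := hq.Z_eq ▸ omegaCenter_le
  have hab : ⁅a, v⁆ ∈ Z := hvg a haE
  obtain ⟨m, hmdef⟩ : ∃ m, m = ⁅a, v⁆ := ⟨_, rfl⟩
  have hm1 : m ≠ 1 := hmdef ▸ hq.pair_ne hsr hd.le haE hvE hap hvp haZ hn
  have hmZ : m ∈ Z := hmdef ▸ hab
  have hspan : ∀ β : MulAut E₂, ∀ b : E₂, (b : Ω) ^ p = 1 → (∀ g ∈ E₂, ⁅g, (b : Ω)⁆ ∈ Z) →
      ∃ ζ ∈ Z, ∃ i j : ℤ, ((β b : E₂) : Ω) = ζ * (a ^ i * v ^ j) := by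
    intro β b hbp hb
    have hg : ∀ g ∈ E₂, ⁅g, ((β b : E₂) : Ω)⁆ ∈ Z := by
      intro g hg
      obtain ⟨g', hg'⟩ := β.surjective ⟨g, hg⟩
      have hmem : ((⁅g', b⁆ : E₂) : Ω) ∈ omegaCenter p E₂ := hq.omega (hb g' g'.2)
      have h := hq.Z_eq.symm ▸ omegaCenter_map β hmem
      rw [map_commutatorElement, hg'] at h
      simpa [commutatorElement_def] using h
    refine hq.span_of_pair hsr hd.le hp2 haE hvE (Subtype.coe_prop _) hap hvp ?_ haZ hn hab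
      (hg a haE) (hg v hvE)
    rw [← Subgroup.coe_pow, ← map_pow, show b ^ p = 1 from Subtype.ext hbp, map_one, Subgroup.coe_one]
  have hinv : ∀ β : MulAut E₂, ∃ k : ℤ, ((β ⟨m, hZE hmZ⟩ : E₂) : Ω) = m ^ k := by
    intro β
    obtain ⟨ζ, hζ, i, j, h1⟩ := hspan β ⟨a, haE⟩ hap hag
    obtain ⟨ζ', hζ', i', j', h2⟩ := hspan β ⟨v, hvE⟩ hvp hvg
    refine ⟨i * j' - j * i', ?_⟩
    rw [show (⟨m, hZE hmZ⟩ : E₂) = ⁅(⟨a, haE⟩ : E₂), ⟨v, hvE⟩⁆ from
      Subtype.ext (by simp [hmdef, commutatorElement_def]), map_commutatorElement, hmdef,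
      ← hq.br_span haE hvE hab hζ hζ' i j i' j', ← h1, ← h2]
    simp [commutatorElement_def]
  obtain ⟨K, hK⟩ : ∃ K, K = Subgroup.zpowers m := ⟨_, rfl⟩
  have hKA : ∀ α ∈ F.autGroup E₂, ∀ x : E₂, (x : Ω) ∈ K →
      (((α : MulAut E₂) x : E₂) : Ω) ∈ K := by
    intro α _ x hx
    rw [hK] at hx ⊢
    obtain ⟨i, hi⟩ := Subgroup.mem_zpowers_iff.1 hx
    obtain ⟨k, hk⟩ := hinv α
    rw [show x = ⟨m, hZE hmZ⟩ ^ i from Subtype.ext (by rw [SubgroupClass.coe_zpow]; exact hi.symm),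
      map_zpow, SubgroupClass.coe_zpow, hk]
    exact zpow_mem (zpow_mem (Subgroup.mem_zpowers m) k) i
  have hKn : S ≤ Subgroup.normalizer (K : Set Ω) := le_normalizer_of_conj fun s hs w hw => by
    have hwE : w ∈ E₂ := (hK ▸ Subgroup.zpowers_le.2 (hZE hmZ) : K ≤ E₂) hw
    have h := hKA _ (toAut F hd.le hd.norm ⟨s, hs⟩).2 ⟨w, hwE⟩ hw
    rwa [toAut_apply] at h
  have hKZ := hq.irreducible hS hd hm (hK ▸ Subgroup.zpowers_le.2 hmZ) hKn hKA
    (hK ▸ fun e => hm1 (Subgroup.zpowers_eq_bot.1 e))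
  have h := hq.cardZ
  rw [← hKZ, hK, Nat.card_zpowers, orderOf_eq_prime (hq.omega hmZ).2.1 hm1] at h
  nlinarith [hp'.one_lt]

/-- An element commuting with `P` into an invariant `Z` lies in the essential subgroup `P`. -/
theorem mem_of_stab (hS : IsPGroup p S) {P : Subgroup Ω} (hP : F.IsEssential p P)
    (hdP : Step p S P) (hZP : Z ≤ P) (hZe : ∀ ζ ∈ Z, ζ ^ p = 1)
    (hZinv : ∀ β ∈ F.autGroup P, ∀ x : P, (x : Ω) ∈ Z → (((β : MulAut P) x : P) : Ω) ∈ Z)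
    {a : Ω} (haS : a ∈ S) (haZ : ∀ ζ ∈ Z, a * ζ * a⁻¹ = ζ)
    (haP : ∀ u ∈ P, u⁻¹ * (a * u * a⁻¹) ∈ Z) : a ∈ P := by
  have hPS := hdP.le
  let N : Subgroup (F.autGroup P) :=
    { carrier := {σ | (∀ x : P, (x : Ω) ∈ Z → (σ : MulAut P) x = x) ∧
        ∀ v : P, (((v⁻¹ * (σ : MulAut P) v : P)) : Ω) ∈ Z}
      one_mem' := ⟨fun x _ => rfl, fun v => by simp⟩
      mul_mem' := fun {s t} hs ht => by
        refine ⟨fun x hx => ?_, fun v => ?_⟩
        · show (s : MulAut P) ((t : MulAut P) x) = x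
          rw [ht.1 x hx, hs.1 x hx]
        · have e : v⁻¹ * ((s * t : F.autGroup P) : MulAut P) v =
              (v⁻¹ * (s : MulAut P) v) * (s : MulAut P) (v⁻¹ * (t : MulAut P) v) := by
            rw [map_mul, map_inv, Subgroup.coe_mul, MulAut.mul_apply]; group
          rw [e, hs.1 _ (ht.2 v), Subgroup.coe_mul]
          exact mul_mem (hs.2 v) (ht.2 v)
      inv_mem' := fun {s} hs => by
        have hfix : ∀ x : P, (x : Ω) ∈ Z → (s : MulAut P)⁻¹ x = x := fun x hx => by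
          conv_lhs => rw [← hs.1 x hx]
          exact MulAut.inv_apply_self P _ x
        refine ⟨fun x hx => hfix x hx, fun v => ?_⟩
        obtain ⟨w, hw⟩ := (s : MulAut P).surjective v
        rw [Subgroup.coe_inv, ← hw, MulAut.inv_apply_self,
          show ((s : MulAut P) w)⁻¹ * w = (w⁻¹ * (s : MulAut P) w)⁻¹ by group]
        exact inv_mem (hs.2 w) }
  haveI hNn : N.Normal := ⟨fun s hs t => by
    refine ⟨fun x hx => ?_, fun v => ?_⟩
    · show (t : MulAut P) ((s : MulAut P) ((t : MulAut P)⁻¹ x)) = x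
      rw [hs.1 _ (hZinv _ (inv_mem t.2) x hx), MulAut.apply_inv_self]
    · obtain ⟨w, hw⟩ := (t : MulAut P).surjective v
      show (((v⁻¹ * (t : MulAut P) ((s : MulAut P) ((t : MulAut P)⁻¹ v)) : P)) : Ω) ∈ Z
      rw [← hw, MulAut.inv_apply_self, ← map_inv, ← map_mul]
      exact hZinv _ t.2 _ (hs.2 w)⟩
  have hNp : IsPGroup p N := fun σ => ⟨1, by
    refine Subtype.ext (Subtype.ext (MulEquiv.ext fun v => ?_))
    obtain ⟨δ, hδ⟩ : ∃ δ, δ = v⁻¹ * ((σ : F.autGroup P) : MulAut P) v := ⟨_, rfl⟩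
    have hit : ∀ n : ℕ, (((σ : F.autGroup P) : MulAut P) ^ n) v = v * δ ^ n := by
      intro n
      induction n with
      | zero => simp
      | succ n ih =>
        rw [pow_succ', MulAut.mul_apply, ih, map_mul, map_pow, σ.2.1 δ (hδ ▸ σ.2.2 v),
          show ((σ : F.autGroup P) : MulAut P) v = v * δ by rw [hδ, mul_inv_cancel_left], pow_succ',
          mul_assoc]
    rw [pow_one]
    show (((σ : F.autGroup P) : MulAut P) ^ p) v = v
    rw [hit, show δ ^ p = 1 from Subtype.ext (hZe _ (hδ ▸ σ.2.2 v)), mul_one]⟩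
  refine (toAut_inn_iff hP hdP.norm ⟨a, haS⟩).1
    (inn_of_normal hS hP hNn hNp (σ := toAut F hP.1.1 hdP.norm ⟨a, haS⟩) ⟨fun x hx => ?_, fun v => ?_⟩)
  · exact Subtype.ext (by rw [toAut_apply]; exact haZ _ hx)
  · rw [Subgroup.coe_mul, Subgroup.coe_inv, toAut_apply]
    exact haP _ v.2

set_option maxHeartbeats 1600000 in
/-- The case `|Ω₁Z(E₂)| = p²`. -/
theorem false_of_square {ℰ : Subgroup Ω → Prop} (hS : IsPGroup p S) (hp2 : p ≠ 2) (hsr : SecLE p S)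
    (hlt : p ^ 3 < Nat.card S) (hF : F.IsSaturated p) (hI : Inside p F ℰ)
    (hE' : ℰ E₂) (hm : Moved p F E₂) (hq : Square p S E₂ Z Y z) : False := by
  classical
  have hp' := hp.out
  have hE := hI.ess E₂ hE'
  have hd := hI.step E₂ hE'
  have hZE : Z ≤ E₂ := hq.Z_eq ▸ omegaCenter_le
  have hZS : Z ≤ S := hZE.trans hd.le
  have := finite_le hZS
  have hZP : ∀ P, ℰ P → Z ≤ P := fun P hP x hx => hI.le P hP E₂ hE' (hq.omega hx)
  have hinP : ∀ P, ℰ P → ∀ α ∈ F.autGroup P, ∀ x : P, (x : Ω) ∈ Z →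
      (((α : MulAut P) x : P) : Ω) ∈ E₂ := fun P hP α _ x hx => by
    by_contra h
    exact false_of_noncomm hS hp2 hsr hlt hF hd hE hm (hI.step P hP) hq (hZP P hP) hx h
  have hinS : ∀ φ ∈ F.autGroup S, ∀ x : S, (x : Ω) ∈ Z → (((φ : MulAut S) x : S) : Ω) ∈ E₂ :=
    fun φ hφ x hx => (hI.img E₂ hE' φ hφ x (hq.omega hx)).1
  -- an element `a`
  obtain ⟨a, haE, hap, haZ, hSa⟩ : ∃ a, a ∈ E₂ ∧ a ^ p = 1 ∧ a ∉ Z ∧ ∀ g ∈ S, ⁅g, a⁆ ∈ Z := by
    by_contra h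
    push Not at h
    have key : ∀ {Q : Subgroup Ω}, Q ≤ S → S ≤ Subgroup.normalizer (Q : Set Ω) →
        (∀ α ∈ F.autGroup Q, ∀ x : Q, (x : Ω) ∈ Z → (((α : MulAut Q) x : Q) : Ω) ∈ E₂) →
        ∀ α ∈ F.autGroup Q, ∀ x : Q, (x : Ω) ∈ Z → (((α : MulAut Q) x : Q) : Ω) ∈ Z := by
      intro Q hQS hQn hin α hα x hx
      by_contra hnot
      obtain ⟨g, hg, hgw⟩ := h _ (hin α hα x hx) (by
        rw [← Subgroup.coe_pow, ← map_pow, show x ^ p = 1 from Subtype.ext (hq.omega hx).2.1, map_one,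
          Subgroup.coe_one]) hnot
      exact hgw (good_image hS hsr hd hq hQS hQn hin hα hx hg)
    have hb := hI.reduced Z hZS (key le_rfl Subgroup.le_normalizer hinS)
      (fun P hP => ⟨hZP P hP, key (hI.step P hP).le (hI.step P hP).norm (hinP P hP)⟩)
    have h2' := hq.cardZ
    rw [hb, Subgroup.card_bot] at h2'
    exact absurd h2' (Nat.one_lt_pow (by norm_num) hp'.one_lt).ne
  have hag : ∀ g ∈ E₂, ⁅g, a⁆ ∈ Z := fun g hg => hSa g (hd.le hg)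
  have huniq : ∀ v, Good p E₂ Z v → ∃ ζ ∈ Z, ∃ i : ℤ, v = ζ * a ^ i := fun v hv =>
    good_unique hS hp2 hsr hd hm hq ⟨haE, hap, hag⟩ haZ hv
  obtain ⟨A, hA⟩ : ∃ A, A = Z ⊔ Subgroup.zpowers a := ⟨_, rfl⟩
  have hZa : ∀ ζ ∈ Z, ζ * a = a * ζ := fun ζ hζ => (hq.central_in hζ haE).eq
  have hap' : a ^ p ∈ Z := by rw [hap]; exact one_mem Z
  obtain ⟨hc, hdec⟩ := card_sup_zpowers_of_pow_mem hZa hap' haZ
  obtain ⟨he1, he2⟩ := elementary_sup (fun x hx y hy => (hq.central_in hx (hZE hy)).eq)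
    (fun x hx => (hq.omega hx).2.1) hZa hap
  rw [← hA] at hc hdec he1 he2
  have hAc : Nat.card A = p ^ 3 := by rw [hc, hq.cardZ, ← pow_succ']
  have hZA : Z ≤ A := hA ▸ le_sup_left
  have haA : a ∈ A := hA ▸ Subgroup.mem_sup_right (Subgroup.mem_zpowers a)
  have hAS : A ≤ S := hA ▸ sup_le hZS (Subgroup.zpowers_le.2 (hd.le haE))
  have := finite_le hAS
  have hgoodA : ∀ v, v ∈ E₂ → v ^ p = 1 → (∀ g ∈ E₂, ⁅g, v⁆ ∈ Z) → v ∈ A := by
    intro v h1 h2' h3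
    obtain ⟨ζ, hζ, i, rfl⟩ := huniq v ⟨h1, h2', h3⟩
    exact mul_mem (hZA hζ) (zpow_mem haA i)
  have himgA : ∀ {Q : Subgroup Ω}, Q ≤ S → S ≤ Subgroup.normalizer (Q : Set Ω) →
      (∀ α ∈ F.autGroup Q, ∀ x : Q, (x : Ω) ∈ Z → (((α : MulAut Q) x : Q) : Ω) ∈ E₂) →
      ∀ α ∈ F.autGroup Q, ∀ x : Q, (x : Ω) ∈ Z → (((α : MulAut Q) x : Q) : Ω) ∈ A := by
    intro Q hQS hQn hin α hα x hx
    refine hgoodA _ (hin α hα x hx) ?_ fun g hg => good_image hS hsr hd hq hQS hQn hin hα hx (hd.le hg)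
    rw [← Subgroup.coe_pow, ← map_pow, show x ^ p = 1 from Subtype.ext (hq.omega hx).2.1, map_one,
      Subgroup.coe_one]
  have hsup : ∀ w ∈ A, w ∉ Z → Z ⊔ Subgroup.zpowers w = A := fun w hw hwZ =>
    Subgroup.eq_of_le_of_card_ge (sup_le hZA (Subgroup.zpowers_le.2 hw)) (by
      rw [(card_sup_zpowers_of_pow_mem (fun c hc => he1 c (hZA hc) w hw)
        (by rw [he2 w hw]; exact one_mem Z) hwZ).1, hAc, hq.cardZ, ← pow_succ'])
  -- invariance under `Aut_F(S)`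
  have hAA : ∀ φ ∈ F.autGroup S, ∀ x : S, (x : Ω) ∈ A → ((φ x : S) : Ω) ∈ A := by
    intro φ hφ
    have hZimg : ∀ ψ ∈ F.autGroup S, ∀ x : S, (x : Ω) ∈ Z → ((ψ x : S) : Ω) ∈ A :=
      himgA le_rfl Subgroup.le_normalizer hinS
    obtain ⟨a', ha'⟩ : ∃ a' : S, a' = ⟨a, hd.le haE⟩ := ⟨_, rfl⟩
    have hv : ((φ a' : S) : Ω) ∈ A := by
      obtain ⟨u, hu⟩ := φ.surjective ⟨z, hZS hq.mem⟩
      have huA : (u : Ω) ∈ A := by
        have := hZimg φ⁻¹ (inv_mem hφ) ⟨z, hZS hq.mem⟩ hq.mem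
        rwa [← hu, MulAut.inv_apply_self] at this
      have hvp : ((φ a' : S) : Ω) ^ p = 1 := by
        rw [← Subgroup.coe_pow, ← map_pow, show a' ^ p = 1 from Subtype.ext (ha' ▸ hap), map_one,
          Subgroup.coe_one]
      have hvE : ((φ a' : S) : Ω) ∈ E₂ := by
        refine mem_of_comm hd (hq.omega hq.mem) (hq.Y_eq ▸ hq.not_mem) (φ a').2 ?_
        have h : a' * u = u * a' := Subtype.ext (by rw [ha']; exact he1 a haA _ huA)
        have := congrArg φ h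
        rw [map_mul, map_mul, hu] at this
        exact congrArg Subtype.val this
      by_cases hfix : ∀ x : S, (x : Ω) ∈ Z → ((φ x : S) : Ω) ∈ Z
      · refine hgoodA _ hvE hvp fun g hg => ?_
        obtain ⟨g', hg'⟩ := φ.surjective ⟨g, hd.le hg⟩
        have h := hfix ⁅g', a'⁆ (by simpa [commutatorElement_def, ha'] using hSa g' g'.2)
        rw [map_commutatorElement, hg'] at h
        simpa [commutatorElement_def] using h
      · push Not at hfix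
        obtain ⟨x, hx, hxφ⟩ := hfix
        refine mem_of_comm_elementary hsr hAS he1 he2 hAc (φ a').2 (fun c hc => ?_) hvp
        have hwA := hZimg φ hφ x hx
        rw [← hsup _ hwA hxφ] at hc
        obtain ⟨ζ, hζ, i, rfl⟩ := (card_sup_zpowers_of_pow_mem
          (fun c hc => he1 c (hZA hc) _ hwA) (by rw [he2 _ hwA]; exact one_mem Z) hxφ).2 c hc
        have h : x * a' = a' * x := Subtype.ext (by rw [ha']; exact hZa _ hx)
        have h' := congrArg φ h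
        rw [map_mul, map_mul] at h'
        exact ((hq.central_in hζ hvE).mul_left
          ((show Commute ((φ x : S) : Ω) ((φ a' : S) : Ω) from congrArg Subtype.val h').pow_left i)).eq
    intro x hx
    obtain ⟨ζ, hζ, i, hxe⟩ := hdec _ hx
    rw [show x = ⟨ζ, hZS hζ⟩ * a' ^ i from Subtype.ext (by simpa [ha'] using hxe), map_mul, map_pow,
      Subgroup.coe_mul, Subgroup.coe_pow]
    exact mul_mem (hZimg φ hφ ⟨ζ, hZS hζ⟩ hζ) (pow_mem hv i)
  refine haZ ?_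
  have hb := hI.reduced A hAS hAA fun P hP => ?_
  · rw [hb, Subgroup.mem_bot] at haA
    rw [haA]; exact one_mem Z
  have hdP := hI.step P hP
  have hPe := hI.ess P hP
  have hPS := hdP.le
  have hZP' := hZP P hP
  have hZimg := himgA hdP.le hdP.norm (hinP P hP)
  by_cases hfix : ∀ β ∈ F.autGroup P, ∀ x : P, (x : Ω) ∈ Z → (((β : MulAut P) x : P) : Ω) ∈ Z
  · have haP : a ∈ P := by
      refine mem_of_stab hS hPe hdP hZP' (fun ζ hζ => (hq.omega hζ).2.1) hfix (hd.le haE)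
        (fun ζ hζ => by rw [← hZa ζ hζ, mul_inv_cancel_right]) fun u hu => ?_
      rw [show u⁻¹ * (a * u * a⁻¹) = ⁅u⁻¹, a⁆ by simp only [commutatorElement_def]; group]
      exact hSa _ (inv_mem (hPS hu))
    refine ⟨hA ▸ sup_le hZP' (Subgroup.zpowers_le.2 haP), fun β hβ x hx => ?_⟩
    obtain ⟨a', ha'⟩ : ∃ a' : P, a' = ⟨a, haP⟩ := ⟨_, rfl⟩
    obtain ⟨ζ', hζ', j, hj⟩ : ∃ ζ ∈ Z, ∃ i : ℤ, (((β : MulAut P) a' : P) : Ω) = ζ * a ^ i := by
      by_contra hn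
      push Not at hn
      subst ha'
      exact false_of_twist hS hp2 hsr hF hd hm hdP hPe hq hZP' hfix (a := ⟨a, haP⟩) hap haZ haE hSa
        huniq hβ hn
    obtain ⟨ζ, hζ, i, hxe⟩ := hdec _ hx
    rw [show x = ⟨ζ, hZP' hζ⟩ * a' ^ i from Subtype.ext (by simpa [ha'] using hxe), map_mul, map_pow,
      Subgroup.coe_mul, Subgroup.coe_pow, hj]
    exact mul_mem (hZA (hfix β hβ ⟨ζ, hZP' hζ⟩ hζ)) (pow_mem (mul_mem (hZA hζ') (zpow_mem haA j)) i)
  · push Not at hfix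
    obtain ⟨α, hα, x₀, hx₀, hw⟩ := hfix
    have hwA := hZimg α hα x₀ hx₀
    refine ⟨(hsup _ hwA hw).symm ▸ sup_le hZP' (Subgroup.zpowers_le.2 (Subtype.coe_prop _)),
      fun β hβ x hx => ?_⟩
    rw [← hsup _ hwA hw] at hx
    obtain ⟨ζ, hζ, i, hxe⟩ := (card_sup_zpowers_of_pow_mem
      (fun c hc => he1 c (hZA hc) _ hwA) (by rw [he2 _ hwA]; exact one_mem Z) hw).2 _ hx
    rw [show x = ⟨ζ, hZP' hζ⟩ * ((α : MulAut P) x₀) ^ i from Subtype.ext (by simpa using hxe), map_mul,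
      map_pow, Subgroup.coe_mul, Subgroup.coe_pow, ← MulAut.mul_apply]
    exact mul_mem (hZimg β hβ ⟨ζ, hZP' hζ⟩ hζ) (pow_mem (hZimg _ (mul_mem hβ hα) x₀ hx₀) i)

end CfsgLib.Fusion.NormalEssential
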