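import Cfsg.Agent.Lib.Fusion.NormalEssential.SquareTools
import Cfsg.Agent.Lib.Fusion.AbelianIndexP

/-!
# A conjugate of `Ω₁Z(E₂)` not centralizing it

If an automorphism of a normal essential subgroup `P` carries `x₀ ∈ Ω₁Z(E₂)` outside `E₂`, then
`E₂ ∩ P = ⟨z⟩ × C` is abelian. If `E₂` is nonabelian its derived subgroup is centralized by the image,
against irreducibility; if it is abelian it would be elementary of order `p²`.
-/

set_option autoImplicit false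

namespace CfsgLib.Fusion.NormalEssential

open Cfsg Cfsg.FusionSystem CfsgLib CfsgLib.Fusion CfsgLib.Fusion.RankThree
open scoped commutatorElement

variable {p : ℕ} [hp : Fact p.Prime] {Ω : Type*} [Group Ω] {S : Subgroup Ω} [Finite S]
  {F : FusionSystem S} {E₂ P : Subgroup Ω} {Z Y : Subgroup Ω} {z : Ω}

set_option maxHeartbeats 1600000 in
/-- Such an image does not exist. -/
theorem false_of_noncomm (hS : IsPGroup p S) (hp2 : p ≠ 2) (hsr : SecLE p S)
    (hlt : p ^ 3 < Nat.card S) (hF : F.IsSaturated p) (hd : Step p S E₂)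
    (hE : F.IsEssential p E₂) (hm : Moved p F E₂) (hdP : Step p S P) (hq : Square p S E₂ Z Y z)
    (hZP : Z ≤ P) {α : MulAut P} {x₀ : P} (hx₀ : (x₀ : Ω) ∈ Z)
    (hout : ((α x₀ : P) : Ω) ∉ E₂) : False := by
  classical
  have hp' := hp.out
  have hodd : Odd p := hp'.odd_of_ne_two hp2
  have hZE : Z ≤ E₂ := hq.Z_eq ▸ omegaCenter_le
  have hZS : Z ≤ S := hZE.trans hd.le
  have hPS := hdP.le
  have hzp : z ^ p = 1 := (hq.omega hq.mem).2.1
  obtain ⟨x, hxdef⟩ : ∃ x, x = ((α x₀ : P) : Ω) := ⟨_, rfl⟩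
  rw [← hxdef] at hout
  have hxP : x ∈ P := hxdef ▸ (α x₀).2
  have hxS : x ∈ S := hPS hxP
  have hxp : x ^ p = 1 := by
    rw [hxdef, ← Subgroup.coe_pow, ← map_pow,
      show x₀ ^ p = 1 from Subtype.ext (hq.omega hx₀).2.1, map_one, Subgroup.coe_one]
  have hzY' : ∀ a ∈ Z, a ∉ Y → x * a ≠ a * x := fun a ha haY h =>
    hout (mem_of_comm hd (hq.omega ha) (hq.Y_eq ▸ haY) hxS h)
  obtain ⟨w₀, hw₀⟩ : ∃ w, w = z * x * z⁻¹ * x⁻¹ := ⟨_, rfl⟩
  have hw₀Y : w₀ ∈ Y := by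
    have h := inv_mem (hq.central x hxS z hq.mem)
    rwa [show (x * z * x⁻¹ * z⁻¹)⁻¹ = w₀ by rw [hw₀]; group] at h
  have hw₀1 : w₀ ≠ 1 := fun h => hzY' z hq.mem hq.not_mem (by
    rw [hw₀, mul_inv_eq_one, mul_inv_eq_iff_eq_mul] at h
    exact h.symm)
  have hzxc : z * x * z⁻¹ = x * w₀ := by
    rw [← hq.comm hw₀Y hxS, hw₀]; group
  -- `[P, x] ≤ Y`
  have hPx : ∀ g ∈ P, g * x * g⁻¹ * x⁻¹ ∈ Y := by
    have himage : ∀ g ∈ P, ∃ y : P, (y : Ω) ∈ Y ∧ ((α y : P) : Ω) = g * x * g⁻¹ * x⁻¹ := by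
      intro g hg
      obtain ⟨b, hb⟩ : ∃ b : P, b = α⁻¹ ⟨g, hg⟩ := ⟨_, rfl⟩
      refine ⟨b * x₀ * b⁻¹ * x₀⁻¹, ?_, ?_⟩
      · push_cast
        exact hq.central _ (hPS b.2) _ hx₀
      · rw [map_mul, map_mul, map_mul, map_inv, map_inv, hb, MulAut.apply_inv_self]
        push_cast
        rw [← hxdef]
    obtain ⟨y₀, hy₀, hy₀v⟩ := himage z (hZP hq.mem)
    rw [← hw₀] at hy₀v
    intro g hg
    obtain ⟨y, hy, hyv⟩ := himage g hg
    obtain ⟨i, hi⟩ := hq.gen hy₀ (fun e => hw₀1 (by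
      rw [← hy₀v, show y₀ = 1 from Subtype.ext e, map_one, Subgroup.coe_one])) hy
    rw [← hyv, show y = y₀ ^ i from Subtype.ext (by rw [SubgroupClass.coe_zpow]; exact hi), map_zpow,
      SubgroupClass.coe_zpow, hy₀v]
    exact zpow_mem hw₀Y i
  -- the centralizer `C` of `x` in `D = P ∩ E₂`
  obtain ⟨D, hD⟩ : ∃ D, D = P ⊓ E₂ := ⟨_, rfl⟩
  obtain ⟨C, hC⟩ : ∃ C, C = D ⊓ Subgroup.centralizer ({x} : Set Ω) := ⟨_, rfl⟩
  have hCm : ∀ c, c ∈ C ↔ c ∈ P ∧ c ∈ E₂ ∧ x * c = c * x := fun c => by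
    rw [hC, hD, Subgroup.mem_inf, Subgroup.mem_inf, Subgroup.mem_centralizer_singleton_iff, and_assoc]
    exact and_congr_right fun _ => and_congr_right fun _ => eq_comm
  have hzD : ∀ d ∈ E₂, z * d = d * z := fun d hd' => (hq.omega hq.mem).2.2 d hd'
  have hYC : Y ≤ C := fun y hy =>
    (hCm y).2 ⟨hZP (hq.le hy), hZE (hq.le hy), (hq.comm hy hxS).symm⟩
  have hzC : z ∉ C := fun h => hzY' z hq.mem hq.not_mem ((hCm z).1 h).2.2
  have hzx : ∀ j : ℤ, z ^ j * x * (z ^ j)⁻¹ = x * w₀ ^ j := fun j =>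
    zpow_conj_rule hzxc (hq.comm hw₀Y (hZS hq.mem)).symm j
  have hdec : ∀ d, d ∈ P → d ∈ E₂ → ∃ c ∈ C, ∃ j : ℤ, d = c * z ^ j := by
    intro d hdP' hdE
    obtain ⟨j, hj⟩ := hq.gen hw₀Y hw₀1 (hPx d hdP')
    refine ⟨d * (z ^ j)⁻¹, (hCm _).2 ⟨mul_mem hdP' (inv_mem (zpow_mem (hZP hq.mem) j)),
      mul_mem hdE (inv_mem (zpow_mem (hZE hq.mem) j)), ?_⟩, j, by rw [inv_mul_cancel_right]⟩
    have h1 : d * x * d⁻¹ = x * w₀ ^ j := by
      rw [← (hq.comm (zpow_mem hw₀Y j) hxS), ← hj]; group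
    have h2 : (z ^ j)⁻¹ * x * z ^ j = x * (w₀ ^ j)⁻¹ := by
      have := hzx (-j)
      rwa [zpow_neg, inv_inv, zpow_neg] at this
    have h3 : d * (z ^ j)⁻¹ * x * (d * (z ^ j)⁻¹)⁻¹ = x := by
      rw [show d * (z ^ j)⁻¹ * x * (d * (z ^ j)⁻¹)⁻¹ = d * ((z ^ j)⁻¹ * x * z ^ j) * d⁻¹ by group, h2,
        show d * (x * (w₀ ^ j)⁻¹) * d⁻¹ = d * x * d⁻¹ * (d * (w₀ ^ j)⁻¹ * d⁻¹) by group, h1,
        ← hq.comm (inv_mem (zpow_mem hw₀Y j)) (hPS hdP'), mul_inv_cancel_right, mul_inv_cancel_right]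
    exact (mul_inv_eq_iff_eq_mul.1 h3).symm
  have hdecP : ∀ g ∈ P, ∃ c ∈ C, ∃ j i : ℤ, g = c * (z ^ j * x ^ i) := by
    intro g hg
    obtain ⟨d, hdE, i, rfl⟩ := hd.gen hxS hout (hPS hg)
    have hdP' : d ∈ P := by
      have := mul_mem hg (inv_mem (zpow_mem hxP i))
      rwa [mul_inv_cancel_right] at this
    obtain ⟨c, hc, j, rfl⟩ := hdec d hdP' hdE
    exact ⟨c, hc, j, i, mul_assoc _ _ _⟩
  have hCS : C ≤ S := fun c hc => hPS ((hCm c).1 hc).1
  have hCP : C ≤ P := fun c hc => ((hCm c).1 hc).1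
  have := finite_le hCS
  have := finite_le hPS
  have hDc : Nat.card D = p * Nat.card C := by
    obtain ⟨h1, -⟩ := card_sup_zpowers_of_pow_mem (Z := C) (x := z)
      (fun c hc => (hzD c ((hCm c).1 hc).2.1).symm) (by rw [hzp]; exact one_mem C) hzC
    rw [← h1]
    congr 2
    refine le_antisymm (fun d hd' => ?_) (sup_le (hC ▸ inf_le_left)
      (Subgroup.zpowers_le.2 (hD ▸ Subgroup.mem_inf.2 ⟨hZP hq.mem, hZE hq.mem⟩)))
    rw [hD] at hd'
    obtain ⟨c, hc, j, rfl⟩ := hdec d hd'.1 hd'.2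
    exact Subgroup.mul_mem_sup hc (zpow_mem (Subgroup.mem_zpowers z) j)
  have hPc : Nat.card P = p * (p * Nat.card C) := by rw [← hDc, hD]; exact hd.card_inf hPS hxP hout
  have hA : ∀ c ∈ C, ∀ j i : ℤ, Commute (z ^ j * x ^ i) c := fun c hc j i =>
    ((show Commute z c from hzD c ((hCm c).1 hc).2.1).zpow_left j).mul_left
      ((show Commute x c from ((hCm c).1 hc).2.2).zpow_left i)
  have hAA : ∀ j i j' i' : ℤ, ⁅z ^ j * x ^ i, z ^ j' * x ^ i'⁆ ∈ Y := by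
    have hgen : ∀ g, g ∈ P → g * x * g⁻¹ * x⁻¹ ∈ Y := hPx
    intro j i j' i'
    -- modulo the central subgroup `Y` the two factors commute
    haveI hYn : (Y.subgroupOf S).Normal := ⟨fun y hy t => by
      show (t : Ω) * (y : Ω) * (t : Ω)⁻¹ ∈ Y
      have hy' : (y : Ω) ∈ Y := hy
      rw [← hq.comm hy' t.2, mul_inv_cancel_right]
      exact hy'⟩
    let π := QuotientGroup.mk' (Y.subgroupOf S)
    have hzx' : Commute (π ⟨z, hZS hq.mem⟩) (π ⟨x, hxS⟩) := by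
      rw [commute_iff_eq, ← commutatorElement_eq_one_iff_mul_comm, ← map_commutatorElement]
      refine (QuotientGroup.eq_one_iff _).2 ?_
      show z * x * z⁻¹ * x⁻¹ ∈ Y
      exact hgen z (hZP hq.mem)
    have h1 : π ⁅(⟨z, hZS hq.mem⟩ : S) ^ j * ⟨x, hxS⟩ ^ i,
        (⟨z, hZS hq.mem⟩ : S) ^ j' * ⟨x, hxS⟩ ^ i'⁆ = 1 := by
      rw [map_commutatorElement, commutatorElement_eq_one_iff_mul_comm, map_mul, map_mul, map_zpow,
        map_zpow, map_zpow, map_zpow]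
      exact (((Commute.refl _).zpow_zpow j j').mul_right (hzx'.zpow_zpow j i')).mul_left
        ((hzx'.symm.zpow_zpow i j').mul_right ((Commute.refl _).zpow_zpow i i'))
    have := Subgroup.mem_subgroupOf.1 ((QuotientGroup.eq_one_iff _).1 h1)
    simpa [commutatorElement_def] using this
  have hApow : ∀ j i : ℤ, (z ^ j * x ^ i) ^ p = 1 := by
    intro j i
    obtain ⟨Z', hZ'⟩ : ∃ a : S, a = ⟨z, hZS hq.mem⟩ ^ j := ⟨_, rfl⟩
    obtain ⟨X', hX'⟩ : ∃ a : S, a = ⟨x, hxS⟩ ^ i := ⟨_, rfl⟩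
    have hc : (⁅X', Z'⁆ : S).1 ∈ Y := by
      have := hAA 0 i j 0
      simpa [hZ', hX', commutatorElement_def] using this
    have hcS : ⁅X', Z'⁆ ^ p = 1 := Subtype.ext (by
      rw [Subgroup.coe_pow]
      exact ((hq.Y_eq ▸ hc : (⁅X', Z'⁆ : S).1 ∈ omegaCenter p S)).2.1)
    have := PGroups.mul_pow_of_central_odd (x := Z') (y := X')
      (Subgroup.mem_center_iff.2 fun g => Subtype.ext (hq.comm hc g.2).symm) hodd hcS
    have h' : (z ^ j * x ^ i) ^ p = (z ^ j) ^ p * (x ^ i) ^ p := by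
      simpa [hZ', hX'] using congrArg Subtype.val this
    rw [h', ← zpow_natCast, ← zpow_mul, mul_comm, zpow_mul, zpow_natCast, hzp, one_zpow, one_mul,
      ← zpow_natCast, ← zpow_mul, mul_comm, zpow_mul, zpow_natCast, hxp, one_zpow]
  -- `C` is abelian
  have hCp : IsPGroup p C := hS.to_le hCS
  obtain ⟨Φ', hΦ'⟩ : ∃ Φ, Φ = frattini C ⊔ Y.subgroupOf C := ⟨_, rfl⟩
  haveI hΦn : Φ'.Normal := hΦ' ▸ Subgroup.Normal.of_commutator_le C
    ((PGroups.commutator_le_frattini' hCp).trans le_sup_left)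
  have hidx : Φ'.index ≤ p := by
    have hsec := (hsr.of_injective _ (Subgroup.inclusion_injective hPS)) ⊤
      (Φ'.map (Subgroup.inclusion hCP)) le_top
      (by
        rintro g - _ ⟨w, hw, rfl⟩
        obtain ⟨c, hc, j, i, hg⟩ := hdecP (g : Ω) g.2
        refine ⟨⟨c, hc⟩ * w * (⟨c, hc⟩ : C)⁻¹, hΦn.conj_mem w hw _, Subtype.ext ?_⟩
        simp only [Subgroup.coe_inclusion, Subgroup.coe_mul, Subgroup.coe_inv]
        rw [hg, show c * (z ^ j * x ^ i) * (w : Ω) * (c * (z ^ j * x ^ i))⁻¹ =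
          c * ((z ^ j * x ^ i) * (w : Ω) * (z ^ j * x ^ i)⁻¹) * c⁻¹ by group,
          (hA _ w.2 j i).eq, mul_inv_cancel_right])
      (by
        intro g _ h _
        obtain ⟨c, hc, j, i, hg⟩ := hdecP (g : Ω) g.2
        obtain ⟨d, hdC, j', i', hh⟩ := hdecP (h : Ω) h.2
        obtain ⟨A, hAdef⟩ : ∃ A, A = z ^ j * x ^ i := ⟨_, rfl⟩
        obtain ⟨B, hBdef⟩ : ∃ B, B = z ^ j' * x ^ i' := ⟨_, rfl⟩
        have hy : ⁅A, B⁆ ∈ Y := hAdef ▸ hBdef ▸ hAA j i j' i'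
        refine ⟨⁅(⟨c, hc⟩ : C), ⟨d, hdC⟩⁆ * ⟨⁅A, B⁆, hYC hy⟩, hΦ' ▸ Subgroup.mul_mem_sup
          (PGroups.commutator_le_frattini' hCp
            (Subgroup.commutator_mem_commutator trivial trivial))
          (show (⟨⁅A, B⁆, hYC hy⟩ : C) ∈ Y.subgroupOf C from hy), Subtype.ext ?_⟩
        have hAd : Commute A d := hAdef ▸ hA d hdC j i
        have hBc : Commute B c := hBdef ▸ hA c hc j' i'
        have hAc : Commute A c := hAdef ▸ hA c hc j i
        have hBd : Commute B d := hBdef ▸ hA d hdC j' i'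
        have hcd : Commute ⁅A, B⁆ (c⁻¹ * d⁻¹) :=
          hq.comm hy (mul_mem (inv_mem (hCS hc)) (inv_mem (hCS hdC)))
        simp only [commutatorElement_def] at hcd ⊢
        simp only [Subgroup.coe_inclusion, Subgroup.coe_mul, Subgroup.coe_inv]
        rw [hg, hh, ← hAdef, ← hBdef]
        symm
        calc c * A * (d * B) * (c * A)⁻¹ * (d * B)⁻¹
            = c * (A * d) * B * A⁻¹ * (c⁻¹ * B⁻¹) * d⁻¹ := by group
          _ = c * d * (A * B * A⁻¹ * B⁻¹) * (c⁻¹ * d⁻¹) := by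
              rw [hAd.eq, ← (hBc.inv_left.inv_right).eq]; group
          _ = c * d * c⁻¹ * d⁻¹ * (A * B * A⁻¹ * B⁻¹) := by
              rw [mul_assoc (c * d), hcd.eq]; group)
      (by
        intro g _
        obtain ⟨c, hc, j, i, hg⟩ := hdecP (g : Ω) g.2
        refine ⟨⟨c, hc⟩ ^ p, hΦ' ▸ Subgroup.mem_sup_left (PGroups.pow_mem_frattini hCp _),
          Subtype.ext ?_⟩
        simp only [SubgroupClass.coe_pow, Subgroup.coe_inclusion, hg]
        rw [(hA c hc j i).symm.mul_pow, hApow, mul_one])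
    rw [Subgroup.card_top, hPc, Subgroup.card_map_of_injective (Subgroup.inclusion_injective hCP),
      ← Φ'.card_mul_index] at hsec
    have h' : (p ^ 2 * Nat.card Φ') * Φ'.index ≤ (p ^ 2 * Nat.card Φ') * p := by
      convert hsec using 1 <;> ring
    exact Nat.le_of_mul_le_mul_left h' (Nat.mul_pos (pow_pos hp'.pos 2) Nat.card_pos)
  have hYcC : ∀ y ∈ Y.subgroupOf C, ∀ c : C, y * c = c * y := fun y hy c =>
    Subtype.ext (hq.comm (show (y : Ω) ∈ Y from hy) (hCS c.2))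
  obtain ⟨c₁, hc₁⟩ : ∃ c₁ : C, Subgroup.zpowers c₁ ⊔ Φ' = ⊤ := by
    by_cases hΦt : Φ' = ⊤
    · exact ⟨1, by rw [hΦt, sup_top_eq]⟩
    obtain ⟨c₁, hc₁⟩ : ∃ c₁ : C, c₁ ∉ Φ' := by
      by_contra h
      push Not at h
      exact hΦt ((Subgroup.eq_top_iff' _).2 h)
    refine ⟨c₁, (Subgroup.eq_top_iff' _).2 fun c => ?_⟩
    have hq' : Nat.card (C ⧸ Φ') = p := by
      rw [← Subgroup.index_eq_card]
      obtain ⟨m, hm'⟩ := hCp.index Φ'
      rw [hm'] at hidx ⊢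
      rcases m with _ | m
      · exact absurd (Subgroup.index_eq_one.1 (by rw [hm', pow_zero])) hΦt
      · have := (Nat.pow_le_pow_iff_right hp'.one_lt).1 (hidx.trans (pow_one p).ge)
        rw [show m + 1 = 1 by omega, pow_one]
    obtain ⟨i, hi⟩ := Subgroup.mem_zpowers_iff.1 (mem_zpowers_of_prime_card hq'
      (g := (c₁ : C ⧸ Φ')) (g' := (c : C ⧸ Φ'))
      (fun e => hc₁ ((QuotientGroup.eq_one_iff c₁).1 e)))
    rw [← QuotientGroup.mk_zpow] at hi
    have := QuotientGroup.eq.1 hi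
    rw [show c = c₁ ^ i * ((c₁ ^ i)⁻¹ * c) by rw [mul_inv_cancel_left]]
    exact Subgroup.mul_mem_sup (zpow_mem (Subgroup.mem_zpowers _) i) this
  have hgenC : Subgroup.zpowers c₁ ⊔ Y.subgroupOf C = ⊤ := frattini_nongenerating (by
    rw [sup_assoc, sup_comm (Y.subgroupOf C), ← hΦ', hc₁])
  have hCab : ∀ c ∈ C, ∀ d ∈ C, c * d = d * c := by
    intro c hc d hdC
    haveI : IsMulCommutative (Subgroup.closure ({c₁} ∪ (Y.subgroupOf C : Set C))) :=
      Subgroup.isMulCommutative_closure (by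
        rintro u (rfl | hu) v (rfl | hv)
        · rfl
        · exact (hYcC v hv u).symm
        · exact hYcC u hu v
        · exact hYcC u hu v)
    have htop : ∀ w : C, w ∈ Subgroup.closure ({c₁} ∪ (Y.subgroupOf C : Set C)) := by
      intro w
      rw [Subgroup.closure_union, ← Subgroup.zpowers_eq_closure, Subgroup.closure_eq, hgenC]
      trivial
    have := congrArg Subtype.val (IsMulCommutative.is_comm.comm
      (⟨⟨c, hc⟩, htop _⟩ : Subgroup.closure ({c₁} ∪ (Y.subgroupOf C : Set C))) ⟨⟨d, hdC⟩, htop _⟩)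
    exact congrArg Subtype.val this
  have hDab : ∀ a, a ∈ P → a ∈ E₂ → ∀ b, b ∈ P → b ∈ E₂ → a * b = b * a := by
    intro a ha ha' b hb hb'
    obtain ⟨c, hc, j, rfl⟩ := hdec a ha ha'
    obtain ⟨d, hdC, j', rfl⟩ := hdec b hb hb'
    exact (((show Commute c d from hCab c hc d hdC).mul_right
      ((show Commute z c from hzD c ((hCm c).1 hc).2.1).symm.zpow_right j')).mul_left
      (((show Commute z d from hzD d ((hCm d).1 hdC).2.1).zpow_left j).mul_right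
        ((Commute.refl z).zpow_zpow j j'))).eq
  have := finite_le hd.le
  by_cases hab : IsMulCommutative E₂
  · -- the abelian case
    have hZall : ∀ e ∈ E₂, e ^ p = 1 → e ∈ Z := fun e he hep => by
      rw [hq.Z_eq]
      exact ⟨he, hep, fun f hf => congrArg Subtype.val (hab.is_comm.comm ⟨e, he⟩ ⟨f, hf⟩)⟩
    have hV : ∀ g ∈ P, g ^ p = 1 → ∃ y ∈ Y, ∃ j i : ℤ, g = y * z ^ j * x ^ i := by
      intro g hg hgp
      obtain ⟨c, hc, j, i, hgd⟩ := hdecP g hg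
      have hcp : c ^ p = 1 := by
        rw [hgd, (hA c hc j i).symm.mul_pow, hApow, mul_one] at hgp
        exact hgp
      have hcY : c ∈ Y := by
        by_contra hcY
        exact hzY' c (hZall c ((hCm c).1 hc).2.1 hcp) hcY ((hCm c).1 hc).2.2
      exact ⟨c, hcY, j, i, by rw [hgd, mul_assoc]⟩
    have hxE : ∀ e ∈ E₂, x * e * x⁻¹ * e⁻¹ ∈ Z := by
      intro e he
      obtain ⟨y, hy, j, i, hu⟩ := hV (e * x * e⁻¹) (conj_mem_E hdP.norm (hd.le he) hxP)
        (by rw [conj_pow, hxp, mul_one, mul_inv_cancel])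
      have hmem : x ^ (i - 1) ∈ E₂ := by
        have h1 : e * x * e⁻¹ * x⁻¹ ∈ E₂ := hd.comm_mem (hd.le he) hxS
        rw [hu] at h1
        have h2 := mul_mem (inv_mem (mul_mem (hZE (hq.le hy)) (zpow_mem (hZE hq.mem) j))) h1
        rwa [show (y * z ^ j)⁻¹ * (y * z ^ j * x ^ i * x⁻¹) = x ^ i * x⁻¹ by group, ← zpow_sub_one] at h2
      obtain ⟨k, hk⟩ := hd.dvd_of_zpow_mem hxS hout hmem
      have hxi : x ^ i = x := by
        rw [show i = (p : ℤ) * k + 1 by omega, zpow_add_one, zpow_mul, zpow_natCast, hxp, one_zpow,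
          one_mul]
      rw [show x * e * x⁻¹ * e⁻¹ = (e * x * e⁻¹ * x⁻¹)⁻¹ by group, hu, hxi, mul_inv_cancel_right]
      exact inv_mem (mul_mem (hq.le hy) (zpow_mem hq.mem j))
    obtain ⟨K, hK⟩ : ∃ K, K = Z ⊓ (frattini E₂).map E₂.subtype := ⟨_, rfl⟩
    have hchar : ∀ (σ : MulAut E₂) (w : E₂), (w : Ω) ∈ K → (((σ w) : E₂) : Ω) ∈ K := by
      intro σ w hw
      rw [hK] at hw ⊢
      obtain ⟨h1, v, hv, hvw⟩ := hw
      obtain rfl : v = w := Subtype.ext hvw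
      exact ⟨hq.Z_eq ▸ omegaCenter_map σ (hq.Z_eq ▸ h1), _,
        Subgroup.characteristic_iff_map_le.1 inferInstance σ ⟨v, hv, rfl⟩, rfl⟩
    by_cases hKb : K = ⊥
    · -- `E₂` is elementary
      have hΦ : frattini E₂ = ⊥ := by
        rcases subsingleton_or_nontrivial (frattini E₂) with hs | hn
        · exact (frattini E₂).eq_bot_of_subsingleton
        exfalso
        obtain ⟨k, hk, hcard⟩ := IsPGroup.nontrivial_iff_card ((hS.to_le hd.le).to_subgroup (frattini E₂)) |>.1 hn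
        obtain ⟨w, hw⟩ := exists_prime_orderOf_dvd_card' p (hcard ▸ dvd_pow_self p hk.ne')
        have hwp : ((w : E₂) : Ω) ^ p = 1 := by
          rw [← SubgroupClass.coe_pow, ← SubgroupClass.coe_pow, ← hw, pow_orderOf_eq_one]; rfl
        have hmem : ((w : E₂) : Ω) ∈ K := hK ▸
          Subgroup.mem_inf.2 ⟨hZall _ (w : E₂).2 hwp, (w : E₂), w.2, rfl⟩
        rw [hKb, Subgroup.mem_bot] at hmem
        rw [show w = 1 from Subtype.ext (Subtype.ext hmem), orderOf_one] at hw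
        exact hp'.one_lt.ne hw
      have hle : E₂ ≤ Z := fun e he => hZall e he (by
        have := PGroups.pow_mem_frattini (hS.to_le hd.le) (⟨e, he⟩ : E₂)
        rw [hΦ, Subgroup.mem_bot] at this
        exact congrArg Subtype.val this)
      have := finite_le hZS
      have h1 := Subgroup.card_le_of_le hle
      have h3 := hlt
      rw [hd.card, pow_succ' p 2] at h3
      rw [hq.cardZ] at h1
      exact absurd h3 (not_lt.2 (Nat.mul_le_mul_left p h1))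
    · have hKZ : K = Z := hq.irreducible hS hd hm (hK ▸ inf_le_left)
        (fun s hs => Subgroup.mem_normalizer_iff.2 fun w => ⟨fun hw => ?_, fun hw => ?_⟩)
        (fun σ _ w hw => hchar _ w hw) hKb
      rotate_left
      · have hwE : w ∈ E₂ := hZE (hK.le hw).1
        exact hchar ((toAut F hd.le hd.norm ⟨s, hs⟩ : F.autGroup E₂) : MulAut E₂) ⟨w, hwE⟩ hw
      · have hwE : s * w * s⁻¹ ∈ E₂ := hZE (hK.le hw).1
        have h := hchar ((toAut F hd.le hd.norm ⟨s⁻¹, inv_mem hs⟩ : F.autGroup E₂) : MulAut E₂)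
          ⟨_, hwE⟩ hw
        rwa [toAut_apply, inv_inv, show s⁻¹ * (s * w * s⁻¹) * s = w by group] at h
      refine hout ((toAut_inn_iff hE hd.norm ⟨x, hxS⟩).1 (outAut_ker hS hE ?_))
      refine MulEquiv.ext fun v => ?_
      obtain ⟨e, rfl⟩ := QuotientGroup.mk'_surjective _ v
      rw [QuotientGroup.mk'_apply, outAut_apply, MulAut.one_apply]
      have he := hxE e e.2
      rw [← hKZ, hK] at he
      obtain ⟨-, v, hv, hve⟩ := he
      have h' : ((toAut F hd.le hd.norm ⟨x, hxS⟩ : F.autGroup E₂) : MulAut E₂) e = v * e :=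
        Subtype.ext (by
          rw [toAut_apply, Subgroup.coe_mul]
          have hve' : (v : Ω) = x * e * x⁻¹ * (e : Ω)⁻¹ := hve
          rw [hve', inv_mul_cancel_right])
      rw [h', QuotientGroup.mk_mul, (QuotientGroup.eq_one_iff v).2 hv, one_mul]
  · -- the derived subgroup is centralized by `x`
    have hE₂c : Nat.card E₂ = p * Nat.card D := by
      rw [hDc, ← hPc]
      exact Nat.eq_of_mul_eq_mul_left hp'.pos (hd.card.symm.trans hdP.card)
    have := finite_le ((hD ▸ inf_le_left : D ≤ P).trans hPS)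
    have hDcomm : IsMulCommutative D := ⟨⟨fun a b => Subtype.ext (by
      have ha := a.2
      have hb := b.2
      simp only [hD, Subgroup.mem_inf] at ha hb
      exact hDab a ha.1 ha.2 b hb.1 hb.2)⟩⟩
    have hidx2 : (D.subgroupOf E₂).index = p := by
      have h := (D.subgroupOf E₂).card_mul_index
      rw [Nat.card_congr (Subgroup.subgroupOfEquivOfLe (hD ▸ inf_le_right : D ≤ E₂)).toEquiv, hE₂c,
        mul_comm p] at h
      exact Nat.eq_of_mul_eq_mul_left Nat.card_pos h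
    have hAb := exists_abIndex (hS.to_le hd.le) hab (hD ▸ inf_le_right) hDcomm hidx2
    obtain ⟨e₀, he₀, he₀D⟩ : ∃ e ∈ E₂, e ∉ D := by
      by_contra h
      push Not at h
      have := Subgroup.card_le_of_le h
      rw [hE₂c] at this
      have h2 : 1 * Nat.card D < p * Nat.card D := (Nat.mul_lt_mul_right Nat.card_pos).2 hp'.one_lt
      omega
    obtain ⟨N, hN⟩ : ∃ N, N = (commutator E₂).map E₂.subtype := ⟨_, rfl⟩
    have hNC : N ≤ C := by
      intro w hw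
      obtain ⟨a, ha, rfl⟩ := hAb.derived_le he₀ he₀D (hN ▸ hw)
      rw [hD, Subgroup.mem_inf] at ha
      have hbr : ⁅a, e₀⁆ ∈ D := hAb.br_mem (hD ▸ Subgroup.mem_inf.2 ha) he₀
      rw [hD, Subgroup.mem_inf] at hbr
      refine (hCm _).2 ⟨hbr.1, hbr.2, ?_⟩
      obtain ⟨y, hy⟩ : ∃ y, y = a⁻¹ * (x * a * x⁻¹) := ⟨_, rfl⟩
      obtain ⟨d₀, hd₀⟩ : ∃ d, d = e₀⁻¹ * (x * e₀ * x⁻¹) := ⟨_, rfl⟩
      have hyY : y ∈ Y := by
        obtain ⟨c, hc, j, hac⟩ := hdec a ha.1 ha.2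
        have e : y = (z ^ j)⁻¹ * x * z ^ j * x⁻¹ := by
          rw [hy, hac, show x * (c * z ^ j) * x⁻¹ = x * c * z ^ j * x⁻¹ by group, ((hCm c).1 hc).2.2]
          group
        rw [e]
        have := hPx _ (inv_mem (zpow_mem (hZP hq.mem) j))
        rwa [inv_inv] at this
      have hd₀P : d₀ ∈ P ∧ d₀ ∈ E₂ := by
        refine ⟨?_, hd₀ ▸ mul_mem (inv_mem he₀) (conj_mem_E hd.norm hxS he₀)⟩
        rw [hd₀, show e₀⁻¹ * (x * e₀ * x⁻¹) = e₀⁻¹ * x * e₀⁻¹⁻¹ * x⁻¹ by group]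
        exact hdP.comm_mem (inv_mem (hd.le he₀)) hxS
      have hax : x * a * x⁻¹ = a * y := by rw [hy, mul_inv_cancel_left]
      have hex : x * e₀ * x⁻¹ = e₀ * d₀ := by rw [hd₀, mul_inv_cancel_left]
      have hfix : x * ⁅a, e₀⁆ * x⁻¹ = ⁅a, e₀⁆ := by
        have hy1 : Commute y e₀ := hq.comm hyY (hd.le he₀)
        have hy2 : Commute y d₀ := hq.comm hyY (hPS hd₀P.1)
        have hy3 : Commute y a := hq.comm hyY (hPS ha.1)
        have hda : Commute d₀ a := hDab _ hd₀P.1 hd₀P.2 _ ha.1 ha.2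
        rw [commutatorElement_def, show x * (a * e₀ * a⁻¹ * e₀⁻¹) * x⁻¹ =
          (x * a * x⁻¹) * (x * e₀ * x⁻¹) * (x * a * x⁻¹)⁻¹ * (x * e₀ * x⁻¹)⁻¹ by group, hax, hex,
          show a * y * (e₀ * d₀) * (a * y)⁻¹ = a * (y * (e₀ * d₀) * y⁻¹) * a⁻¹ by group,
          (hy1.mul_right hy2).eq, mul_inv_cancel_right,
          show a * (e₀ * d₀) * a⁻¹ * (e₀ * d₀)⁻¹ = a * e₀ * (d₀ * a⁻¹) * d₀⁻¹ * e₀⁻¹ by group,
          hda.inv_right.eq]
        group
      exact mul_inv_eq_iff_eq_mul.1 hfix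
    have hNn : S ≤ Subgroup.normalizer (N : Set Ω) := fun s hs => by
      have key : ∀ s ∈ S, ∀ w ∈ N, s * w * s⁻¹ ∈ N := fun s hs w hw => by
        rw [hN] at hw ⊢
        obtain ⟨v, hv, rfl⟩ := hw
        exact ⟨_, Subgroup.characteristic_iff_map_le.1 inferInstance
          ((toAut F hd.le hd.norm ⟨s, hs⟩ : F.autGroup E₂) : MulAut E₂) ⟨v, hv, rfl⟩, rfl⟩
      refine Subgroup.mem_normalizer_iff.2 fun w => ⟨key s hs w, fun hw => ?_⟩
      have := key s⁻¹ (inv_mem hs) _ hw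
      rwa [inv_inv, show s⁻¹ * (s * w * s⁻¹) * s = w by group] at this
    have hNS : N ≤ S := fun w hw => hCS (hNC hw)
    have hNne : N ≠ ⊥ := by
      intro hb
      refine hab ⟨⟨fun a b => ?_⟩⟩
      have h1 : ((⁅a, b⁆ : E₂) : Ω) ∈ N :=
        hN ▸ ⟨_, Subgroup.commutator_mem_commutator trivial trivial, rfl⟩
      rw [hb, Subgroup.mem_bot] at h1
      exact commutatorElement_eq_one_iff_mul_comm.1 (Subtype.ext h1)
    obtain ⟨t, htN, ht, ht1⟩ := exists_mem_omegaS hS hNS hNn hNne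
    rw [← hq.Y_eq] at ht
    obtain ⟨β, hβ, v, hv, hβv⟩ := hm
    rw [← hq.Y_eq] at hv hβv
    obtain ⟨i, hi⟩ := hq.gen ht ht1 hv
    rw [hN] at htN
    obtain ⟨t', ht', htv⟩ := htN
    refine hβv ?_
    have hv' : v = t' ^ i := Subtype.ext (by rw [SubgroupClass.coe_zpow, hi, ← htv]; rfl)
    rw [hv', map_zpow, SubgroupClass.coe_zpow]
    refine zpow_mem ?_ i
    have hC' : ((β t' : E₂) : Ω) ∈ C := hNC (hN ▸
      ⟨_, Subgroup.characteristic_iff_map_le.1 inferInstance β ⟨t', ht', rfl⟩, rfl⟩)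
    have hZ' : ((β t' : E₂) : Ω) ∈ Z := by
      rw [hq.Z_eq]
      refine omegaCenter_map β ?_
      rw [← hq.Z_eq]
      have htv' : (t' : Ω) = t := htv
      exact hq.le (htv' ▸ ht)
    by_contra hne
    exact hzY' _ hZ' hne ((hCm _).1 hC').2.2

end CfsgLib.Fusion.NormalEssential
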