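import Cfsg.Agent.Lib.Fusion.NormalEssential.CenterShapeMain
import Cfsg.Agent.Lib.Fusion.AlperinGen

/-!
# Tools for the case where every `Ω₁Z` lies in every essential subgroup

Centralizers of elements of `Ω₁Z(E) ∖ Ω₁Z(S)`, elementary subgroups, and invariance under the
automizers of essential subgroups fixing `Ω₁Z(S)`.
-/

set_option autoImplicit false

namespace CfsgLib.Fusion.NormalEssential

open Cfsg Cfsg.FusionSystem CfsgLib CfsgLib.Fusion CfsgLib.Fusion.RankThree
open scoped commutatorElement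

variable {p : ℕ} [hp : Fact p.Prime] {Ω : Type*} [Group Ω] {S : Subgroup Ω}
  {F : FusionSystem S} {E : Subgroup Ω}

omit hp in
/-- The centralizer in `S` of a noncentral element of `Ω₁Z(E)` is `E`. -/
theorem mem_of_comm [Fact p.Prime] [Finite S] (hd : Step p S E) {z : Ω} (hz : z ∈ omegaCenter p E)
    (hzY : z ∉ omegaCenter p S) {s : Ω} (hs : s ∈ S) (h : s * z = z * s) : s ∈ E := by
  by_contra hsE
  refine hzY ⟨hd.le hz.1, hz.2.1, fun g hg => ?_⟩
  obtain ⟨e, he, i, rfl⟩ := hd.gen hs hsE hg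
  exact ((show Commute z e from hz.2.2 e he).mul_right
    ((show Commute z s from h.symm).zpow_right i)).eq

omit hp in
theorem omegaCenter_mono {A B : Subgroup Ω} (hAB : A ≤ B) {x : Ω} (hx : x ∈ omegaCenter p B)
    (hxA : x ∈ A) : x ∈ omegaCenter p A :=
  ⟨hxA, hx.2.1, fun a ha => hx.2.2 a (hAB ha)⟩

omit hp in
theorem omegaCenter_le {A : Subgroup Ω} : omegaCenter p A ≤ A := fun _ hx => hx.1

variable [Finite S]

omit hp in
/-- `Ω₁Z(S)` lies in every essential subgroup. -/
theorem omegaS_le {P : Subgroup Ω} (hP : F.IsEssential p P) :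
    omegaCenter p S ≤ omegaCenter p P := fun x hx => by
  have h : x ∈ centerOf P := centerOf_le_of_isCentric hP.1
    ⟨hx.1, Subgroup.mem_centralizer_iff.2 fun g hg => (hx.2.2 g hg).symm⟩
  exact ⟨h.1, hx.2.1, fun e he => hx.2.2 e (hP.1.1 he)⟩

theorem isPGroup_ne_one {A : Subgroup Ω} (hS : IsPGroup p S) (hA : A ≤ S) {x : Ω} (hx : x ∈ A)
    (hxp : x ^ p = 1) (hx1 : x ≠ 1) : p ∣ Nat.card A := by
  have := finite_le hA
  have h := orderOf_dvd_natCard (⟨x, hx⟩ : A)
  rwa [← Subgroup.orderOf_coe, orderOf_eq_prime hxp hx1] at h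

/-- A nontrivial normal subgroup of `S` meets `Ω₁Z(S)`. -/
theorem exists_mem_omegaS (hS : IsPGroup p S) {N : Subgroup Ω} (hNS : N ≤ S)
    (hn : S ≤ Subgroup.normalizer (N : Set Ω)) (hN : N ≠ ⊥) :
    ∃ t ∈ N, t ∈ omegaCenter p S ∧ t ≠ 1 := by
  haveI hNn : (N.subgroupOf S).Normal :=
    (Subgroup.normal_subgroupOf_iff_le_normalizer hNS).2 hn
  have h := PGroups.inf_center_ne_bot (N := N.subgroupOf S) hS
    (fun e => hN ((Subgroup.eq_bot_iff_forall _).2 fun x hx => by
      have : (⟨x, hNS hx⟩ : S) ∈ N.subgroupOf S := hx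
      rw [e, Subgroup.mem_bot] at this
      exact congrArg Subtype.val this))
  obtain ⟨⟨w, hw⟩, hw1⟩ := Subgroup.ne_bot_iff_exists_ne_one.1 h
  have hwp : IsPGroup p (N.subgroupOf S ⊓ Subgroup.center S : Subgroup S) := hS.to_subgroup _
  haveI : Finite (N.subgroupOf S ⊓ Subgroup.center S : Subgroup S) := inferInstance
  obtain ⟨k, hk⟩ := hwp.exists_card_eq
  have hdvd : p ∣ Nat.card (N.subgroupOf S ⊓ Subgroup.center S : Subgroup S) := by
    rcases k with _ | k
    · rw [pow_zero] at hk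
      haveI := (Nat.card_eq_one_iff_unique.1 hk).1
      exact absurd (Subsingleton.elim _ _) hw1
    · rw [hk]; exact dvd_pow_self p (Nat.succ_ne_zero k)
  obtain ⟨t, ht⟩ := exists_prime_orderOf_dvd_card' p hdvd
  refine ⟨((t : S) : Ω), t.2.1, ⟨(t : S).2, ?_, fun g hg => ?_⟩, fun e => ?_⟩
  · rw [← Subgroup.coe_pow, ← Subgroup.coe_pow, ← ht, pow_orderOf_eq_one]; rfl
  · exact (congrArg Subtype.val (Subgroup.mem_center_iff.1 t.2.2 ⟨g, hg⟩)).symm
  · rw [show t = 1 from Subtype.ext (Subtype.ext e), orderOf_one] at ht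
    exact hp.out.one_lt.ne ht

omit hp in
/-- The elements of order dividing `p` in an elementary abelian subgroup are at most `p³`. -/
theorem card_le_of_elementary (hsr : SecLE p S) {A : Subgroup Ω} (hAS : A ≤ S)
    (hc : ∀ a ∈ A, ∀ b ∈ A, a * b = b * a) (he : ∀ a ∈ A, a ^ p = 1) : Nat.card A ≤ p ^ 3 := by
  have h := hsr (A.subgroupOf S) ⊥ bot_le
    (fun a _ b hb => by rw [Subgroup.mem_bot] at hb ⊢; simp [hb])
    (fun a ha b hb => by
      rw [Subgroup.mem_bot, commutatorElement_eq_one_iff_mul_comm]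
      exact Subtype.ext (hc _ ha _ hb))
    (fun a ha => Subgroup.mem_bot.2 (Subtype.ext (he _ ha)))
  rwa [Nat.card_congr (Subgroup.subgroupOfEquivOfLe hAS).toEquiv, Subgroup.card_bot, mul_one] at h

omit hp [Finite S] in
/-- Adjoining to an elementary abelian subgroup a centralizing element of order `p`. -/
theorem elementary_sup {A : Subgroup Ω} (hc : ∀ a ∈ A, ∀ b ∈ A, a * b = b * a)
    (he : ∀ a ∈ A, a ^ p = 1) {x : Ω} (hx : ∀ a ∈ A, a * x = x * a) (hxp : x ^ p = 1) :
    (∀ a ∈ A ⊔ Subgroup.zpowers x, ∀ b ∈ A ⊔ Subgroup.zpowers x, a * b = b * a) ∧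
      ∀ a ∈ A ⊔ Subgroup.zpowers x, a ^ p = 1 := by
  have hle : Subgroup.zpowers x ≤ Subgroup.normalizer (A : Set Ω) :=
    Subgroup.zpowers_le.2 (Subgroup.mem_normalizer_iff.2 fun w =>
      ⟨fun hw => by rw [← hx w hw, mul_inv_cancel_right]; exact hw, fun hw => by
        have h := hx _ hw
        rw [inv_mul_cancel_right] at h
        have h' : w = x * w * x⁻¹ := mul_left_cancel h
        rw [h']; exact hw⟩)
  have hdec : ∀ g ∈ A ⊔ Subgroup.zpowers x, ∃ w ∈ A, ∃ i : ℤ, g = w * x ^ i := by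
    intro g hg
    rw [← SetLike.mem_coe, Subgroup.coe_mul_of_right_le_normalizer_left A _ hle] at hg
    obtain ⟨w, hw, t, ht, rfl⟩ := hg
    obtain ⟨i, rfl⟩ := Subgroup.mem_zpowers_iff.1 ht
    exact ⟨w, hw, i, rfl⟩
  refine ⟨fun a ha b hb => ?_, fun a ha => ?_⟩
  · obtain ⟨v, hv, i, rfl⟩ := hdec a ha
    obtain ⟨w, hw, j, rfl⟩ := hdec b hb
    exact (((show Commute v w from hc v hv w hw).mul_right
      ((show Commute v x from hx v hv).zpow_right j)).mul_left
      (((show Commute x w from (hx w hw).symm).zpow_left i).mul_right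
        ((Commute.refl x).zpow_zpow i j))).eq
  · obtain ⟨v, hv, i, rfl⟩ := hdec a ha
    rw [((show Commute v x from hx v hv).zpow_right i).mul_pow, he v hv, one_mul, ← zpow_natCast,
      ← zpow_mul, mul_comm, zpow_mul, zpow_natCast, hxp, one_zpow]

omit hp in
/-- An elementary abelian subgroup of order `p³` contains the elements of order `p` centralizing
it. -/
theorem mem_of_comm_elementary [Fact p.Prime] (hsr : SecLE p S) {A : Subgroup Ω} (hAS : A ≤ S)
    (hc : ∀ a ∈ A, ∀ b ∈ A, a * b = b * a) (he : ∀ a ∈ A, a ^ p = 1)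
    (hcard : Nat.card A = p ^ 3) {x : Ω} (hxS : x ∈ S) (hx : ∀ a ∈ A, a * x = x * a)
    (hxp : x ^ p = 1) : x ∈ A := by
  by_contra hxA
  have := finite_le hAS
  obtain ⟨h1, h2⟩ := elementary_sup hc he hx hxp
  have h := card_le_of_elementary hsr (sup_le hAS (Subgroup.zpowers_le.2 hxS)) h1 h2
  rw [(card_sup_zpowers_of_pow_mem hx (by rw [hxp]; exact one_mem A) hxA).1, hcard] at h
  have : p ^ 3 * 1 < p ^ 3 * p := (Nat.mul_lt_mul_left (pow_pos (Fact.out : p.Prime).pos 3)).2
    (Fact.out : p.Prime).one_lt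
  rw [mul_one, mul_comm] at this
  omega

omit hp in
/-- Automorphisms of `S` transport the index `p` normal subgroups. -/
theorem step_map {Q : Subgroup Ω} (hd : Step p S Q) (σ : MulAut S) :
    Step p S (((Q.subgroupOf S).map σ.toMonoidHom).map S.subtype) := by
  refine ⟨Subgroup.map_subtype_le _, ?_, ?_⟩
  · rw [← Subgroup.normal_subgroupOf_iff_le_normalizer (Subgroup.map_subtype_le _),
      Subgroup.subgroupOf, Subgroup.comap_map_eq_self_of_injective S.subtype_injective]
    exact ((Subgroup.normal_subgroupOf_iff_le_normalizer hd.le).2 hd.norm).map _ σ.surjective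
  · rw [Subgroup.card_map_of_injective S.subtype_injective,
      Subgroup.card_map_of_injective (MulEquiv.injective σ),
      Nat.card_congr (Subgroup.subgroupOfEquivOfLe hd.le).toEquiv, hd.card]

omit hp [Finite S] in
theorem omega_map {Q : Subgroup Ω} (hQ : Q ≤ S) (σ : MulAut S) {x : S}
    (hx : (x : Ω) ∈ omegaCenter p Q) :
    ((σ x : S) : Ω) ∈ omegaCenter p (((Q.subgroupOf S).map σ.toMonoidHom).map S.subtype) := by
  refine ⟨⟨σ x, ⟨x, hx.1, rfl⟩, rfl⟩, ?_, ?_⟩
  · rw [← Subgroup.coe_pow, ← map_pow, show x ^ p = 1 from Subtype.ext hx.2.1, map_one,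
      Subgroup.coe_one]
  · rintro _ ⟨_, ⟨w, hw, rfl⟩, rfl⟩
    have h : x * w = w * x := Subtype.ext (hx.2.2 w hw)
    have := congrArg σ h
    rw [map_mul, map_mul] at this
    exact congrArg Subtype.val this

/-- An essential subgroup fixing `Ω₁Z(S)` preserves what `Aut_F(S)` preserves there. -/
theorem keep_of_fix (hS : IsPGroup p S) (hF : F.IsSaturated p) (hE : F.IsEssential p E)
    (hd : Step p S E)
    (hY : ∀ α ∈ F.autGroup E, ∀ x : E, (x : Ω) ∈ omegaCenter p S →
      (((α : MulAut E) x : E) : Ω) ∈ omegaCenter p S)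
    {K : Subgroup Ω} (hK : K ≤ omegaCenter p S)
    (hKA : ∀ φ ∈ F.autGroup S, ∀ x : S, (x : Ω) ∈ K → ((φ x : S) : Ω) ∈ K) :
    ∀ α ∈ F.autGroup E, ∀ x : E, (x : Ω) ∈ K → (((α : MulAut E) x : E) : Ω) ∈ K := by
  classical
  have hES := hE.1.1
  have := finite_le hES
  have hp' := hp.out
  obtain ⟨s, hs, hsE⟩ : ∃ s ∈ S, s ∉ E := by
    by_contra h
    push Not at h
    have := hd.card
    rw [Subgroup.eq_of_le_of_card_ge (K := S) hES (Subgroup.card_le_of_le h)] at this
    have h2 : 1 * Nat.card S < p * Nat.card S := (Nat.mul_lt_mul_right Nat.card_pos).2 hp'.one_lt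
    omega
  -- automorphisms preserving `K`
  let A : Subgroup (MulAut E) :=
    { carrier := {α | (K.subgroupOf E).map α.toMonoidHom = K.subgroupOf E}
      one_mem' := Subgroup.map_id _
      mul_mem' := fun {a b} (ha : _ = _) (hb : _ = _) => by
        show (K.subgroupOf E).map (a.toMonoidHom.comp b.toMonoidHom) = _
        rw [← Subgroup.map_map, hb, ha]
      inv_mem' := fun {a} (ha : _ = _) => by
        show (K.subgroupOf E).map a⁻¹.toMonoidHom = _
        conv_lhs => rw [← ha, Subgroup.map_map]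
        convert Subgroup.map_id (K.subgroupOf E) using 2
        ext x
        exact congrArg Subtype.val (a.symm_apply_apply x) }
  have hext : extGroup F E ≤ A := by
    refine (Subgroup.closure_le _).2 ?_
    rintro α ⟨Q, hEQ, ψ, hψ, hψα⟩
    have hQ : Q = S := by
      refine le_antisymm (hom_le hψ) fun g hg => ?_
      obtain ⟨q, hq, hqE⟩ := SetLike.exists_of_lt hEQ
      obtain ⟨e, he, i, rfl⟩ := hd.gen (hom_le hψ hq) hqE hg
      exact mul_mem (hEQ.le he) (zpow_mem hq i)
    subst hQ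
    obtain ⟨φ, hφ, hφv⟩ := exists_iso hψ (hom_range_eq_self hψ)
    have hφA : (φ : MulAut Q) ∈ F.autGroup Q := (mem_autGroup_iff_isoIn le_rfl).2 hφ
    refine map_subgroupOf_eq hES ?_
    rintro _ ⟨x, hx, rfl⟩
    show ((α x : E) : Ω) ∈ K
    rw [← hψα x, ← hφv]
    exact hKA _ hφA _ hx
  have hA := autGroup_le_fix_sup_ext hS hF hE.2.1 ((omegaCenter p S).subgroupOf E)
    (fun a ha x hx => hY a ha x hx) ⟨s, hs, hd.norm hs⟩ hsE
    (fun x hx => Subtype.ext (by
      show s * (x : Ω) * s⁻¹ = x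
      have hx' : (x : Ω) ∈ omegaCenter p S := hx
      rw [← hx'.2.2 s hs, mul_inv_cancel_right]))
    A (fun a _ h => map_subgroupOf_eq hES (by
      rintro _ ⟨x, hx, rfl⟩
      show ((a x : E) : Ω) ∈ K
      rw [h x (hK hx)]
      exact hx))
  intro α hα x hx
  exact ((sup_le le_rfl hext) (hA hα) : _ = _).le ⟨x, hx, rfl⟩

/-- An element of `p`-power order in a normal subgroup lies in a conjugate of `T` met with it. -/
theorem exists_conj_mem_sylow {G : Type*} [Group G] [Finite G] (T : Sylow p G) {σ : G} {k : ℕ}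
    (hσ : σ ^ p ^ k = 1) : ∃ h : G, h * σ * h⁻¹ ∈ (T : Subgroup G) := by
  have hW : IsPGroup p (Subgroup.zpowers σ) := fun w => by
    obtain ⟨i, hi⟩ := Subgroup.mem_zpowers_iff.1 w.2
    exact ⟨k, Subtype.ext (by rw [SubgroupClass.coe_pow, ← hi, ← zpow_natCast, ← zpow_mul, mul_comm,
      zpow_mul, zpow_natCast, hσ, one_zpow, Subgroup.coe_one])⟩
  obtain ⟨P, hP⟩ := hW.exists_le_sylow
  obtain ⟨h, hh⟩ := MulAction.exists_smul_eq G P T
  refine ⟨h, ?_⟩
  rw [← hh, Sylow.coe_subgroup_smul]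
  exact Subgroup.mem_map.2 ⟨σ, hP (Subgroup.mem_zpowers σ), rfl⟩

end CfsgLib.Fusion.NormalEssential
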