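import Cfsg.Agent.Lib.Fusion.NormalEssential.Basic
import Cfsg.Agent.Lib.Fusion.CentralTorus

/-!
# The central torus argument for a family of essential subgroups

With derived subgroup `L` of order `p` and `Z(S) ≠ L` the central elements fixed by a good
automorphism form a nontrivial subgroup invariant for every family of essential subgroups.
-/

set_option autoImplicit false

namespace CfsgLib.Fusion.TorusFamily

open Cfsg Cfsg.FusionSystem CfsgLib.Fusion CfsgLib.Fusion.CentralTorus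

variable {Ω : Type*} [Group Ω] {S : Subgroup Ω} [Finite S] {F : FusionSystem S} {p : ℕ}
  [Fact p.Prime] {L : Subgroup Ω} {ℰ : Subgroup Ω → Prop} {E : Subgroup Ω}

omit [Finite S] [Fact p.Prime] in
theorem centerOf_map (ψ : MulAut S) {z : S} (hz : (z : Ω) ∈ centerOf S) :
    ((ψ z : S) : Ω) ∈ centerOf S := by
  refine ⟨(ψ z).2, Subgroup.mem_centralizer_iff.2 fun y hy => ?_⟩
  have h1 : (ψ.symm ⟨y, hy⟩ : S) * z = z * ψ.symm ⟨y, hy⟩ :=
    Subtype.ext (centerOf_comm hz (ψ.symm ⟨y, hy⟩).2)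
  have h2 := congrArg ψ h1
  rw [map_mul, map_mul, MulEquiv.apply_symm_apply] at h2
  exact congrArg Subtype.val h2

/-- No such family sees a trivial core. -/
theorem not_reduced (hp2 : p ≠ 2) (hS : IsPGroup p S) (hF : F.IsSaturated p) (hLZ : L ≤ centerOf S)
    (hLc : Nat.card L = p) (hcomm : ∀ s ∈ S, ∀ u ∈ S, s * u * s⁻¹ * u⁻¹ ∈ L)
    (hnab : ∃ s ∈ S, ∃ u ∈ S, s * u * s⁻¹ * u⁻¹ ≠ 1) (hne' : centerOf S ≠ L) (hE : ℰ E) (hES : E ≠ S)
    (hℰ : NormalEssential.Family p F ℰ) : False := by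
  classical
  obtain ⟨s₀, hs₀, u₀, hu₀, hc₀⟩ := hnab
  have hgen : ∀ ψ : MulAut S, ∀ x : S, (x : Ω) ∈ L → ((ψ x : S) : Ω) ∈ L := by
    intro ψ x hx
    obtain ⟨c, hc⟩ : ∃ c : S, c = ⟨s₀, hs₀⟩ * ⟨u₀, hu₀⟩ * ⟨s₀, hs₀⟩⁻¹ * ⟨u₀, hu₀⟩⁻¹ := ⟨_, rfl⟩
    have hcv : (c : Ω) = s₀ * u₀ * s₀⁻¹ * u₀⁻¹ := by rw [hc]; rfl
    have hcL : (c : Ω) ∈ L := hcv ▸ hcomm _ hs₀ _ hu₀
    obtain ⟨i, hi⟩ := mem_zpowers_of_prime_card (g := (⟨(c : Ω), hcL⟩ : L))
      (g' := (⟨(x : Ω), hx⟩ : L)) hLc (fun h => hc₀ (hcv ▸ congrArg Subtype.val h))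
    have hxi : x = c ^ i := Subtype.ext (by
      rw [SubgroupClass.coe_zpow]; exact (congrArg Subtype.val hi).symm)
    rw [hxi, map_zpow, SubgroupClass.coe_zpow]
    refine zpow_mem ?_ i
    rw [hc, map_mul, map_mul, map_mul, map_inv, map_inv]
    exact hcomm _ (ψ _).2 _ (ψ _).2
  obtain ⟨δ₀, h₀⟩ : ∃ δ : MulAut S, Good F L δ := by
    by_contra hnone
    have hP := hℰ.ess E hE
    obtain ⟨g, hg, x, hx, hgx⟩ := exists_moving hS hF hLZ hLc hcomm hP hES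
    have := finite_le hP.1.1
    refine hgx ?_
    have hinv : ∀ x : E, (x : Ω) ∈ L → ((g⁻¹ x : E) : Ω) ∈ L := fun x hx =>
      map_L_eq hS hF hLZ hLc hcomm hP hES (inv_mem hg) (fun b hb y hy => by
        by_contra hb'
        have hbx : (g * b * g⁻¹) y ≠ y := fun h => hb' (by
          have := congrArg (⇑(g⁻¹ : MulAut _)) h
          rwa [MulAut.mul_apply, MulAut.mul_apply, MulAut.inv_apply_self] at this)
        obtain ⟨δ, hδ, -⟩ := exists_good hp2 hS hF hLZ hLc hcomm hP hES hg hb hy hbx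
        exact hnone ⟨δ, hδ⟩) hx
    have hsurj : (L.subgroupOf E).map (g⁻¹).toMonoidHom = L.subgroupOf E :=
      Subgroup.eq_of_le_of_card_ge (Subgroup.map_le_iff_le_comap.2 fun y hy => hinv y hy)
        (le_of_eq (Subgroup.card_map_of_injective (MulEquiv.injective g⁻¹)).symm)
    obtain ⟨y, hy, hyx⟩ := hsurj.ge (show x ∈ L.subgroupOf E from hx)
    have : g x = y := by rw [← hyx]; exact MulAut.apply_inv_self _ g y
    rw [this]; exact hy
  let C : Subgroup Ω :=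
    (MonoidHom.eqLocus δ₀.toMonoidHom (MonoidHom.id S) ⊓ (centerOf S).subgroupOf S).map S.subtype
  have hC : ∀ x : S, (x : Ω) ∈ C ↔ δ₀ x = x ∧ (x : Ω) ∈ centerOf S := by
    intro x
    refine ⟨?_, fun h => ⟨x, ⟨h.1, h.2⟩, rfl⟩⟩
    rintro ⟨y, hy, hyx⟩
    obtain rfl : y = x := Subtype.ext hyx
    exact ⟨hy.1, hy.2⟩
  have hCS : C ≤ S := Subgroup.map_subtype_le _
  have hCA : ∀ ψ ∈ F.autGroup S, ∀ x : S, (x : Ω) ∈ C → ((ψ x : S) : Ω) ∈ C := by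
    intro ψ hψ x hx
    obtain ⟨hfix, hz⟩ := (hC x).1 hx
    refine (hC _).2 ⟨?_, centerOf_map ψ hz⟩
    have hψ' : Good F L (ψ * δ₀ * ψ⁻¹) := by
      refine ⟨mul_mem (mul_mem hψ h₀.1) (inv_mem hψ), fun y hy => ?_, fun z hz' => ?_⟩
      · rw [MulAut.mul_apply, MulAut.mul_apply, h₀.2.1 _ (hgen ψ⁻¹ y hy), map_inv,
          MulAut.apply_inv_self]
      · obtain ⟨c, hc, hfc, hl⟩ := h₀.2.2 _ (centerOf_map ψ⁻¹ hz')
        refine ⟨ψ c, centerOf_map ψ hc,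
          by rw [MulAut.mul_apply, MulAut.mul_apply, MulAut.inv_apply_self, hfc], ?_⟩
        have := hgen ψ _ hl
        rwa [map_mul, map_inv, MulAut.apply_inv_self] at this
    refine Good.unique hp2 hS hF hLZ hLc hψ' h₀ (centerOf_map ψ hz) ?_
    show ψ (δ₀ (ψ⁻¹ (ψ x))) = ψ x
    rw [MulAut.inv_apply_self, hfix]
  have hbot := hℰ.reduced C hCS hCA fun P hP' => by
    have hP := hℰ.ess P hP'
    have hPS := isEssential_ne_self hS hF hP
    refine ⟨fun c hc => CentralTorus.center_le hLZ hP ((hC ⟨c, hCS hc⟩).1 hc).2, fun ψ hψ x hx => ?_⟩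
    obtain ⟨hfix, hz⟩ := (hC (Subgroup.inclusion hP.1.1 x)).1 hx
    obtain ⟨h1, h2⟩ := fixed_invariant hp2 hS hF hLZ hLc hcomm hP hPS h₀ hψ
      (z := Subgroup.inclusion hP.1.1 x) rfl hz hfix (w := Subgroup.inclusion hP.1.1 (ψ x)) rfl
    exact (hC _).2 ⟨h2, h1⟩
  refine hne' (le_antisymm (fun z hz => ?_) hLZ)
  obtain ⟨c, hc, hfc, hl⟩ := h₀.2.2 ⟨z, hz.1⟩ hz
  have hc1 : (c : Ω) = 1 := Subgroup.mem_bot.1 (hbot ▸ (hC c).2 ⟨hfc, hc⟩)
  simpa [hc1] using hl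

end CfsgLib.Fusion.TorusFamily
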