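import Cfsg.Agent.Lib.Fusion.NormalEssential.CenterShape
import Cfsg.Agent.Lib.Fusion.RankThreeMain
import Cfsg.Agent.Lib.Fusion.NormalEssential.TorusFamily

/-!
# The order is `p⁴` when a central element of one normal essential subgroup lies outside another

With the frame `S = C ⟨z, b, u⟩`: `C` is cyclic and central; `[u, b] = 1` gives a nontrivial core, and
so do the `p`th powers when `|C| > p`.
-/

set_option autoImplicit false

namespace CfsgLib.Fusion.NormalEssential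

open Cfsg Cfsg.FusionSystem CfsgLib CfsgLib.Fusion CfsgLib.Fusion.RankThree
open scoped commutatorElement

variable {p : ℕ} [hp : Fact p.Prime] {Ω : Type*} [Group Ω] {S : Subgroup Ω} [Finite S]
  {F : FusionSystem S} {E₁ E₂ : Subgroup Ω}

omit hp in
/-- Conjugates of commutation rules by powers. -/
theorem zpow_conj_rule {G : Type*} [Group G] {u z b : G} (huz : u * z * u⁻¹ = z * b)
    (hub : Commute u b) (l : ℤ) : u ^ l * z * (u ^ l)⁻¹ = z * b ^ l := by
  induction l using Int.induction_on with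
  | zero => simp
  | succ n ih =>
    rw [add_comm (n : ℤ), zpow_add, zpow_one,
      show u * u ^ (n : ℤ) * z * (u * u ^ (n : ℤ))⁻¹ = u * (u ^ (n : ℤ) * z * (u ^ (n : ℤ))⁻¹) * u⁻¹
        by group, ih, show u * (z * b ^ (n : ℤ)) * u⁻¹ = u * z * u⁻¹ * (u * b ^ (n : ℤ) * u⁻¹) by group,
      huz, (hub.zpow_right _).eq, mul_inv_cancel_right, mul_assoc, zpow_add, zpow_one]
  | pred n ih =>
    have h : u⁻¹ * z * u = z * b⁻¹ := by
      have h1 : u⁻¹ * (z * b) * u = z := by rw [← huz]; group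
      rw [show u⁻¹ * (z * b) * u = u⁻¹ * z * u * (u⁻¹ * b * u) by group,
        show u⁻¹ * b * u = b by rw [mul_assoc, ← hub.eq, inv_mul_cancel_left]] at h1
      exact eq_mul_inv_of_mul_eq h1
    rw [sub_eq_add_neg, add_comm (-(n : ℤ)), zpow_add, zpow_neg_one,
      show u⁻¹ * u ^ (-(n : ℤ)) * z * (u⁻¹ * u ^ (-(n : ℤ)))⁻¹ =
        u⁻¹ * (u ^ (-(n : ℤ)) * z * (u ^ (-(n : ℤ)))⁻¹) * u by group, ih,
      show u⁻¹ * (z * b ^ (-(n : ℤ))) * u = u⁻¹ * z * u * (u⁻¹ * b ^ (-(n : ℤ)) * u) by group, h,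
      show u⁻¹ * b ^ (-(n : ℤ)) * u = b ^ (-(n : ℤ)) by
        rw [mul_assoc, ← (hub.zpow_right _).eq, inv_mul_cancel_left],
      mul_assoc, zpow_add, zpow_neg_one]

set_option maxHeartbeats 1600000 in
/-- A core-free system with such a pair lives on a group of order `p⁴` and maximal class. -/
theorem shape_of_center {ℰ : Subgroup Ω → Prop} (hS : IsPGroup p S) (hp2 : p ≠ 2) (hsr : SecLE p S)
    (hlt : p ^ 3 < Nat.card S) (hF : F.IsSaturated p) (hℰ : Family p F ℰ)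
    (hd₁ : Step p S E₁) (hd₂ : Step p S E₂) (hm₁ : ℰ E₁) {z₀ : Ω}
    (hz : z₀ ∈ omegaCenter p E₂) (hzE : z₀ ∉ E₁) :
    (∃ z b y u : S, Shape p z b y u) ∧ IsElementaryAbelian p E₂ ∧ Nat.card E₂ = p ^ 3 ∧
      Nat.card E₁ = p ^ 3 ∧ ¬ IsMulCommutative E₁ := by
  classical
  have hE₁ := hℰ.ess E₁ hm₁
  have hp' := hp.out
  have hodd : Odd p := hp'.odd_of_ne_two hp2
  obtain ⟨C, b, u, hb, hu, huE, hup, hbdef, hyC, hCle, hbC, hCu, hgen⟩ :=
    exists_frame_center hS hp2 hF hd₁ hd₂ hE₁ hz hzE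
  have hz₂ : z₀ ∈ E₂ := hz.1
  have hzS : z₀ ∈ S := hd₂.le hz₂
  have huS : u ∈ S := hd₁.le hu
  have hbS : b ∈ S := hd₂.le hb.2.1
  have hCS : C ≤ S := fun c hc => hd₁.le (hCle hc).1
  have := finite_le hCS
  have hzC : ∀ c ∈ C, z₀ * c = c * z₀ := fun c hc => hz.2.2 c (hCle hc).2
  have hbC' : ∀ c ∈ C, b * c = c * b := fun c hc => hb.2.2.2 c (hCle hc).2
  have hzb : Commute z₀ b := hz.2.2 b hb.2.1
  have hbp : b ^ p = 1 := hb.2.2.1
  have huz : u * z₀ * u⁻¹ = z₀ * b := by rw [hbdef]; group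
  obtain ⟨y, hy⟩ : ∃ y, y = b⁻¹ * u * b * u⁻¹ := ⟨_, rfl⟩
  rw [← hy] at hyC
  have hub : u * b * u⁻¹ = b * y := by rw [hy]; group
  -- the decompositions
  have hg₁ : ∀ g ∈ E₁, ∃ c ∈ C, ∃ j l : ℤ, g = c * b ^ j * u ^ l := by
    intro g hg
    obtain ⟨d, hd, l, rfl⟩ := hd₂.gen huS huE (hd₁.le hg)
    have hdE : d ∈ E₁ := by
      have := mul_mem hg (inv_mem (zpow_mem hu l))
      rwa [mul_inv_cancel_right] at this
    obtain ⟨c, hc, j, rfl⟩ := hgen d ⟨hdE, hd⟩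
    exact ⟨c, hc, j, l, rfl⟩
  have hg₂ : ∀ g ∈ E₂, ∃ c ∈ C, ∃ j i : ℤ, g = c * b ^ j * z₀ ^ i := by
    intro g hg
    obtain ⟨d, hd, i, rfl⟩ := hd₁.gen hzS hzE (hd₂.le hg)
    have hdE : d ∈ E₂ := by
      have := mul_mem hg (inv_mem (zpow_mem hz₂ i))
      rwa [mul_inv_cancel_right] at this
    obtain ⟨c, hc, j, rfl⟩ := hgen d ⟨hd, hdE⟩
    exact ⟨c, hc, j, i, rfl⟩
  -- orders
  obtain ⟨D, hD⟩ : ∃ D, D = C ⊔ Subgroup.zpowers b := ⟨_, rfl⟩
  have hDle : D ≤ E₁ ⊓ E₂ := hD ▸ sup_le hCle (Subgroup.zpowers_le.2 ⟨hb.1, hb.2.1⟩)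
  have := finite_le (fun d hd => hd₁.le (hDle hd).1 : D ≤ S)
  have hDc : Nat.card D = p * Nat.card C := by
    rw [hD]
    exact (card_sup_zpowers_of_pow_mem (fun c hc => (hbC' c hc).symm) (by rw [hbp]; exact one_mem C)
      hbC).1
  have hE₂D : E₂ = D ⊔ Subgroup.zpowers z₀ := by
    refine le_antisymm (fun g hg => ?_)
      (sup_le (fun d hd => (hDle hd).2) (Subgroup.zpowers_le.2 hz₂))
    obtain ⟨c, hc, j, i, rfl⟩ := hg₂ g hg
    exact Subgroup.mul_mem_sup (hD ▸ Subgroup.mul_mem_sup hc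
      (zpow_mem (Subgroup.mem_zpowers b) j)) (zpow_mem (Subgroup.mem_zpowers z₀) i)
  have hE₂c : Nat.card E₂ = p * (p * Nat.card C) := by
    rw [hE₂D, ← hDc]
    exact (card_sup_zpowers_of_pow_mem (fun d hd => (hz.2.2 d (hDle hd).2).symm)
      (by rw [hz.2.1]; exact one_mem D) fun h => hzE (hDle h).1).1
  have hSc : Nat.card S = p ^ 3 * Nat.card C := by rw [hd₂.card, hE₂c]; ring
  -- `C` is cyclic and central
  have := finite_le hd₂.le
  have hCp : IsPGroup p C := hS.to_le hCS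
  obtain ⟨ΦC, hΦC⟩ : ∃ Φ, Φ = (frattini C).map ((Subgroup.inclusion hCS)) := ⟨_, rfl⟩
  have hcomm2 : ∀ x ∈ E₂, ∀ y ∈ E₂, ∃ c ∈ C, ∃ d ∈ C, ∀ w ∈ frattini C,
      (x * (w : Ω) * x⁻¹ = c * (w : Ω) * c⁻¹) ∧ x * y * x⁻¹ * y⁻¹ = c * d * c⁻¹ * d⁻¹ := by
    intro x hx y hy
    obtain ⟨c, hc, j, i, rfl⟩ := hg₂ x hx
    obtain ⟨d, hd, j', i', rfl⟩ := hg₂ y hy
    refine ⟨c, hc, d, hd, fun w _ => ?_⟩
    have k1 : ∀ {e : Ω}, e ∈ C → ∀ m n : ℤ, Commute (b ^ m * z₀ ^ n) e := fun {e} he m n =>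
      ((show Commute b e from hbC' e he).zpow_left m).mul_left
        ((show Commute z₀ e from hzC e he).zpow_left n)
    refine ⟨?_, ?_⟩
    · rw [mul_assoc c, show c * (b ^ j * z₀ ^ i) * (w : Ω) * (c * (b ^ j * z₀ ^ i))⁻¹ =
        c * ((b ^ j * z₀ ^ i) * (w : Ω) * (b ^ j * z₀ ^ i)⁻¹) * c⁻¹ by group,
        (k1 w.2 j i).eq, mul_inv_cancel_right]
    · rw [mul_assoc c, mul_assoc d]
      have k3 : Commute (b ^ j * z₀ ^ i) (b ^ j' * z₀ ^ i') :=
        (((Commute.refl b).zpow_zpow j j').mul_right (hzb.symm.zpow_zpow j i')).mul_left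
          ((hzb.zpow_zpow i j').mul_right ((Commute.refl z₀).zpow_zpow i i'))
      obtain ⟨A, hA⟩ : ∃ A, A = b ^ j * z₀ ^ i := ⟨_, rfl⟩
      obtain ⟨B, hB⟩ : ∃ B, B = b ^ j' * z₀ ^ i' := ⟨_, rfl⟩
      have hAd : Commute A d := hA ▸ k1 hd j i
      have hBc : Commute B c := hB ▸ k1 hc j' i'
      rw [← hA, ← hB] at k3 ⊢
      calc c * A * (d * B) * (c * A)⁻¹ * (d * B)⁻¹
          = c * (A * d) * B * A⁻¹ * c⁻¹ * B⁻¹ * d⁻¹ := by group
        _ = c * d * (A * B) * A⁻¹ * c⁻¹ * B⁻¹ * d⁻¹ := by rw [hAd.eq]; group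
        _ = c * d * (B * c⁻¹) * B⁻¹ * d⁻¹ := by rw [k3.eq]; group
        _ = c * d * c⁻¹ * d⁻¹ := by rw [hBc.inv_right.eq]; group
  have hsec := hsr (E₂.subgroupOf S) ΦC
    (by
      rw [hΦC]
      rintro _ ⟨w, -, rfl⟩
      exact (hCle w.2).2)
    (by
      rw [hΦC]
      rintro x hx _ ⟨w, hw, rfl⟩
      obtain ⟨c, hc, d, -, h⟩ := hcomm2 (x : Ω) hx (x : Ω) hx
      exact ⟨(⟨c, hc⟩ : C) * w * (⟨c, hc⟩ : C)⁻¹, (inferInstance : (frattini C).Normal).conj_mem w hw _,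
        Subtype.ext (h w hw).1.symm⟩)
    (by
      rw [hΦC]
      intro x hx y hy
      obtain ⟨c, hc, d, hd, h⟩ := hcomm2 (x : Ω) hx (y : Ω) hy
      refine ⟨⁅(⟨c, hc⟩ : C), ⟨d, hd⟩⁆, PGroups.commutator_le_frattini' hCp
        (Subgroup.commutator_mem_commutator trivial trivial), Subtype.ext ?_⟩
      simp only [commutatorElement_def]
      exact (h 1 (one_mem _)).2.symm)
    (by
      rw [hΦC]
      intro x hx
      obtain ⟨c, hc, j, i, hxe⟩ := hg₂ (x : Ω) hx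
      refine ⟨⟨c, hc⟩ ^ p, PGroups.pow_mem_frattini hCp _, Subtype.ext ?_⟩
      have k1 : Commute c (b ^ j) := (show Commute c b from (hbC' c hc).symm).zpow_right j
      have k2 : Commute (c * b ^ j) (z₀ ^ i) :=
        ((show Commute c z₀ from (hzC c hc).symm).mul_left (hzb.symm.zpow_left j)).zpow_right i
      simp only [SubgroupClass.coe_pow, Subgroup.coe_inclusion, hxe]
      rw [k2.mul_pow, k1.mul_pow, ← zpow_natCast (b ^ j), ← zpow_mul, mul_comm j, zpow_mul,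
        zpow_natCast, hbp, one_zpow, mul_one, ← zpow_natCast (z₀ ^ i), ← zpow_mul, mul_comm i,
        zpow_mul, zpow_natCast, hz.2.1, one_zpow, mul_one])
  rw [Nat.card_congr (Subgroup.subgroupOfEquivOfLe hd₂.le).toEquiv, hE₂c, hΦC,
    Subgroup.card_map_of_injective (Subgroup.inclusion_injective hCS),
    ← (frattini C).card_mul_index] at hsec
  have hcyc : IsCyclic C := PGroups.isCyclic_of_index_frattini_le hCp (by
    have h' : (p ^ 2 * Nat.card (frattini C)) * (frattini C).index ≤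
        (p ^ 2 * Nat.card (frattini C)) * p := by
      convert hsec using 1 <;> ring
    exact Nat.le_of_mul_le_mul_left h' (Nat.mul_pos (pow_pos hp'.pos 2) Nat.card_pos))
  have hCC : ∀ c ∈ C, ∀ c' ∈ C, c * c' = c' * c := fun c hc c' hc' =>
    congrArg Subtype.val (hcyc.commutative.is_comm.comm (⟨c, hc⟩ : C) ⟨c', hc'⟩)
  have hCz : C ≤ centerOf S := by
    intro c hc
    refine ⟨hCS hc, Subgroup.mem_centralizer_iff.2 fun g hg => ?_⟩
    obtain ⟨e, he, i, rfl⟩ := hd₁.gen hzS hzE hg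
    obtain ⟨c', hc', j, l, rfl⟩ := hg₁ e he
    exact ((((show Commute c' c from hCC c' hc' c hc).mul_left
      ((show Commute b c from hbC' c hc).zpow_left j)).mul_left
      ((show Commute u c from hCu c hc).zpow_left l)).mul_left
      ((show Commute z₀ c from hzC c hc).zpow_left i)).eq
  have hC1 : C ≠ ⊥ := fun h => by
    have h3 := hlt
    rw [hSc, h, Subgroup.card_bot, mul_one] at h3
    exact lt_irrefl _ h3
  -- `y ≠ 1`
  have hy1 : y ≠ 1 := by
    intro hy1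
    have hcub : Commute u b := by
      rw [hy1, mul_one] at hub
      exact mul_inv_eq_iff_eq_mul.1 hub
    have hbZ : b ∈ centerOf S := by
      refine ⟨hbS, Subgroup.mem_centralizer_iff.2 fun g hg => ?_⟩
      obtain ⟨e, he, i, rfl⟩ := hd₁.gen hzS hzE hg
      obtain ⟨c', hc', j, l, rfl⟩ := hg₁ e he
      exact ((((show Commute c' b from (hbC' c' hc').symm).mul_left
        ((Commute.refl b).zpow_left j)).mul_left (hcub.zpow_left l)).mul_left
        (hzb.zpow_left i)).eq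
    have hcm : ∀ s ∈ S, ∃ c ∈ centerOf S, ∃ i l : ℤ, s = c * (z₀ ^ i * u ^ l) := by
      intro s hs
      obtain ⟨e, he, i, rfl⟩ := hd₂.gen huS huE hs
      obtain ⟨c, hc, j, i', rfl⟩ := hg₂ e he
      exact ⟨c * b ^ j, mul_mem (hCz hc) (zpow_mem hbZ j), i', i, by group⟩
    refine TorusFamily.not_reduced (L := Subgroup.zpowers b) hp2 hS hF
      (Subgroup.zpowers_le.2 hbZ) ?_ (fun s hs t ht => ?_)
      ⟨u, huS, z₀, hzS, ?_⟩ ?_ hm₁ (fun e => hzE (e.symm ▸ hzS)) hℰ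
    · rw [Nat.card_zpowers, orderOf_eq_prime hbp]
      exact fun h => hbC (h ▸ one_mem C)
    · obtain ⟨c, hc, i, l, rfl⟩ := hcm s hs
      obtain ⟨c', hc', i', l', rfl⟩ := hcm t ht
      have hin : ∀ (l i : ℤ), u ^ l * z₀ ^ i * (u ^ l)⁻¹ = z₀ ^ i * b ^ (l * i) := fun l i => by
        rw [← conj_zpow, zpow_conj_rule huz hcub l, (hzb.zpow_right l).mul_zpow, ← zpow_mul]
      have key : ∀ (i l i' l' : ℤ), z₀ ^ i * u ^ l * (z₀ ^ i' * u ^ l') =
          b ^ (l * i') * (z₀ ^ (i + i') * u ^ (l + l')) := fun i l i' l' => by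
        have h := hin l i'
        rw [mul_inv_eq_iff_eq_mul] at h
        rw [show z₀ ^ i * u ^ l * (z₀ ^ i' * u ^ l') = z₀ ^ i * (u ^ l * z₀ ^ i') * u ^ l' by group, h,
          (hzb.zpow_zpow i' (l * i')).eq]
        rw [show z₀ ^ i * (b ^ (l * i') * z₀ ^ i' * u ^ l) * u ^ l' =
          (z₀ ^ i * b ^ (l * i')) * (z₀ ^ i' * u ^ l * u ^ l') by group,
          (hzb.zpow_zpow i (l * i')).eq, zpow_add z₀, zpow_add u]
        group
      have hprod : ∀ (X Y : Ω) (m n : ℤ) (W : Ω), X * Y = b ^ m * W → Y * X = b ^ n * W →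
          X * Y * X⁻¹ * Y⁻¹ ∈ Subgroup.zpowers b := fun X Y m n W h1 h2 => by
        have : X * Y * X⁻¹ * Y⁻¹ = (X * Y) * (Y * X)⁻¹ := by group
        rw [this, h1, h2, show b ^ m * W * (b ^ n * W)⁻¹ = b ^ m * b ^ (-n) by group]
        exact mul_mem (zpow_mem (Subgroup.mem_zpowers b) m) (zpow_mem (Subgroup.mem_zpowers b) _)
      have h1 := key i l i' l'
      have h2 := key i' l' i l
      rw [add_comm i', add_comm l'] at h2
      have h3 := hprod _ _ _ _ _ h1 h2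
      obtain ⟨X, hX⟩ : ∃ X, X = z₀ ^ i * u ^ l := ⟨_, rfl⟩
      obtain ⟨Y, hY⟩ : ∃ Y, Y = z₀ ^ i' * u ^ l' := ⟨_, rfl⟩
      rw [← hX, ← hY] at h3 ⊢
      have hXS : X ∈ S := hX ▸ mul_mem (zpow_mem hzS i) (zpow_mem huS l)
      have hYS : Y ∈ S := hY ▸ mul_mem (zpow_mem hzS i') (zpow_mem huS l')
      have e1 : Commute c (X * (c' * Y) * X⁻¹) := (centerOf_comm hc
        (mul_mem (mul_mem hXS (mul_mem (centerOf_le S hc') hYS)) (inv_mem hXS))).symm
      have e2 : Commute c' X := (centerOf_comm hc' hXS).symm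
      rw [show c * X * (c' * Y) * (c * X)⁻¹ * (c' * Y)⁻¹ =
        c * (X * (c' * Y) * X⁻¹) * c⁻¹ * (c' * Y)⁻¹ by group, e1.eq, mul_inv_cancel_right,
        show X * (c' * Y) * X⁻¹ * (c' * Y)⁻¹ = X * c' * (Y * X⁻¹ * Y⁻¹) * c'⁻¹ by group,
        ← e2.eq, show c' * X * (Y * X⁻¹ * Y⁻¹) * c'⁻¹ = c' * (X * Y * X⁻¹ * Y⁻¹) * c'⁻¹ by group,
        ← centerOf_comm hc' (mul_mem (mul_mem (mul_mem hXS hYS) (inv_mem hXS)) (inv_mem hYS)),
        mul_inv_cancel_right]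
      exact h3
    · rw [huz, mul_assoc z₀, show z₀ * (b * z₀⁻¹) = z₀ * b * z₀⁻¹ by group, hzb.eq,
        mul_inv_cancel_right]
      exact fun h => hbC (h ▸ one_mem C)
    · intro h
      refine hC1 ((Subgroup.eq_bot_iff_forall _).2 fun c hc => ?_)
      obtain ⟨i, hi⟩ := Subgroup.mem_zpowers_iff.1 (h ▸ hCz hc)
      obtain ⟨k, rfl⟩ := dvd_of_zpow_mem hbp hbC (hi.symm ▸ hc)
      rw [← hi, zpow_mul, zpow_natCast, hbp, one_zpow]
  -- `y` is central of order `p`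
  have hyw : y ∈ omegaCenter p E₂ := by
    rw [hy, show b⁻¹ * u * b * u⁻¹ = b⁻¹ * (u * b * u⁻¹) by group]
    exact mul_mem (inv_mem hb.2) (omegaCenter_conj hd₂.norm huS hb.2)
  obtain ⟨g, hg⟩ := hcyc.exists_generator
  have hgC : ∀ c ∈ C, ∃ i : ℤ, c = (g : Ω) ^ i := fun c hc => by
    obtain ⟨i, hi⟩ := Subgroup.mem_zpowers_iff.1 (hg ⟨c, hc⟩)
    exact ⟨i, by rw [← SubgroupClass.coe_zpow, hi]⟩
  -- `p`th powers of `S`
  have hgp : (g : Ω) ^ p = 1 := by
    by_contra hgp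
    obtain ⟨K, hK⟩ : ∃ K, K = Subgroup.zpowers ((g : Ω) ^ p) := ⟨_, rfl⟩
    have hyK : y ∈ K := by
      obtain ⟨i, hi⟩ := hgC y hyC
      by_cases hpi : (p : ℤ) ∣ i
      · obtain ⟨k, rfl⟩ := hpi
        rw [hi, zpow_mul, zpow_natCast, hK]
        exact zpow_mem (Subgroup.mem_zpowers _) k
      · exfalso
        obtain ⟨a, c, hac⟩ := (Nat.prime_iff_prime_int.1 hp').coprime_iff_not_dvd.2 hpi
        refine hgp ?_
        have h1 : ((g : Ω) ^ p) ^ i = 1 := by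
          rw [← zpow_natCast, ← zpow_mul, mul_comm, zpow_mul, ← hi, zpow_natCast, hyw.2.1]
        have h2 : (g : Ω) ^ p = ((g : Ω) ^ p) ^ (a * (p : ℤ)) * (((g : Ω) ^ p) ^ i) ^ c := by
          rw [← zpow_mul, mul_comm i, ← zpow_add, hac, zpow_one]
        rw [h1, one_zpow, mul_one] at h2
        by_contra hne
        obtain ⟨m, hm⟩ := hCp g
        have hfin : IsOfFinOrder ((g : Ω) ^ p) := by
          rw [← SubgroupClass.coe_pow, Submonoid.isOfFinOrder_coe]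
          exact isOfFinOrder_of_finite (g ^ p : C)
        have h3 : ((g : Ω) ^ p) ^ (a * (p : ℤ) - 1) = 1 := by
          rw [zpow_sub_one, ← h2, mul_inv_cancel]
        have h4 := orderOf_dvd_iff_zpow_eq_one.2 h3
        obtain ⟨t, ht⟩ : ∃ t, orderOf ((g : Ω) ^ p) = p ^ t := by
          obtain ⟨t, -, ht⟩ := (Nat.dvd_prime_pow hp').1 (orderOf_dvd_of_pow_eq_one
            (show ((g : Ω) ^ p) ^ p ^ m = 1 by
              rw [← pow_mul, mul_comm, pow_mul, ← SubgroupClass.coe_pow (x := g) (n := p ^ m), hm,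
                Subgroup.coe_one, one_pow]))
          exact ⟨t, ht⟩
        rcases t with _ | t
        · exact hne (orderOf_eq_one_iff.1 (by rw [ht, pow_zero]))
        rw [ht] at h4
        have h5 : (p : ℤ) ∣ a * (p : ℤ) - 1 := by
          refine Dvd.dvd.trans ?_ h4
          exact_mod_cast dvd_pow_self p (Nat.succ_ne_zero t)
        have h6 : (p : ℤ) ∣ 1 := by
          have := dvd_sub (dvd_mul_left (p : ℤ) a) h5
          simpa using this
        exact hp'.one_lt.ne' (by exact_mod_cast Int.eq_one_of_dvd_one (by positivity) h6)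
    have hKS : K ≤ C := hK ▸ Subgroup.zpowers_le.2 (pow_mem g.2 p)
    have hall : ∀ s ∈ S, s ^ p ∈ K := by
      intro s hs
      obtain ⟨e, he, l, rfl⟩ := hd₂.gen huS huE hs
      obtain ⟨c, hc, j, i, rfl⟩ := hg₂ e he
      haveI hKn : (K.subgroupOf S).Normal := ⟨fun k hk t => by
        show (t : Ω) * (k : Ω) * (t : Ω)⁻¹ ∈ K
        have hk' : (k : Ω) ∈ K := hk
        rw [centerOf_comm (hCz (hKS hk')) t.2, mul_inv_cancel_right]
        exact hk⟩
      let π := QuotientGroup.mk' (K.subgroupOf S)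
      obtain ⟨c', hc'⟩ : ∃ c', c' = π ⟨c, hCS hc⟩ := ⟨_, rfl⟩
      obtain ⟨b', hb'⟩ : ∃ b', b' = π ⟨b, hbS⟩ := ⟨_, rfl⟩
      obtain ⟨z', hz'⟩ : ∃ z', z' = π ⟨z₀, hzS⟩ := ⟨_, rfl⟩
      obtain ⟨u', hu'⟩ : ∃ u', u' = π ⟨u, huS⟩ := ⟨_, rfl⟩
      have hy' : π ⟨y, hCS hyC⟩ = 1 := (QuotientGroup.eq_one_iff _).2 (Subgroup.mem_subgroupOf.2 hyK)
      have hcp : c' ^ p = 1 := by
        rw [hc', ← map_pow]
        refine (QuotientGroup.eq_one_iff _).2 (Subgroup.mem_subgroupOf.2 ?_)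
        obtain ⟨i, rfl⟩ := hgC c hc
        simp only [SubgroupClass.coe_pow]
        rw [← zpow_natCast, ← zpow_mul, mul_comm, zpow_mul, zpow_natCast, hK]
        exact zpow_mem (Subgroup.mem_zpowers _) i
      have hbz : Commute b' z' := by
        rw [hb', hz', commute_iff_eq, ← map_mul, ← map_mul]
        exact congrArg π (Subtype.ext hzb.symm.eq)
      have hub' : u' * b' * u'⁻¹ = b' := by
        rw [hu', hb', ← map_inv, ← map_mul, ← map_mul]
        have e : (⟨u, huS⟩ * ⟨b, hbS⟩ * ⟨u, huS⟩⁻¹ : S) = ⟨b, hbS⟩ * ⟨y, hCS hyC⟩ :=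
          Subtype.ext hub
        rw [e, map_mul, hy', mul_one]
      have huz' : u' * z' * u'⁻¹ = z' * b' := by
        rw [hu', hb', hz', ← map_inv, ← map_mul, ← map_mul, ← map_mul]
        exact congrArg π (Subtype.ext huz)
      have hcu' : ∀ x : S, Commute c' (π x) := fun x => by
        rw [hc', commute_iff_eq, ← map_mul, ← map_mul]
        exact congrArg π (Subtype.ext (centerOf_comm (hCz hc) x.2).symm)
      have hub'' : Commute u' b' := mul_inv_eq_iff_eq_mul.1 hub'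
      have hb'p : b' ^ p = 1 := by
        rw [hb', ← map_pow]; exact (congrArg π (Subtype.ext hbp)).trans (map_one π)
      have hz'p : z' ^ p = 1 := by
        rw [hz', ← map_pow]; exact (congrArg π (Subtype.ext hz.2.1)).trans (map_one π)
      have hu'p : u' ^ p = 1 := by
        rw [hu', ← map_pow]; exact (congrArg π (Subtype.ext hup)).trans (map_one π)
      have hcen : b' ∈ Subgroup.center (S ⧸ K.subgroupOf S) := Subgroup.mem_center_iff.2 fun w => by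
        obtain ⟨x, rfl⟩ := QuotientGroup.mk'_surjective _ w
        obtain ⟨e, he, l, hxe⟩ := hd₂.gen huS huE x.2
        obtain ⟨d, hd, j', i', rfl⟩ := hg₂ e he
        have hx : x = ⟨d, hCS hd⟩ * ⟨b, hbS⟩ ^ j' * ⟨z₀, hzS⟩ ^ i' * ⟨u, huS⟩ ^ l :=
          Subtype.ext (by simpa using hxe)
        rw [hx, map_mul, map_mul, map_mul, map_zpow, map_zpow, map_zpow, ← hb', ← hz', ← hu']
        refine (((Commute.mul_left ?_ ((Commute.refl b').zpow_left j')).mul_left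
          (hbz.symm.zpow_left i')).mul_left (hub''.zpow_left l)).eq
        rw [hb', commute_iff_eq, ← map_mul, ← map_mul]
        exact congrArg π (Subtype.ext (hbC' d hd).symm)
      have hzu : (z' ^ i * u' ^ l) ^ p = 1 := by
        have hcom : ⁅u' ^ l, z' ^ i⁆ = b' ^ (l * i) := by
          rw [commutatorElement_def, ← conj_zpow, zpow_conj_rule huz' hub'' l,
            (hbz.symm.zpow_right l).mul_zpow, ← zpow_mul, (hbz.zpow_zpow (l * i) i).symm.eq,
            mul_inv_cancel_right]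
        rw [PGroups.mul_pow_of_central_odd (by rw [hcom]; exact zpow_mem hcen _) hodd (by
          rw [hcom, ← zpow_natCast, ← zpow_mul, mul_comm, zpow_mul, zpow_natCast, hb'p, one_zpow]),
          ← zpow_natCast (z' ^ i), ← zpow_mul, mul_comm i, zpow_mul, zpow_natCast, hz'p, one_zpow,
          one_mul, ← zpow_natCast (u' ^ l), ← zpow_mul, mul_comm l, zpow_mul, zpow_natCast, hu'p,
          one_zpow]
      obtain ⟨x, hx⟩ : ∃ x : S, x = ⟨c, hCS hc⟩ * ⟨b, hbS⟩ ^ j * ⟨z₀, hzS⟩ ^ i * ⟨u, huS⟩ ^ l :=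
        ⟨_, rfl⟩
      have hxp : π (x ^ p) = 1 := by
        rw [map_pow, hx, map_mul, map_mul, map_mul, map_zpow, map_zpow, map_zpow, ← hc', ← hb',
          ← hz', ← hu', mul_assoc (c' * b' ^ j), Commute.mul_pow ?_, Commute.mul_pow
            ((hb' ▸ hcu' ⟨b, hbS⟩ : Commute c' b').zpow_right j), hcp, hzu, one_mul, mul_one,
          ← zpow_natCast (b' ^ j), ← zpow_mul, mul_comm j, zpow_mul, zpow_natCast, hb'p, one_zpow]
        refine Commute.mul_left ?_ ((Subgroup.mem_center_iff.1 (zpow_mem hcen j) _).symm)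
        exact ((hz' ▸ hcu' ⟨z₀, hzS⟩ : Commute c' z').zpow_right i).mul_right
          ((hu' ▸ hcu' ⟨u, huS⟩ : Commute c' u').zpow_right l)
      have := Subgroup.mem_subgroupOf.1 ((QuotientGroup.eq_one_iff _).1 hxp)
      rw [hx] at this
      simpa using this
    have hinv : ∀ (P : Subgroup Ω), P ≤ S → C ≤ P → ∀ α : MulAut P, ∀ x : P, (x : Ω) ∈ K →
        ((α x : P) : Ω) ∈ K := by
      intro P hPS hCP α x hx
      rw [hK] at hx
      obtain ⟨i, hi⟩ := Subgroup.mem_zpowers_iff.1 hx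
      obtain rfl : x = (⟨g, hCP g.2⟩ ^ p) ^ i := Subtype.ext (by simpa using hi.symm)
      rw [map_zpow, map_pow, SubgroupClass.coe_zpow, SubgroupClass.coe_pow]
      exact zpow_mem (hall _ (hPS (α _).2)) i
    have hbot := hℰ.reduced K (hKS.trans hCS)
      (fun φ _ => hinv S le_rfl hCS φ) fun P hP => by
        have hPe := hℰ.ess P hP
        have hCP : C ≤ P := hCz.trans ((centerOf_le_of_isCentric hPe.1).trans inf_le_left)
        exact ⟨hKS.trans hCP, fun α _ => hinv P hPe.1.1 hCP α⟩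
    rw [hK, Subgroup.zpowers_eq_bot] at hbot
    exact hgp hbot
  have hg1 : (g : Ω) ≠ 1 := fun h => hC1 ((Subgroup.eq_bot_iff_forall _).2 fun c hc => by
    obtain ⟨i, rfl⟩ := hgC c hc
    rw [h, one_zpow])
  have hCc : Nat.card C = p := by
    rw [← orderOf_eq_card_of_forall_mem_zpowers hg, ← Subgroup.orderOf_coe,
      orderOf_eq_prime hgp hg1]
  rw [hCc] at hSc hE₂c
  have hE₁c : Nat.card E₁ = p ^ 3 := Nat.eq_of_mul_eq_mul_left hp'.pos (by
    rw [← hd₁.card, hSc]; ring)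
  refine ⟨⟨⟨z₀, hzS⟩, ⟨b, hbS⟩, ⟨y, hCS hyC⟩, ⟨u, huS⟩, ?_⟩, ⟨⟨⟨fun x w => ?_⟩⟩, fun x hx => ?_⟩,
    by rw [hE₂c]; ring, hE₁c, fun h => hy1 ?_⟩
  · exact
      { z_pow := Subtype.ext hz.2.1
        b_pow := Subtype.ext hbp
        y_pow := Subtype.ext hyw.2.1
        u_pow := Subtype.ext hup
        zb := Subtype.ext hzb.eq
        zy := Subtype.ext (hzC y hyC)
        bys := Subtype.ext (hbC' y hyC)
        uy := Subtype.ext (hCu y hyC)
        uz := Subtype.ext huz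
        ub := Subtype.ext hub
        y_ne := fun e => hy1 (congrArg Subtype.val e)
        card := by rw [hSc]; ring }
  · obtain ⟨c, hc, j, i, hx⟩ := hg₂ x x.2
    obtain ⟨c', hc', j', i', hw⟩ := hg₂ w w.2
    refine Subtype.ext ?_
    rw [Subgroup.coe_mul, Subgroup.coe_mul, hx, hw]
    have hb2 : ∀ {a : Ω}, a ∈ E₂ → ∀ m : ℤ, Commute (b ^ m) a := fun ha m =>
      (show Commute b _ from hb.2.2.2 _ ha).zpow_left m
    have hz2 : ∀ {a : Ω}, a ∈ E₂ → ∀ m : ℤ, Commute (z₀ ^ m) a := fun ha m =>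
      (show Commute z₀ _ from hz.2.2 _ ha).zpow_left m
    have hmem : c' * b ^ j' * z₀ ^ i' ∈ E₂ := hw ▸ w.2
    exact ((Commute.mul_left (centerOf_comm (hCz hc) (hd₂.le hmem)).symm (hb2 hmem j)).mul_left
      (hz2 hmem i)).eq
  · obtain ⟨c, hc, j, i, rfl⟩ := hg₂ x hx
    obtain ⟨m, rfl⟩ := hgC c hc
    have e1 : Commute ((g : Ω) ^ m) (b ^ j) :=
      (show Commute ((g : Ω) ^ m) b from (hbC' _ hc).symm).zpow_right j
    have e2 : Commute ((g : Ω) ^ m * b ^ j) (z₀ ^ i) :=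
      ((show Commute ((g : Ω) ^ m) z₀ from (hzC _ hc).symm).mul_left
        (hzb.symm.zpow_left j)).zpow_right i
    have hp1 : ∀ {a : Ω}, a ^ p = 1 → ∀ k : ℤ, (a ^ k) ^ p = 1 := fun {a} ha k => by
      rw [← zpow_natCast, ← zpow_mul, mul_comm, zpow_mul, zpow_natCast, ha, one_zpow]
    rw [e2.mul_pow, e1.mul_pow, hp1 hgp, hp1 hbp, hp1 hz.2.1, one_mul, one_mul]
  · have e : u * b = b * u :=
      congrArg Subtype.val (h.is_comm.comm (⟨u, hu⟩ : E₁) ⟨b, hb.1⟩)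
    rw [hy, mul_assoc b⁻¹, e, inv_mul_cancel_left, mul_inv_cancel]

end CfsgLib.Fusion.NormalEssential
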