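import Cfsg.Agent.Lib.Fusion.RankThreeRadical
import Cfsg.Agent.Lib.Fusion.AbelianIndexP
import Cfsg.Agent.Lib.PGroups.ClassTwo

/-!
# Elements of order `p` commuting into a central subgroup of order `p²`

With elementary sections of order at most `p³`, two such elements independent modulo the central
subgroup do not commute, and three independent ones do not exist.
-/

set_option autoImplicit false

namespace CfsgLib.Fusion.NormalEssential

open Cfsg CfsgLib CfsgLib.Fusion CfsgLib.Fusion.RankThree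
open scoped commutatorElement

variable {p : ℕ} [hp : Fact p.Prime] {G : Type*} [Group G]

/-- A central elementary subgroup of order `p²`. -/
structure CentralSquare (p : ℕ) (Z : Subgroup G) : Prop where
  center : Z ≤ Subgroup.center G
  exp : ∀ a ∈ Z, a ^ p = 1
  card : Nat.card Z = p ^ 2

variable {Z : Subgroup G}

omit hp in
theorem CentralSquare.comm (hZ : CentralSquare p Z) {a : G} (ha : a ∈ Z) (g : G) : Commute a g :=
  (Subgroup.mem_center_iff.1 (hZ.center ha) g).symm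

omit hp in
theorem CentralSquare.br_mul_right (hZ : CentralSquare p Z) {u v w : G} (h : ⁅u, w⁆ ∈ Z) :
    ⁅u, v * w⁆ = ⁅u, v⁆ * ⁅u, w⁆ := by
  have e : ⁅u, v * w⁆ = ⁅u, v⁆ * (v * ⁅u, w⁆ * v⁻¹) := by simp only [commutatorElement_def]; group
  rw [e, ← (hZ.comm h v).eq, mul_inv_cancel_right]

omit hp in
theorem CentralSquare.br_mul_left (hZ : CentralSquare p Z) {u v w : G} (h : ⁅v, w⁆ ∈ Z) :
    ⁅u * v, w⁆ = ⁅v, w⁆ * ⁅u, w⁆ := by
  have e : ⁅u * v, w⁆ = u * ⁅v, w⁆ * u⁻¹ * ⁅u, w⁆ := by simp only [commutatorElement_def]; group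
  rw [e, ← (hZ.comm h u).eq, mul_inv_cancel_right]

omit hp in
theorem CentralSquare.br_zpow_right (hZ : CentralSquare p Z) {u v : G} (h : ⁅u, v⁆ ∈ Z) (k : ℤ) :
    ⁅u, v ^ k⁆ = ⁅u, v⁆ ^ k := by
  have hv : u * v * u⁻¹ = ⁅u, v⁆ * v := by rw [commutatorElement_def]; group
  rw [commutatorElement_def, ← conj_zpow, hv, (hZ.comm h v).mul_zpow, mul_inv_cancel_right]

omit hp in
theorem CentralSquare.br_zpow_left (hZ : CentralSquare p Z) {u v : G} (h : ⁅u, v⁆ ∈ Z) (k : ℤ) :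
    ⁅u ^ k, v⁆ = ⁅u, v⁆ ^ k := by
  have h' : ⁅v, u⁆ ∈ Z := by rw [← commutatorElement_inv]; exact inv_mem h
  rw [← commutatorElement_inv, hZ.br_zpow_right h', ← commutatorElement_inv u v, inv_zpow, inv_inv]

omit hp in
/-- Commutator of `u^i v^j` and `u^i' v^j'` up to central factors. -/
theorem CentralSquare.br_pair (hZ : CentralSquare p Z) {u v : G} (h : ⁅u, v⁆ ∈ Z) {ζ ζ' : G}
    (hζ : ζ ∈ Z) (hζ' : ζ' ∈ Z) (i j i' j' : ℤ) :
    ⁅ζ * (u ^ i * v ^ j), ζ' * (u ^ i' * v ^ j')⁆ = ⁅u, v⁆ ^ (i * j' - j * i') := by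
  have h' : ⁅v, u⁆ ∈ Z := by rw [← commutatorElement_inv]; exact inv_mem h
  have hz : ∀ {a : G}, a ∈ Z → ∀ g : G, ⁅g, a⁆ = 1 ∧ ⁅a, g⁆ = 1 := fun ha g =>
    ⟨commutatorElement_eq_one_iff_mul_comm.2 (hZ.comm ha g).symm.eq,
      commutatorElement_eq_one_iff_mul_comm.2 (hZ.comm ha g).eq⟩
  have e1 : ⁅u ^ i, u ^ i' * v ^ j'⁆ = ⁅u, v⁆ ^ (i * j') := by
    have h3 : ⁅u ^ i, v ^ j'⁆ = ⁅u, v⁆ ^ (i * j') := by
      rw [hZ.br_zpow_right (by rw [hZ.br_zpow_left h]; exact zpow_mem h i), hZ.br_zpow_left h, ← zpow_mul]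
    rw [hZ.br_mul_right (by rw [h3]; exact zpow_mem h _), h3,
      commutatorElement_eq_one_iff_mul_comm.2 ((Commute.refl u).zpow_zpow i i').eq, one_mul]
  have e2 : ⁅v ^ j, u ^ i' * v ^ j'⁆ = ⁅u, v⁆ ^ (-(j * i')) := by
    have h3 : ⁅v ^ j, v ^ j'⁆ = 1 :=
      commutatorElement_eq_one_iff_mul_comm.2 ((Commute.refl v).zpow_zpow j j').eq
    rw [hZ.br_mul_right (by rw [h3]; exact one_mem Z), h3, mul_one,
      hZ.br_zpow_right (by rw [hZ.br_zpow_left h']; exact zpow_mem h' j), hZ.br_zpow_left h',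
      ← zpow_mul, ← commutatorElement_inv u v, inv_zpow, ← zpow_neg]
  rw [hZ.br_mul_left (by
      rw [hZ.br_mul_right (by
        rw [hZ.br_mul_left (by rw [e2]; exact zpow_mem h _), e1, e2]
        exact mul_mem (zpow_mem h _) (zpow_mem h _)), (hz hζ' _).1, one_mul,
        hZ.br_mul_left (by rw [e2]; exact zpow_mem h _), e1, e2]
      exact mul_mem (zpow_mem h _) (zpow_mem h _)),
    (hz hζ _).2, mul_one, hZ.br_mul_right (by
      rw [hZ.br_mul_left (by rw [e2]; exact zpow_mem h _), e1, e2]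
      exact mul_mem (zpow_mem h _) (zpow_mem h _)), (hz hζ' _).1, one_mul,
    hZ.br_mul_left (by rw [e2]; exact zpow_mem h _), e1, e2, ← zpow_add]
  congr 1
  ring

variable [Finite G] (hsr : SecLE p G) (hZ : CentralSquare p Z)

include hsr hZ in
/-- Two commuting elements of order `p` independent modulo `Z` do not exist. -/
theorem pair_false {u v : G} (hu : u ^ p = 1) (hv : v ^ p = 1) (huv : u * v = v * u) (huZ : u ∉ Z)
    (hvu : v ∉ Z ⊔ Subgroup.zpowers u) : False := by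
  have hp' := hp.out
  obtain ⟨hc1, hdec⟩ := card_sup_zpowers_of_pow_mem (Z := Z) (x := u)
    (fun c hc => (hZ.comm hc u).eq) (by rw [hu]; exact one_mem Z) huZ
  obtain ⟨X, hX⟩ : ∃ X, X = Z ⊔ Subgroup.zpowers u := ⟨_, rfl⟩
  rw [← hX] at hc1 hdec hvu
  have hXv : ∀ c ∈ X, c * v = v * c := fun c hc => by
    obtain ⟨a, ha, i, rfl⟩ := hdec c hc
    exact ((hZ.comm ha v).mul_left ((show Commute u v from huv).pow_left i)).eq
  obtain ⟨hc2, hdec2⟩ := card_sup_zpowers_of_pow_mem (Z := X) (x := v) hXv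
    (by rw [hv]; exact one_mem X) hvu
  obtain ⟨W, hW⟩ : ∃ W, W = X ⊔ Subgroup.zpowers v := ⟨_, rfl⟩
  rw [← hW] at hc2 hdec2
  have hmem : ∀ w ∈ W, ∃ a ∈ Z, ∃ i j : ℕ, w = a * u ^ i * v ^ j := fun w hw => by
    obtain ⟨c, hc, j, rfl⟩ := hdec2 w hw
    obtain ⟨a, ha, i, rfl⟩ := hdec c hc
    exact ⟨a, ha, i, j, rfl⟩
  have h := hsr W ⊥ bot_le (fun a _ b hb => by rw [Subgroup.mem_bot] at hb ⊢; simp [hb])
    (fun a ha b hb => by
      obtain ⟨a, haZ, i, j, rfl⟩ := hmem a ha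
      obtain ⟨b, hbZ, i', j', rfl⟩ := hmem b hb
      rw [Subgroup.mem_bot, commutatorElement_eq_one_iff_mul_comm]
      have hc : Commute u v := huv
      exact (((hZ.comm haZ _).mul_left
        (((hZ.comm hbZ (u ^ i)).symm.mul_right ((Commute.refl u).pow_pow i i')).mul_right
          (hc.pow_pow i j'))).mul_left
        (((hZ.comm hbZ (v ^ j)).symm.mul_right (hc.symm.pow_pow j i')).mul_right
          ((Commute.refl v).pow_pow j j'))).eq)
    (fun a ha => by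
      obtain ⟨a, haZ, i, j, rfl⟩ := hmem a ha
      rw [Subgroup.mem_bot, ((hZ.comm haZ _).mul_left ((show Commute u v from huv).pow_pow i j)).mul_pow,
        (hZ.comm haZ _).mul_pow, hZ.exp a haZ, ← pow_mul, mul_comm i, pow_mul, hu, one_pow, ← pow_mul,
        mul_comm j, pow_mul, hv, one_pow, one_mul, one_mul])
  rw [hc2, hc1, hZ.card, Subgroup.card_bot, mul_one, ← pow_succ', ← pow_succ'] at h
  exact absurd ((Nat.pow_le_pow_iff_right hp'.one_lt).1 h) (by norm_num)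

omit hp in
include hZ in
theorem pow_eq_one_mul [Fact p.Prime] (hp2 : p ≠ 2) {u v : G} (hu : u ^ p = 1) (hv : v ^ p = 1)
    (h : ⁅v, u⁆ ∈ Z) : (u * v) ^ p = 1 := by
  rw [PGroups.mul_pow_of_central_odd (hZ.center h) ((Fact.out : p.Prime).odd_of_ne_two hp2)
    (hZ.exp _ h), hu, hv, one_mul]

include hsr hZ in
/-- Three elements independent modulo `Z`, commuting into `Z`, do not exist. -/
theorem triple_false (hp2 : p ≠ 2) {u₁ u₂ u₃ : G} (h₁ : u₁ ^ p = 1) (h₂ : u₂ ^ p = 1)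
    (h₃ : u₃ ^ p = 1) (h12 : ⁅u₁, u₂⁆ ∈ Z) (h13 : ⁅u₁, u₃⁆ ∈ Z) (h23 : ⁅u₂, u₃⁆ ∈ Z)
    (hu1 : u₁ ∉ Z) (hu2 : u₂ ∉ Z ⊔ Subgroup.zpowers u₁)
    (hu3 : u₃ ∉ Z ⊔ Subgroup.zpowers u₁ ⊔ Subgroup.zpowers u₂) : False := by
  classical
  have hp' := hp.out
  obtain ⟨X, hX⟩ : ∃ X, X = Z ⊔ Subgroup.zpowers u₁ ⊔ Subgroup.zpowers u₂ := ⟨_, rfl⟩
  rw [← hX] at hu3
  have hZX : Z ≤ X := hX ▸ le_sup_left.trans le_sup_left
  have hu1X : u₁ ∈ X := hX ▸ Subgroup.mem_sup_left (Subgroup.mem_sup_right (Subgroup.mem_zpowers _))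
  have hu2X : u₂ ∈ X := hX ▸ Subgroup.mem_sup_right (Subgroup.mem_zpowers _)
  have hp1 : ∀ {a : G}, a ^ p = 1 → ∀ k : ℤ, (a ^ k) ^ p = 1 := fun {a} ha k => by
    rw [← zpow_natCast, ← zpow_mul, mul_comm, zpow_mul, zpow_natCast, ha, one_zpow]
  have hc12 : ⁅u₁, u₂⁆ ≠ 1 := fun h =>
    pair_false hsr hZ h₁ h₂ (commutatorElement_eq_one_iff_mul_comm.1 h) hu1 hu2
  by_cases hdep : ⁅u₁, u₃⁆ ∈ Subgroup.zpowers ⁅u₁, u₂⁆
  · obtain ⟨k, hk⟩ := Subgroup.mem_zpowers_iff.1 hdep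
    refine pair_false hsr hZ (u := u₁) (v := u₃ * u₂ ^ (-k)) h₁ ?_ ?_ hu1 (fun h => hu3 ?_)
    · refine pow_eq_one_mul hZ hp2 h₃ (hp1 h₂ _) ?_
      rw [hZ.br_zpow_left h23]
      exact zpow_mem h23 _
    · rw [← commutatorElement_eq_one_iff_mul_comm,
        hZ.br_mul_right (by rw [hZ.br_zpow_right h12]; exact zpow_mem h12 _), hZ.br_zpow_right h12,
        ← hk, ← zpow_add, add_neg_cancel, zpow_zero]
    · have h' : u₃ * u₂ ^ (-k) ∈ X := hX ▸ Subgroup.mem_sup_left h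
      have := mul_mem h' (zpow_mem hu2X k)
      rwa [zpow_neg, inv_mul_cancel_right] at this
  · obtain ⟨hc, hdec⟩ := card_sup_zpowers_of_pow_mem (Z := Subgroup.zpowers ⁅u₁, u₂⁆)
      (x := ⁅u₁, u₃⁆) (fun c _ => (hZ.comm h13 c).symm.eq)
      (by rw [hZ.exp _ h13]; exact one_mem _) hdep
    have heq : Subgroup.zpowers ⁅u₁, u₂⁆ ⊔ Subgroup.zpowers ⁅u₁, u₃⁆ = Z :=
      Subgroup.eq_of_le_of_card_ge
        (sup_le (Subgroup.zpowers_le.2 h12) (Subgroup.zpowers_le.2 h13))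
        (by rw [hc, Nat.card_zpowers, orderOf_eq_prime (hZ.exp _ h12) hc12, hZ.card, pow_two])
    obtain ⟨c, hc', j, hj⟩ := hdec _ (heq.symm ▸ h23)
    obtain ⟨i, rfl⟩ := Subgroup.mem_zpowers_iff.1 hc'
    obtain ⟨v, hv⟩ : ∃ v, v = u₂ * u₁ ^ (-(j : ℤ)) := ⟨_, rfl⟩
    obtain ⟨w, hw⟩ : ∃ w, w = u₃ * u₁ ^ i := ⟨_, rfl⟩
    have h21 : ⁅u₂, u₁⁆ ∈ Z := by rw [← commutatorElement_inv]; exact inv_mem h12
    have hv1 : v ∉ Z := fun h => hu2 (by
      rw [hv] at h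
      have := mul_mem (Subgroup.mem_sup_left (T := Subgroup.zpowers u₁) h)
        (Subgroup.mem_sup_right (zpow_mem (Subgroup.mem_zpowers u₁) (j : ℤ)))
      rwa [zpow_neg, inv_mul_cancel_right] at this)
    have hvX : v ∈ X := hv ▸ mul_mem hu2X (zpow_mem hu1X _)
    refine pair_false hsr hZ (u := v) (v := w) ?_ ?_ ?_ hv1 (fun h => hu3 ?_)
    · rw [hv]
      refine pow_eq_one_mul hZ hp2 h₂ (hp1 h₁ _) ?_
      rw [hZ.br_zpow_left h12]
      exact zpow_mem h12 _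
    · rw [hw]
      refine pow_eq_one_mul hZ hp2 h₃ (hp1 h₁ _) ?_
      rw [hZ.br_zpow_left h13]
      exact zpow_mem h13 _
    · rw [← commutatorElement_eq_one_iff_mul_comm, hv, hw]
      have k1 : ⁅u₁ ^ (-(j : ℤ)), u₃ * u₁ ^ i⁆ = ⁅u₁, u₃⁆ ^ (-(j : ℤ)) := by
        have h0 : ⁅u₁ ^ (-(j : ℤ)), u₁ ^ i⁆ = 1 :=
          commutatorElement_eq_one_iff_mul_comm.2 ((Commute.refl u₁).zpow_zpow _ i).eq
        rw [hZ.br_mul_right (by rw [h0]; exact one_mem Z), h0, mul_one, hZ.br_zpow_left h13]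
      rw [hZ.br_mul_left (by rw [k1]; exact zpow_mem h13 _), k1,
        hZ.br_mul_right (by rw [hZ.br_zpow_right h21]; exact zpow_mem h21 _), hZ.br_zpow_right h21,
        hj, ← commutatorElement_inv u₁ u₂, inv_zpow]
      rw [show ⁅u₁, u₂⁆ ^ i * ⁅u₁, u₃⁆ ^ j * (⁅u₁, u₂⁆ ^ i)⁻¹ = ⁅u₁, u₃⁆ ^ j by
        rw [((hZ.comm h12 _).zpow_left i).eq, mul_inv_cancel_right], ← zpow_natCast, ← zpow_add,
        neg_add_cancel, zpow_zero]
    · have h' : w ∈ X := (sup_le hZX (Subgroup.zpowers_le.2 hvX)) h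
      rw [hw] at h'
      have := mul_mem h' (inv_mem (zpow_mem hu1X i))
      rwa [mul_inv_cancel_right] at this

end CfsgLib.Fusion.NormalEssential
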