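import Cfsg.Agent.Lib.Fusion.NormalEssential.CenterShape
import Cfsg.Agent.Lib.Classical.Symplectic.Matrix

/-!
# The Sylow `p`-subgroup of `Sp(4, p)`, `p` odd, by generators

Any two groups of order `p⁴` with generators as in `Shape` are isomorphic, and the unipotent
upper triangular elements of `Sp(4, p)` have such generators.
-/

set_option autoImplicit false

namespace CfsgLib.Fusion.NormalEssential

open scoped Matrix

variable {p : ℕ} [hp : Fact p.Prime]

/-- The relations without the order. -/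
structure Rel (p : ℕ) {G : Type*} [Group G] (z b y u : G) : Prop where
  z_pow : z ^ p = 1
  b_pow : b ^ p = 1
  y_pow : y ^ p = 1
  u_pow : u ^ p = 1
  zb : Commute z b
  zy : Commute z y
  bys : Commute b y
  uy : Commute u y
  uz : u * z * u⁻¹ = z * b
  ub : u * b * u⁻¹ = b * y

omit hp in
theorem Shape.rel {G : Type*} [Group G] {z b y u : G} (h : Shape p z b y u) : Rel p z b y u :=
  ⟨h.z_pow, h.b_pow, h.y_pow, h.u_pow, h.zb, h.zy, h.bys, h.uy, h.uz, h.ub⟩

variable {G : Type*} [Group G] [Finite G] {z b y u : G}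

theorem Rel.card_closure (h : Rel p z b y u) :
    Nat.card (Subgroup.closure ({z, b, y, u} : Set G)) ≤ p ^ 4 ∧
      (y ≠ 1 → Nat.card (Subgroup.closure ({z, b, y, u} : Set G)) = p ^ 4) := by
  classical
  have hp' := hp.out
  have step : ∀ (X : Subgroup G) (x : G), (∀ w ∈ X, x * w * x⁻¹ ∈ X) → x ^ p = 1 →
      Nat.card (X ⊔ Subgroup.zpowers x : Subgroup G) ≤ p * Nat.card X ∧
        (x ∉ X → Nat.card (X ⊔ Subgroup.zpowers x : Subgroup G) = p * Nat.card X) := by
    intro X x hx hxp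
    have hle : Subgroup.zpowers x ≤ Subgroup.normalizer (X : Set G) := by
      refine Subgroup.zpowers_le.2 ?_
      have hmap : X.map (MulAut.conj x).toMonoidHom = X :=
        Subgroup.eq_of_le_of_card_ge (by rintro _ ⟨w, hw, rfl⟩; exact hx w hw)
          (Subgroup.card_map_of_injective (MulAut.conj x).injective).ge
      refine Subgroup.mem_normalizer_iff.2 fun w => ⟨hx w, fun hw => ?_⟩
      obtain ⟨v, hv, hvw⟩ := hmap.ge hw
      exact (MulAut.conj x).injective hvw ▸ hv
    have hdec : ∀ g ∈ X ⊔ Subgroup.zpowers x, ∃ w ∈ X, ∃ i : Fin p, g = w * x ^ (i : ℕ) := by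
      intro g hg
      rw [← SetLike.mem_coe, Subgroup.coe_mul_of_right_le_normalizer_left X _ hle] at hg
      obtain ⟨w, hw, t, ht, rfl⟩ := hg
      obtain ⟨i, rfl⟩ := Subgroup.mem_zpowers_iff.1 ht
      refine ⟨w, hw, ⟨(i % (p : ℤ)).toNat, ?_⟩, ?_⟩
      · have h1 := Int.emod_lt_of_pos i (by exact_mod_cast hp'.pos : (0 : ℤ) < p)
        have h2 := Int.emod_nonneg i (by exact_mod_cast hp'.ne_zero : (p : ℤ) ≠ 0)
        omega
      · show w * x ^ i = w * x ^ (i % (p : ℤ)).toNat
        rw [← zpow_natCast, Int.toNat_of_nonneg (Int.emod_nonneg i (by exact_mod_cast hp'.ne_zero))]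
        conv_lhs => rw [← Int.emod_add_mul_ediv i (p : ℤ), zpow_add, zpow_mul, zpow_natCast, hxp,
          one_zpow, mul_one]
    refine ⟨?_, fun hxX => ?_⟩
    · let f : X × Fin p → (X ⊔ Subgroup.zpowers x : Subgroup G) := fun q =>
        ⟨q.1 * x ^ (q.2 : ℕ), Subgroup.mul_mem_sup q.1.2 (pow_mem (Subgroup.mem_zpowers x) _)⟩
      have hf : Function.Surjective f := fun g => by
        obtain ⟨w, hw, i, hwi⟩ := hdec g g.2
        exact ⟨(⟨w, hw⟩, i), Subtype.ext hwi.symm⟩
      refine (Nat.card_le_card_of_surjective f hf).trans ?_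
      rw [Nat.card_prod, Nat.card_fin, mul_comm]
    · let f : X × Fin p → (X ⊔ Subgroup.zpowers x : Subgroup G) := fun q =>
        ⟨q.1 * x ^ (q.2 : ℕ), Subgroup.mul_mem_sup q.1.2 (pow_mem (Subgroup.mem_zpowers x) _)⟩
      have hf : Function.Bijective f := by
        refine ⟨fun q r hqr => ?_, fun g => ?_⟩
        · have e : (q.1 : G) * x ^ (q.2 : ℕ) = r.1 * x ^ (r.2 : ℕ) := congrArg Subtype.val hqr
          have e2 : x ^ (((q.2 : ℕ) : ℤ) - ((r.2 : ℕ) : ℤ)) ∈ X := by
            rw [zpow_sub, zpow_natCast, zpow_natCast,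
              show x ^ (q.2 : ℕ) * (x ^ (r.2 : ℕ))⁻¹ = (q.1 : G)⁻¹ * r.1 by
                rw [eq_inv_mul_iff_mul_eq, ← mul_assoc, e, mul_inv_cancel_right]]
            exact mul_mem (inv_mem q.1.2) r.1.2
          have e3 : (p : ℤ) ∣ ((q.2 : ℕ) : ℤ) - ((r.2 : ℕ) : ℤ) := by
            by_contra hnd
            obtain ⟨a, c, hac⟩ := (Nat.prime_iff_prime_int.1 hp').coprime_iff_not_dvd.2 hnd
            refine hxX ?_
            rw [← zpow_one x, ← hac, zpow_add, mul_comm a, zpow_mul, zpow_natCast, hxp, one_zpow,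
              one_mul, mul_comm c, zpow_mul]
            exact zpow_mem e2 c
          have e4 : q.2 = r.2 := Fin.ext (by
            obtain ⟨k, hk⟩ := e3
            have h1 := q.2.isLt
            have h2 := r.2.isLt
            rcases lt_trichotomy k 0 with hk0 | hk0 | hk0
            · nlinarith
            · subst hk0; omega
            · nlinarith)
          rw [e4] at e
          exact Prod.ext (Subtype.ext (mul_right_cancel e)) e4
        · obtain ⟨w, hw, i, hwi⟩ := hdec g g.2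
          exact ⟨(⟨w, hw⟩, i), Subtype.ext hwi.symm⟩
      rw [← Nat.card_congr (Equiv.ofBijective f hf), Nat.card_prod, Nat.card_fin, mul_comm]
  have hcent : ∀ {x : G} {s : Set G}, (∀ w ∈ s, Commute x w) → ∀ w ∈ Subgroup.closure s, Commute x w := by
    intro x s hs w hw
    induction hw using Subgroup.closure_induction with
    | mem w hw => exact hs w hw
    | one => exact Commute.one_right x
    | mul a c _ _ iha ihc => exact iha.mul_right ihc
    | inv a _ iha => exact iha.inv_right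
  set X1 := Subgroup.zpowers y with hX1
  set X2 := X1 ⊔ Subgroup.zpowers b with hX2
  set X3 := X2 ⊔ Subgroup.zpowers z with hX3
  set X4 := X3 ⊔ Subgroup.zpowers u with hX4
  have hX4eq : Subgroup.closure ({z, b, y, u} : Set G) = X4 := by
    refine le_antisymm ((Subgroup.closure_le _).2 ?_) ?_
    · rintro w (rfl | rfl | rfl | rfl)
      · exact le_sup_left (a := X3) (Subgroup.mem_sup_right (Subgroup.mem_zpowers _))
      · exact le_sup_left (a := X3)
          (le_sup_left (a := X2) (Subgroup.mem_sup_right (Subgroup.mem_zpowers _)))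
      · exact le_sup_left (a := X3) (le_sup_left (a := X2) (le_sup_left (a := X1)
          (Subgroup.mem_zpowers _)))
      · exact Subgroup.mem_sup_right (Subgroup.mem_zpowers _)
    · refine sup_le (sup_le (sup_le ?_ ?_) ?_) ?_ <;>
        refine Subgroup.zpowers_le.2 (Subgroup.subset_closure ?_) <;> simp
  have c1 : Nat.card X1 = orderOf y := Nat.card_zpowers y
  have hy1 : Nat.card X1 ≤ p := c1 ▸ Nat.le_of_dvd hp'.pos (orderOf_dvd_of_pow_eq_one h.y_pow)
  have hcl : ∀ {s : Set G} {x : G}, (∀ w ∈ s, x * w * x⁻¹ ∈ Subgroup.closure s) →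
      ∀ w ∈ Subgroup.closure s, x * w * x⁻¹ ∈ Subgroup.closure s := fun {s x} hs w hw =>
    ((Subgroup.closure_le ((Subgroup.closure s).comap (MulAut.conj x).toMonoidHom)).2 hs) hw
  have hX2s : X2 = Subgroup.closure ({y, b} : Set G) := by
    rw [hX2, hX1, Subgroup.zpowers_eq_closure, Subgroup.zpowers_eq_closure, ← Subgroup.closure_union,
      Set.singleton_union]
  have hX3s : X3 = Subgroup.closure ({y, b, z} : Set G) := by
    rw [hX3, hX2s, Subgroup.zpowers_eq_closure, ← Subgroup.closure_union]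
    congr 1
    ext w; simp only [Set.mem_union, Set.mem_insert_iff, Set.mem_singleton_iff]; tauto
  have s2 := step X1 b (fun w hw => by
    obtain ⟨i, rfl⟩ := Subgroup.mem_zpowers_iff.1 hw
    rw [(h.bys.zpow_right i).eq, mul_inv_cancel_right]; exact hw) h.b_pow
  have hzX2 : ∀ w ∈ X2, Commute z w := by
    rw [hX2s]
    exact hcent (by rintro w (rfl | rfl); exacts [h.zy, h.zb])
  have s3 := step X2 z (fun w hw => by rw [(hzX2 w hw).eq, mul_inv_cancel_right]; exact hw) h.z_pow
  have s4 := step X3 u (by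
    rw [hX3s]
    refine hcl ?_
    rintro w (rfl | rfl | rfl)
    · rw [h.uy.eq, mul_inv_cancel_right]; exact Subgroup.subset_closure (by simp)
    · rw [h.ub]
      exact mul_mem (Subgroup.subset_closure (by simp)) (Subgroup.subset_closure (by simp))
    · rw [h.uz]
      exact mul_mem (Subgroup.subset_closure (by simp)) (Subgroup.subset_closure (by simp)))
    h.u_pow
  rw [hX4eq]
  refine ⟨(s4.1.trans (Nat.mul_le_mul le_rfl (s3.1.trans (Nat.mul_le_mul le_rfl
    (s2.1.trans (Nat.mul_le_mul le_rfl hy1)))))).trans_eq (by ring), fun hy => ?_⟩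
  have hb : b ∉ X1 := fun hb => by
    obtain ⟨i, hi⟩ := Subgroup.mem_zpowers_iff.1 hb
    have e := h.ub
    rw [← hi, (h.uy.zpow_right i).eq, mul_inv_cancel_right] at e
    exact hy (mul_eq_left.1 e.symm)
  have hzb : z ∉ X2 := fun hz' => by
    -- conjugation by `u` moves `X2` along `X1`
    let H : Subgroup G :=
      { carrier := {w | w ∈ X2 ∧ u * w * u⁻¹ * w⁻¹ ∈ X1}
        one_mem' := ⟨one_mem _, by simp⟩
        mul_mem' := fun {v w} hv hw => ⟨mul_mem hv.1 hw.1, by
          have hc : Commute (u * w * u⁻¹ * w⁻¹) v⁻¹ := by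
            obtain ⟨i, hi⟩ := Subgroup.mem_zpowers_iff.1 hw.2
            have : ∀ v ∈ X2, Commute y v := by
              rw [hX2s]
              exact hcent (by rintro t (rfl | rfl); exacts [Commute.refl _, h.bys.symm])
            rw [← hi]
            exact ((this v hv.1).zpow_left i).inv_right
          rw [show u * (v * w) * u⁻¹ * (v * w)⁻¹ = (u * v * u⁻¹) * (u * w * u⁻¹ * w⁻¹) * v⁻¹ by group,
            mul_assoc (u * v * u⁻¹), hc.eq, ← mul_assoc]
          exact mul_mem hv.2 hw.2⟩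
        inv_mem' := fun {v} hv => ⟨inv_mem hv.1, by
          obtain ⟨i, hi⟩ := Subgroup.mem_zpowers_iff.1 hv.2
          have : ∀ v ∈ X2, Commute y v := by
            rw [hX2s]
            exact hcent (by rintro t (rfl | rfl); exacts [Commute.refl _, h.bys.symm])
          have hc : Commute (u * v * u⁻¹ * v⁻¹) v := hi ▸ (this v hv.1).zpow_left i
          rw [show u * v⁻¹ * u⁻¹ * v⁻¹⁻¹ = v⁻¹ * (u * v * u⁻¹ * v⁻¹)⁻¹ * v by group,
            mul_assoc, hc.inv_left.eq, inv_mul_cancel_left]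
          exact inv_mem hv.2⟩ }
    have hH : X2 ≤ H := by
      conv_lhs => rw [hX2s]
      refine (Subgroup.closure_le H).2 ?_
      rintro w (rfl | rfl)
      · refine ⟨Subgroup.mem_sup_left (Subgroup.mem_zpowers _), ?_⟩
        rw [h.uy.eq, mul_inv_cancel_right, mul_inv_cancel]
        exact one_mem _
      · refine ⟨Subgroup.mem_sup_right (Subgroup.mem_zpowers _), ?_⟩
        rw [h.ub, h.bys.eq, mul_inv_cancel_right]
        exact Subgroup.mem_zpowers y
    have h3 := (hH hz').2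
    rw [h.uz, h.zb.eq, mul_inv_cancel_right] at h3
    exact hb h3
  have hu : u ∉ X3 := fun hu' => by
    have hzX3 : ∀ w ∈ X3, Commute z w := by
      rw [hX3s]
      exact hcent (by rintro w (rfl | rfl | rfl); exacts [h.zy, h.zb, Commute.refl _])
    have e := h.uz
    rw [← (hzX3 u hu').eq, mul_inv_cancel_right] at e
    exact hb (by rw [mul_eq_left.1 e.symm]; exact one_mem _)
  rw [s4.2 hu, s3.2 hzb, s2.2 hb, c1, orderOf_eq_prime h.y_pow hy]
  ring

omit [Finite G] in
/-- A surjection between groups of order `p⁴` with such generators. -/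
theorem proj_bijective {K : Type*} [Group K] [Finite K] {P : Type*} [Group P] [Finite P]
    (f : P →* K) {W : Subgroup P} {z₁ b₁ y₁ u₁ : P}
    (hW : W = Subgroup.closure ({z₁, b₁, y₁, u₁} : Set P)) (hWc : Nat.card W = p ^ 4)
    {a c d e : K} (hK : Shape p a c d e) (h1 : f z₁ = a) (h2 : f b₁ = c) (h3 : f y₁ = d)
    (h4 : f u₁ = e) : Function.Bijective (f.comp W.subtype) := by
  have hs : Function.Surjective (f.comp W.subtype) := by
    have htop : Subgroup.closure ({a, c, d, e} : Set K) = ⊤ :=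
      Subgroup.eq_top_of_card_eq _ (by rw [hK.rel.card_closure.2 hK.y_ne, hK.card])
    rw [← MonoidHom.range_eq_top, eq_top_iff, ← htop, Subgroup.closure_le]
    have hm : ∀ x ∈ ({z₁, b₁, y₁, u₁} : Set P), f x ∈ (f.comp W.subtype).range :=
      fun x hx => ⟨⟨x, hW ▸ Subgroup.subset_closure hx⟩, rfl⟩
    rintro x (rfl | rfl | rfl | rfl)
    · exact h1 ▸ hm _ (by simp)
    · exact h2 ▸ hm _ (by simp)
    · exact h3 ▸ hm _ (by simp)
    · exact h4 ▸ hm _ (by simp)
  exact (Nat.bijective_iff_surjective_and_card _).2 ⟨hs, by rw [hWc, hK.card]⟩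

/-- Groups of order `p⁴` with such generators are isomorphic. -/
theorem nonempty_mulEquiv_of_shape {H : Type*} [Group H] [Finite H] {z' b' y' u' : H}
    (h : Shape p z b y u) (h' : Shape p z' b' y' u') : Nonempty (G ≃* H) := by
  classical
  have hr : Rel p (z, z') (b, b') (y, y') (u, u') :=
    ⟨Prod.ext h.z_pow h'.z_pow, Prod.ext h.b_pow h'.b_pow, Prod.ext h.y_pow h'.y_pow,
      Prod.ext h.u_pow h'.u_pow, Prod.ext h.zb h'.zb, Prod.ext h.zy h'.zy, Prod.ext h.bys h'.bys,
      Prod.ext h.uy h'.uy, Prod.ext h.uz h'.uz, Prod.ext h.ub h'.ub⟩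
  obtain ⟨W, hW⟩ : ∃ W, W = Subgroup.closure ({(z, z'), (b, b'), (y, y'), (u, u')} : Set (G × H)) :=
    ⟨_, rfl⟩
  have hWc : Nat.card W = p ^ 4 := hW ▸ hr.card_closure.2 fun e => h.y_ne (Prod.ext_iff.1 e).1
  exact ⟨(MulEquiv.ofBijective _ (proj_bijective (MonoidHom.fst G H) hW hWc h rfl rfl rfl rfl)).symm.trans
    (MulEquiv.ofBijective _ (proj_bijective (MonoidHom.snd G H) hW hWc h' rfl rfl rfl rfl))⟩

section Model

open Matrix

variable (p)

/-- A translation of `Sp(4, p)`. -/
def tl (A : Matrix (Fin 2) (Fin 2) (ZMod p)) : Matrix (Fin 2 ⊕ Fin 2) (Fin 2 ⊕ Fin 2) (ZMod p) :=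
  Matrix.fromBlocks 1 A 0 1

/-- The Levi element. -/
def lv : Matrix (Fin 2 ⊕ Fin 2) (Fin 2 ⊕ Fin 2) (ZMod p) :=
  Matrix.fromBlocks !![1, 1; 0, 1] 0 0 !![1, 0; -1, 1]

variable {p}

theorem tl_mem {A : Matrix (Fin 2) (Fin 2) (ZMod p)} (hA : Aᵀ = A) :
    tl p A ∈ Matrix.symplecticGroup (Fin 2) (ZMod p) := by
  rw [SymplecticGroup.mem_iff, tl, Matrix.J, Matrix.fromBlocks_transpose, Matrix.fromBlocks_multiply,
    Matrix.fromBlocks_multiply]
  simp [hA]

theorem lv_mem : lv p ∈ Matrix.symplecticGroup (Fin 2) (ZMod p) := by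
  rw [SymplecticGroup.mem_iff, lv, Matrix.J, Matrix.fromBlocks_transpose, Matrix.fromBlocks_multiply,
    Matrix.fromBlocks_multiply]
  simp only [Matrix.zero_mul, Matrix.mul_zero, Matrix.transpose_zero, zero_add, add_zero,
    Matrix.mul_neg, Matrix.neg_mul, Matrix.mul_one]
  congr 1 <;> ext i j <;> fin_cases i <;> fin_cases j <;> simp [Matrix.mul_apply, Matrix.vecMul, dotProduct, Fin.sum_univ_two]

theorem tl_mul (A B : Matrix (Fin 2) (Fin 2) (ZMod p)) : tl p A * tl p B = tl p (A + B) := by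
  simp [tl, Matrix.fromBlocks_multiply, add_comm]

theorem tl_pow (A : Matrix (Fin 2) (Fin 2) (ZMod p)) (n : ℕ) : tl p A ^ n = tl p (n • A) := by
  induction n with
  | zero => simp [tl, Matrix.fromBlocks_one]
  | succ n ih => rw [pow_succ, ih, tl_mul, succ_nsmul]

theorem lv_pow (n : ℕ) :
    lv p ^ n = Matrix.fromBlocks !![1, (n : ZMod p); 0, 1] 0 0 !![1, 0; -(n : ZMod p), 1] := by
  induction n with
  | zero =>
    rw [pow_zero, ← Matrix.fromBlocks_one]
    congr 1 <;> ext i j <;> fin_cases i <;> fin_cases j <;> simp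
  | succ n ih =>
    rw [pow_succ, ih, lv, Matrix.fromBlocks_multiply]
    simp only [Matrix.zero_mul, Matrix.mul_zero, zero_add, add_zero]
    congr 1 <;> ext i j <;> fin_cases i <;> fin_cases j <;> simp [Matrix.mul_apply, Matrix.vecMul, dotProduct, Fin.sum_univ_two] <;> ring

theorem lv_conj (A B : Matrix (Fin 2) (Fin 2) (ZMod p))
    (h : !![1, 1; 0, 1] * A = B * !![1, 0; -1, 1]) : lv p * tl p A = tl p B * lv p := by
  simp [lv, tl, Matrix.fromBlocks_multiply, h]

/-- `Sp(4, p)` has a Sylow `p`-subgroup with these generators. -/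
theorem exists_sylow_shape (hp2 : p ≠ 2) :
    ∃ (P : Sylow p ↥(Matrix.symplecticGroup (Fin 2) (ZMod p)))
      (z b y u : ↥(P : Subgroup ↥(Matrix.symplecticGroup (Fin 2) (ZMod p)))),
      Shape p z b y u := by
  classical
  have hp' := hp.out
  haveI : NeZero p := ⟨hp'.ne_zero⟩
  obtain ⟨z, hz⟩ : ∃ z : Matrix.symplecticGroup (Fin 2) (ZMod p),
      z = ⟨tl p !![0, 0; 0, 1], tl_mem (by ext i j; fin_cases i <;> fin_cases j <;> simp)⟩ := ⟨_, rfl⟩
  obtain ⟨b, hb⟩ : ∃ b : Matrix.symplecticGroup (Fin 2) (ZMod p),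
      b = ⟨tl p !![1, 1; 1, 0], tl_mem (by ext i j; fin_cases i <;> fin_cases j <;> simp)⟩ := ⟨_, rfl⟩
  obtain ⟨y, hy⟩ : ∃ y : Matrix.symplecticGroup (Fin 2) (ZMod p),
      y = ⟨tl p !![2, 0; 0, 0], tl_mem (by ext i j; fin_cases i <;> fin_cases j <;> simp)⟩ := ⟨_, rfl⟩
  obtain ⟨u, hu⟩ : ∃ u : Matrix.symplecticGroup (Fin 2) (ZMod p), u = ⟨lv p, lv_mem⟩ := ⟨_, rfl⟩
  have hp0 : ∀ A : Matrix (Fin 2) (Fin 2) (ZMod p), tl p A ^ p = 1 := fun A => by
    rw [tl_pow, show p • A = 0 by ext i j; simp, tl, Matrix.fromBlocks_one]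
  have htc : ∀ (A B : Matrix (Fin 2) (Fin 2) (ZMod p)), tl p A * tl p B = tl p B * tl p A :=
    fun A B => by rw [tl_mul, tl_mul, add_comm]
  have hr : Rel p z b y u := by
    subst hz hb hy hu
    refine ⟨Subtype.ext (hp0 _), Subtype.ext (hp0 _), Subtype.ext (hp0 _), Subtype.ext ?_,
      Subtype.ext (htc _ _), Subtype.ext (htc _ _), Subtype.ext (htc _ _), Subtype.ext ?_, ?_, ?_⟩
    · show lv p ^ p = 1
      rw [lv_pow, ZMod.natCast_self, ← Matrix.fromBlocks_one]
      congr 1 <;> ext i j <;> fin_cases i <;> fin_cases j <;> simp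
    · exact lv_conj _ _ (by ext i j; fin_cases i <;> fin_cases j <;> simp [Matrix.mul_apply, Matrix.vecMul, dotProduct, Fin.sum_univ_two])
    all_goals
      rw [mul_inv_eq_iff_eq_mul]
      refine Subtype.ext ?_
      show lv p * tl p _ = tl p _ * tl p _ * lv p
      rw [tl_mul]
      exact lv_conj _ _
        (by ext i j; fin_cases i <;> fin_cases j <;> simp [Matrix.mul_apply, Matrix.vecMul, dotProduct, Fin.sum_univ_two] <;> norm_num)
  have hy1 : y ≠ 1 := by
    intro e
    have h2 : (2 : ZMod p) = 0 := by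
      have := congrFun (congrFun (congrArg Subtype.val e) (Sum.inl 0)) (Sum.inr 0)
      rw [hy] at this
      simpa [tl] using this
    have h3 : p ∣ 2 := (ZMod.natCast_eq_zero_iff 2 p).1 (by exact_mod_cast h2)
    exact hp2 ((Nat.prime_dvd_prime_iff_eq hp' Nat.prime_two).1 h3)
  obtain ⟨P₀, hP₀⟩ : ∃ P₀, P₀ = Subgroup.closure
      ({z, b, y, u} : Set (Matrix.symplecticGroup (Fin 2) (ZMod p))) := ⟨_, rfl⟩
  have hc : Nat.card P₀ = p ^ 4 := hP₀ ▸ hr.card_closure.2 hy1
  have hidx : ¬ p ∣ P₀.index := by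
    have h := P₀.card_mul_index
    rw [hc, Classical.Symp.card_symplecticGroup, ZMod.card] at h
    have h' := Nat.eq_of_mul_eq_mul_left (pow_pos hp'.pos 4) h
    rw [h', Finset.prod_range_succ, Finset.prod_range_succ, Finset.prod_range_zero, one_mul]
    have key : ∀ k : ℕ, k ≠ 0 → ¬ p ∣ p ^ k - 1 := fun k hk hd => by
      have h1 := Nat.dvd_sub (dvd_pow_self p hk) hd
      rw [Nat.sub_sub_self (Nat.one_le_pow _ _ hp'.pos)] at h1
      exact hp'.one_lt.ne' (Nat.dvd_one.1 h1)
    intro hdvd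
    rcases hp'.dvd_mul.1 hdvd with hd | hd
    · exact key _ (by norm_num) hd
    · exact key _ (by norm_num) hd
  have hm : ∀ x ∈ ({z, b, y, u} : Set (Matrix.symplecticGroup (Fin 2) (ZMod p))), x ∈ P₀ :=
    fun x hx => hP₀ ▸ Subgroup.subset_closure hx
  refine ⟨(IsPGroup.of_card hc).toSylow hidx, ⟨z, hm z (by simp)⟩, ⟨b, hm b (by simp)⟩,
    ⟨y, hm y (by simp)⟩, ⟨u, hm u (by simp)⟩, ?_⟩
  exact
    { z_pow := Subtype.ext hr.z_pow
      b_pow := Subtype.ext hr.b_pow
      y_pow := Subtype.ext hr.y_pow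
      u_pow := Subtype.ext hr.u_pow
      zb := Subtype.ext hr.zb
      zy := Subtype.ext hr.zy
      bys := Subtype.ext hr.bys
      uy := Subtype.ext hr.uy
      uz := Subtype.ext hr.uz
      ub := Subtype.ext hr.ub
      y_ne := fun e => hy1 (congrArg Subtype.val e)
      card := hc }

end Model

end CfsgLib.Fusion.NormalEssential
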