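import Cfsg.Agent.Lib.Fusion.NormalEssential.CaseElementary
import Cfsg.Agent.Lib.Fusion.NormalEssential.SpFour

/-!
# Core-free systems whose essential subgroups are all normal

If every essential subgroup is normal and the sectional rank is three, the order is `p⁴` and the class
is maximal.
-/

set_option autoImplicit false

namespace CfsgLib.Fusion.NormalEssential

open Cfsg Cfsg.FusionSystem CfsgLib CfsgLib.Fusion CfsgLib.Fusion.RankThree

variable {p : ℕ} [hp : Fact p.Prime] {Ω : Type*} [Group Ω] {S : Subgroup Ω} [Finite S]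
  {F : FusionSystem S}

omit hp in
theorem ne_bot_of_sectional [Fact p.Prime] (h2 : ¬ SectionalPRankLE p 2 ↥S) : S ≠ ⊥ := by
  intro h
  refine h2 fun H N _ A _ => ?_
  haveI : Subsingleton S := by rw [h]; infer_instance
  haveI : Subsingleton (H ⧸ N) := (QuotientGroup.mk'_surjective N).subsingleton
  have hA : Nat.card A = 1 := Nat.card_unique
  intro _
  rw [hA]
  exact Nat.one_le_pow _ _ (Fact.out : p.Prime).pos

/-- All `Ω₁Z` inside all essential subgroups is impossible. -/
theorem false_of_inside {ℰ : Subgroup Ω → Prop} (hS : IsPGroup p S) (hp2 : p ≠ 2) (hsr : SecLE p S)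
    (hlt : p ^ 3 < Nat.card S) (hF : F.IsSaturated p) (hI : Inside p F ℰ) : False := by
  have hp' := hp.out
  have hne : S ≠ ⊥ := fun h => by
    rw [h, Subgroup.card_bot] at hlt
    exact (Nat.one_le_pow _ _ hp'.pos).not_gt hlt
  obtain ⟨E, hE', hm⟩ := exists_moved hS hI.toFamily hne
  have hE := hI.ess E hE'
  have hd := hI.step E hE'
  obtain ⟨z, hz, hzY⟩ := hm.exists_mem hE
  have hle : omegaCenter p S ≤ omegaCenter p E := omegaS_le hE
  have hZS : omegaCenter p E ≤ S := omegaCenter_le.trans hd.le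
  have := finite_le hZS
  have := finite_le (hle.trans hZS)
  have hcard := card_le_of_elementary hsr hZS (fun a ha b hb => omega_comm a ha b hb)
    (fun a ha => ha.2.1)
  obtain ⟨j, hj⟩ := (hS.to_le hZS).exists_card_eq
  obtain ⟨i, hi⟩ := (hS.to_le (hle.trans hZS)).exists_card_eq
  have hlt0 : Nat.card (omegaCenter p S) < Nat.card (omegaCenter p E) :=
    lt_of_le_of_ne (Subgroup.card_le_of_le hle) fun h =>
      hzY ((Subgroup.eq_of_le_of_card_ge hle h.ge).symm ▸ hz)
  obtain ⟨t, -, ht, ht1⟩ := exists_mem_omegaS hS le_rfl Subgroup.le_normalizer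
    hne
  have hi0 : i ≠ 0 := fun h => ht1 (Subgroup.mem_bot.1 (by
    rw [← Subgroup.eq_bot_of_card_eq (omegaCenter p S) (by rw [hi, h, pow_zero])]; exact ht))
  rw [hi, hj] at hlt0
  rw [hj] at hcard
  have h1 := (Nat.pow_lt_pow_iff_right hp'.one_lt).1 hlt0
  have h3 := (Nat.pow_le_pow_iff_right hp'.one_lt).1 hcard
  by_cases hj3 : j = 3
  · exact false_of_cube hS hp2 hsr hF hI hE' hm (by rw [hj, hj3])
  · obtain ⟨Z, Y, z, hq⟩ := exists_square hS hd hE hm (by rw [hj, show j = 2 by omega])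
    exact false_of_square hS hp2 hsr hlt hF hI hE' hm hq

/-- With all essential subgroups normal, some `Ω₁Z` leaves an essential subgroup. -/
theorem exists_center_notMem (hS : IsPGroup p S) (hp2 : p ≠ 2) (hsr : SecLE p S)
    (h2 : ¬ SectionalPRankLE p 2 ↥S) (hF : F.IsSaturated p) (hO : F.core = ⊥)
    (hn : ∀ P : Subgroup Ω, F.IsEssential p P → S ≤ Subgroup.normalizer (P : Set Ω)) :
    ∃ P Q : Subgroup Ω, F.IsEssential p P ∧ Step p S Q ∧ ∃ z ∈ omegaCenter p Q, z ∉ P := by
  by_contra h
  push Not at h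
  obtain ⟨E, hE, -⟩ := exists_moved hS (family_of_core hS hF hO) (ne_bot_of_sectional h2)
  exact false_of_inside hS hp2 hsr (lt_card hS hF h2 hE) hF
    (inside_of_all (family_of_core hS hF hO) (fun P hP => step hS hsr hF hP (hn P hP))
      fun P hP Q hQ z hz => h P Q hP hQ z hz)

/-- The isomorphism type in that case. -/
theorem exists_sylow_of_shape (hp2 : p ≠ 2) (h : ∃ z b y u : S, Shape p z b y u) :
    ∃ P : Sylow p ↥(Matrix.symplecticGroup (Fin 2) (ZMod p)),
      Nonempty (↥S ≃* ↥(P : Subgroup ↥(Matrix.symplecticGroup (Fin 2) (ZMod p)))) := by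
  obtain ⟨z, b, y, u, h⟩ := h
  haveI : NeZero p := ⟨hp.out.ne_zero⟩
  obtain ⟨P, z', b', y', u', h'⟩ := exists_sylow_shape (p := p) hp2
  exact ⟨P, nonempty_mulEquiv_of_shape h h'⟩

end CfsgLib.Fusion.NormalEssential
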