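import Cfsg.Agent.Lib.Fusion.NormalEssential.CaseCube

/-!
# `|Ω₁Z(E)| = p²`: basic facts

Then `Ω₁Z(S)` has order `p`, the chain below `Ω₁Z(E)` is centralized by `S`, and the automizer of `E`
acts irreducibly on `Ω₁Z(E)` among subgroups normal in `S`.
-/

set_option autoImplicit false

namespace CfsgLib.Fusion.NormalEssential

open Cfsg Cfsg.FusionSystem CfsgLib CfsgLib.Fusion CfsgLib.Fusion.RankThree CfsgLib.Fusion.TransvAut

variable {p : ℕ} [hp : Fact p.Prime] {Ω : Type*} [Group Ω] {S : Subgroup Ω} [Finite S]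
  {F : FusionSystem S} {E₂ : Subgroup Ω}

/-- `S` centralizes normal sections of order `p`. -/
theorem central_step (hS : IsPGroup p S) {N A : Subgroup Ω} (hNA : N ≤ A) (hAS : A ≤ S)
    (hNn : S ≤ Subgroup.normalizer (N : Set Ω)) (hAn : S ≤ Subgroup.normalizer (A : Set Ω))
    (hc : Nat.card A = p * Nat.card N) {g a : Ω} (hg : g ∈ S) (ha : a ∈ A) :
    g * a * g⁻¹ * a⁻¹ ∈ N := by
  haveI : (N.subgroupOf S).Normal :=
    (Subgroup.normal_subgroupOf_iff_le_normalizer (hNA.trans hAS)).2 hNn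
  obtain ⟨k, hk⟩ := hS (⟨g, hg⟩ : S)
  have h := fix_section (p := p) (D := N.subgroupOf S) (T := A.subgroupOf S)
    (fun x hx => hNA hx)
    (by rw [Nat.card_congr (Subgroup.subgroupOfEquivOfLe hAS).toEquiv,
      Nat.card_congr (Subgroup.subgroupOfEquivOfLe (hNA.trans hAS)).toEquiv, hc])
    (σ := MulAut.conj (⟨g, hg⟩ : S)) (fun e he => conj_mem_E hAn hg he)
    (fun e he => conj_mem_E hNn hg he) (k := k) (by rw [← map_pow, hk, map_one])
    (e := ⟨a, hAS ha⟩) (Subgroup.mem_subgroupOf.2 ha)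
  have h' : a⁻¹ * (g * a * g⁻¹) ∈ N := h
  have h2 := conj_mem_E hNn (hAS ha) h'
  rwa [mul_inv_cancel_left] at h2

omit hp in
/-- A subgroup not inside a normal subgroup of index `p` meets it in index `p`. -/
theorem Step.card_inf [Fact p.Prime] {E P : Subgroup Ω} (hd : Step p S E) (hPS : P ≤ S) {x : Ω}
    (hx : x ∈ P) (hxE : x ∉ E) : Nat.card P = p * Nat.card (P ⊓ E : Subgroup Ω) := by
  haveI hN : (E.subgroupOf S).Normal :=
    (Subgroup.normal_subgroupOf_iff_le_normalizer hd.le).2 hd.norm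
  have hc : Nat.card (S ⧸ E.subgroupOf S) = p := by
    have h := (E.subgroupOf S).card_mul_index
    rw [Nat.card_congr (Subgroup.subgroupOfEquivOfLe hd.le).toEquiv, hd.card, mul_comm p] at h
    have := finite_le hd.le
    exact Nat.eq_of_mul_eq_mul_left Nat.card_pos h
  let f : P →* S ⧸ E.subgroupOf S :=
    (QuotientGroup.mk' (E.subgroupOf S)).comp (Subgroup.inclusion hPS)
  have hk : f.ker = E.subgroupOf P := by
    ext w
    rw [MonoidHom.mem_ker, Subgroup.mem_subgroupOf]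
    exact (QuotientGroup.eq_one_iff _).trans Subgroup.mem_subgroupOf
  have := finite_le hPS
  have hr : Nat.card f.range = p := by
    rcases (Nat.dvd_prime (Fact.out : p.Prime)).1 (hc ▸ Subgroup.card_subgroup_dvd_card f.range)
      with h | h
    · exfalso
      have h2 : f ⟨x, hx⟩ ∈ f.range := ⟨_, rfl⟩
      rw [Subgroup.eq_bot_of_card_eq _ h, Subgroup.mem_bot, ← MonoidHom.mem_ker, hk,
        Subgroup.mem_subgroupOf] at h2
      exact hxE h2
    · exact h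
  rw [f.ker.card_eq_card_quotient_mul_card_subgroup,
    Nat.card_congr (QuotientGroup.quotientKerEquivRange f).toEquiv, hr, hk,
    ← Subgroup.inf_subgroupOf_right E P, inf_comm,
    Nat.card_congr (Subgroup.subgroupOfEquivOfLe inf_le_left).toEquiv]

/-- The facts used when `|Ω₁Z(E₂)| = p²`. -/
structure Square (p : ℕ) (S E₂ Z Y : Subgroup Ω) (z : Ω) : Prop where
  Z_eq : Z = omegaCenter p E₂
  Y_eq : Y = omegaCenter p S
  le : Y ≤ Z
  cardZ : Nat.card Z = p ^ 2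
  cardY : Nat.card Y = p
  mem : z ∈ Z
  not_mem : z ∉ Y
  split : ∀ v ∈ Z, ∃ y ∈ Y, ∃ i : ℕ, v = y * z ^ i
  central : ∀ g ∈ S, ∀ a ∈ Z, g * a * g⁻¹ * a⁻¹ ∈ Y

theorem exists_square (hS : IsPGroup p S) (hd : Step p S E₂) (hE : F.IsEssential p E₂)
    (hm : Moved p F E₂) (hZ : Nat.card (omegaCenter p E₂) = p ^ 2) :
    ∃ Z Y z, Square p S E₂ Z Y z := by
  have hp' := hp.out
  obtain ⟨z, hz, hzY⟩ := hm.exists_mem hE
  obtain ⟨Z, hZdef⟩ : ∃ Z, Z = omegaCenter p E₂ := ⟨_, rfl⟩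
  obtain ⟨Y, hYdef⟩ : ∃ Y, Y = omegaCenter p S := ⟨_, rfl⟩
  have hle : Y ≤ Z := hZdef ▸ hYdef ▸ omegaS_le hE
  have hZS : Z ≤ S := hZdef ▸ omegaCenter_le.trans hd.le
  rw [← hZdef] at hz hZ
  rw [← hYdef] at hzY
  have := finite_le hZS
  have := finite_le (hle.trans hZS)
  have hYc : Nat.card Y = p := by
    obtain ⟨j, hj, hjc⟩ := (Nat.dvd_prime_pow hp').1 (hZ ▸ Subgroup.card_dvd_of_le hle)
    have h2 : j ≠ 2 := fun h => hzY
      ((Subgroup.eq_of_le_of_card_ge hle (by rw [hjc, h, hZ])).symm ▸ hz)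
    have h0 : j ≠ 0 := fun h => by
      obtain ⟨t, -, ht, ht1⟩ := exists_mem_omegaS hS le_rfl Subgroup.le_normalizer
        (fun e : S = ⊥ => by
          have hz1 : z = 1 := Subgroup.mem_bot.1 (e ▸ hZS hz)
          exact hzY (hz1 ▸ one_mem Y))
      rw [h, pow_zero] at hjc
      refine ht1 (Subgroup.mem_bot.1 ?_)
      rw [← Subgroup.eq_bot_of_card_eq Y hjc, hYdef]
      exact ht
    rw [hjc, show j = 1 by omega, pow_one]
  have hzc : ∀ c ∈ Y, c * z = z * c := fun c hc =>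
    ((hYdef ▸ hc : c ∈ omegaCenter p S)).2.2 z (hZS hz)
  have hzp : z ^ p = 1 := (hZdef ▸ hz : z ∈ omegaCenter p E₂).2.1
  obtain ⟨hc, hdec⟩ := card_sup_zpowers_of_pow_mem hzc (by rw [hzp]; exact one_mem Y) hzY
  have he : Y ⊔ Subgroup.zpowers z = Z :=
    Subgroup.eq_of_le_of_card_ge (sup_le hle (Subgroup.zpowers_le.2 hz))
      (by rw [hc, hYc, hZ, pow_two])
  refine ⟨Z, Y, z, hZdef, hYdef, hle, hZ, hYc, hz, hzY, fun v hv => hdec v (he.symm ▸ hv), ?_⟩
  intro g hg a ha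
  refine central_step hS hle hZS (fun s hs => ?_) (fun s hs => ?_) (by rw [hZ, hYc, pow_two]) hg ha
  · refine Subgroup.mem_normalizer_iff.2 fun w => ⟨fun hw => ?_, fun hw => ?_⟩
    · rw [← (hYdef ▸ hw : w ∈ omegaCenter p S).2.2 s hs, mul_inv_cancel_right]; exact hw
    · have h := (hYdef ▸ hw : s * w * s⁻¹ ∈ omegaCenter p S).2.2 s hs
      rw [inv_mul_cancel_right] at h
      have h' : w = s * w * s⁻¹ := mul_left_cancel h
      rw [h']; exact hw
  · refine Subgroup.mem_normalizer_iff.2 fun w => ⟨fun hw => ?_, fun hw => ?_⟩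
    · exact hZdef ▸ omegaCenter_conj hd.norm hs (hZdef ▸ hw)
    · have h := omegaCenter_conj hd.norm (inv_mem hs) (hZdef ▸ hw : s * w * s⁻¹ ∈ omegaCenter p E₂)
      rw [inv_inv, show s⁻¹ * (s * w * s⁻¹) * s = w by group] at h
      exact hZdef ▸ h

variable {Z Y : Subgroup Ω} {z : Ω}

omit hp [Finite S] in
theorem Square.comm (h : Square p S E₂ Z Y z) {y : Ω} (hy : y ∈ Y) {g : Ω} (hg : g ∈ S) :
    y * g = g * y := (h.Y_eq ▸ hy : y ∈ omegaCenter p S).2.2 g hg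

omit hp [Finite S] in
theorem Square.omega (h : Square p S E₂ Z Y z) {a : Ω} (ha : a ∈ Z) : a ∈ omegaCenter p E₂ :=
  h.Z_eq ▸ ha

theorem Square.gen (h : Square p S E₂ Z Y z) {t : Ω} (ht : t ∈ Y) (ht1 : t ≠ 1) {y : Ω}
    (hy : y ∈ Y) : ∃ i : ℤ, y = t ^ i := by
  obtain ⟨i, hi⟩ := Subgroup.mem_zpowers_iff.1 (mem_zpowers_of_prime_card (g := (⟨t, ht⟩ : Y))
    (g' := (⟨y, hy⟩ : Y)) h.cardY (fun e => ht1 (congrArg Subtype.val e)))
  exact ⟨i, by simpa using (congrArg Subtype.val hi).symm⟩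

/-- A nontrivial subgroup of `Ω₁Z(E₂)` normal in `S` and invariant in `Aut_F(E₂)` is everything. -/
theorem Square.irreducible (h : Square p S E₂ Z Y z) (hS : IsPGroup p S) (hd : Step p S E₂)
    (hm : Moved p F E₂) {K : Subgroup Ω} (hKZ : K ≤ Z) (hKn : S ≤ Subgroup.normalizer (K : Set Ω))
    (hK : ∀ α ∈ F.autGroup E₂, ∀ x : E₂, (x : Ω) ∈ K → (((α : MulAut E₂) x : E₂) : Ω) ∈ K)
    (hne : K ≠ ⊥) : K = Z := by
  have hZS : Z ≤ S := h.Z_eq ▸ omegaCenter_le.trans hd.le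
  obtain ⟨t, htK, ht, ht1⟩ := exists_mem_omegaS hS (hKZ.trans hZS) hKn hne
  rw [← h.Y_eq] at ht
  have hYK : Y ≤ K := fun y hy => by
    obtain ⟨i, rfl⟩ := h.gen ht ht1 hy
    exact zpow_mem htK i
  refine le_antisymm hKZ fun v hv => ?_
  obtain ⟨α, hα, x, hx, hαx⟩ := hm
  rw [← h.Y_eq] at hx hαx
  obtain ⟨y, hy, i, hyi⟩ := h.split _ (hKZ (hK α hα x (hYK hx)))
  have hzi : z ^ i ∈ K := by
    have h2 := mul_mem (inv_mem (hYK hy)) (hK α hα x (hYK hx))
    rwa [hyi, inv_mul_cancel_left] at h2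
  have hzK : z ∈ K := by
    by_contra hzK
    have hzp : z ^ p = 1 := (h.omega h.mem).2.1
    obtain ⟨k, hk⟩ := dvd_of_zpow_mem hzp hzK (a := (i : ℤ)) (by rwa [zpow_natCast])
    refine hαx ?_
    rw [hyi, ← zpow_natCast, hk, zpow_mul, zpow_natCast, hzp, one_zpow, mul_one]
    exact hy
  obtain ⟨y', hy', j, rfl⟩ := h.split v hv
  exact mul_mem (hYK hy') (pow_mem hzK j)

end CfsgLib.Fusion.NormalEssential
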