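import Cfsg.Agent.Lib.Fusion.NormalEssential.ElementaryPairs
import Cfsg.Agent.Lib.Fusion.NormalEssential.SquareTools

/-!
# The span of two elements of order `p` over `Ω₁Z(E)`

The statements of `ElementaryPairs` read in the ambient group.
-/

set_option autoImplicit false

namespace CfsgLib.Fusion.NormalEssential

open Cfsg Cfsg.FusionSystem CfsgLib CfsgLib.Fusion CfsgLib.Fusion.RankThree
open scoped commutatorElement

variable {p : ℕ} [hp : Fact p.Prime] {Ω : Type*} [Group Ω] {S : Subgroup Ω}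
  {E₂ : Subgroup Ω} {Z Y : Subgroup Ω} {z : Ω}

/-- The elements `ζ a^i b^j`, for `a`, `b` commuting into the centralized subgroup `Z`. -/
def spanTwo (Z : Subgroup Ω) (a b : Ω) (ha : ∀ ζ ∈ Z, Commute ζ a) (hb : ∀ ζ ∈ Z, Commute ζ b)
    (hab : ∀ i j : ℤ, ⁅b ^ j, a ^ i⁆ ∈ Z) : Subgroup Ω where
  carrier := {v | ∃ ζ ∈ Z, ∃ i j : ℤ, v = ζ * (a ^ i * b ^ j)}
  one_mem' := ⟨1, one_mem Z, 0, 0, by simp⟩
  mul_mem' := by
    rintro _ _ ⟨ζ, hζ, i, j, rfl⟩ ⟨ζ', hζ', i', j', rfl⟩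
    have hc : ∀ {c : Ω}, c ∈ Z → ∀ m n : ℤ, Commute (a ^ m * b ^ n) c := fun hc m n =>
      ((ha _ hc).symm.zpow_left m).mul_left ((hb _ hc).symm.zpow_left n)
    obtain ⟨y, hy, hyd⟩ : ∃ y ∈ Z, b ^ j * a ^ i' = y * (a ^ i' * b ^ j) :=
      ⟨_, hab i' j, by rw [commutatorElement_def]; group⟩
    refine ⟨ζ * (ζ' * y), mul_mem hζ (mul_mem hζ' hy), i + i', j + j', ?_⟩
    obtain ⟨A, hA⟩ : ∃ A, A = a ^ i * b ^ j := ⟨_, rfl⟩
    rw [← hA, mul_assoc ζ, ← mul_assoc A, (hA ▸ hc hζ' i j : Commute A ζ').eq, mul_assoc ζ',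
      mul_assoc ζ, mul_assoc ζ']
    refine congrArg (ζ * ·) (congrArg (ζ' * ·) ?_)
    rw [hA, show a ^ i * b ^ j * (a ^ i' * b ^ j') = a ^ i * (b ^ j * a ^ i') * b ^ j' by group, hyd,
      show a ^ i * (y * (a ^ i' * b ^ j)) * b ^ j' = a ^ i * y * (a ^ i' * (b ^ j * b ^ j')) by group,
      ((ha _ hy).symm.zpow_left i).eq, ← zpow_add, mul_assoc, ← mul_assoc (a ^ i), ← zpow_add]
  inv_mem' := by
    rintro _ ⟨ζ, hζ, i, j, rfl⟩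
    have hc : ∀ {c : Ω}, c ∈ Z → ∀ m n : ℤ, Commute (a ^ m * b ^ n) c := fun hc m n =>
      ((ha _ hc).symm.zpow_left m).mul_left ((hb _ hc).symm.zpow_left n)
    obtain ⟨y, hy, hyd⟩ : ∃ y ∈ Z, b ^ (-j) * a ^ (-i) = y * (a ^ (-i) * b ^ (-j)) :=
      ⟨_, hab (-i) (-j), by rw [commutatorElement_def]; group⟩
    refine ⟨ζ⁻¹ * y, mul_mem (inv_mem hζ) hy, -i, -j, ?_⟩
    rw [(hc hζ i j).symm.eq, mul_inv_rev, mul_inv_rev, ← zpow_neg, ← zpow_neg, hyd, mul_assoc]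

omit hp in
theorem Square.central_in (h : Square p S E₂ Z Y z) {ζ e : Ω} (hζ : ζ ∈ Z) (he : e ∈ E₂) :
    Commute ζ e := (h.omega hζ).2.2 e he

variable [Finite S]

omit hp in
theorem Square.centralSquare (h : Square p S E₂ Z Y z) : CentralSquare p (Z.subgroupOf E₂) where
  center := fun ζ hζ => Subgroup.mem_center_iff.2 fun e =>
    Subtype.ext (h.central_in (Subgroup.mem_subgroupOf.1 hζ) e.2).symm.eq
  exp := fun ζ hζ => Subtype.ext (h.omega (Subgroup.mem_subgroupOf.1 hζ)).2.1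
  card := by
    rw [Nat.card_congr (Subgroup.subgroupOfEquivOfLe (h.Z_eq ▸ omegaCenter_le : Z ≤ E₂)).toEquiv, h.cardZ]

omit hp in
theorem Square.br_zpow (h : Square p S E₂ Z Y z) {a b : Ω} (ha : a ∈ E₂) (hb : b ∈ E₂)
    (hab : ⁅a, b⁆ ∈ Z) (i j : ℤ) : ⁅a ^ i, b ^ j⁆ = ⁅a, b⁆ ^ (i * j) := by
  have hc := h.centralSquare
  have h1 : ⁅(⟨a, ha⟩ : E₂), (⟨b, hb⟩ : E₂)⁆ ∈ Z.subgroupOf E₂ := hab
  have h2 : ⁅(⟨a, ha⟩ : E₂) ^ i, (⟨b, hb⟩ : E₂)⁆ = ⁅(⟨a, ha⟩ : E₂), (⟨b, hb⟩ : E₂)⁆ ^ i := hc.br_zpow_left h1 i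
  have h3 := hc.br_zpow_right (u := (⟨a, ha⟩ : E₂) ^ i) (v := ⟨b, hb⟩)
    (by rw [h2]; exact zpow_mem h1 i) j
  rw [h2, ← zpow_mul] at h3
  simpa [commutatorElement_def] using congrArg Subtype.val h3

omit hp in
theorem Square.br_zpow_mem (h : Square p S E₂ Z Y z) {a b : Ω} (ha : a ∈ E₂) (hb : b ∈ E₂)
    (hab : ⁅a, b⁆ ∈ Z) (i j : ℤ) : ⁅b ^ j, a ^ i⁆ ∈ Z := by
  rw [← commutatorElement_inv, h.br_zpow ha hb hab]
  exact inv_mem (zpow_mem hab _)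

omit hp in
/-- Commutators of span elements. -/
theorem Square.br_span (h : Square p S E₂ Z Y z) {a b : Ω} (ha : a ∈ E₂) (hb : b ∈ E₂)
    (hab : ⁅a, b⁆ ∈ Z) {ζ ζ' : Ω} (hζ : ζ ∈ Z) (hζ' : ζ' ∈ Z) (i j i' j' : ℤ) :
    ⁅ζ * (a ^ i * b ^ j), ζ' * (a ^ i' * b ^ j')⁆ = ⁅a, b⁆ ^ (i * j' - j * i') := by
  have hZE : Z ≤ E₂ := h.Z_eq ▸ omegaCenter_le
  have := h.centralSquare.br_pair (u := (⟨a, ha⟩ : E₂)) (v := ⟨b, hb⟩)
    (show ⁅(⟨a, ha⟩ : E₂), (⟨b, hb⟩ : E₂)⁆ ∈ Z.subgroupOf E₂ from hab)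
    (ζ := ⟨ζ, hZE hζ⟩) (ζ' := ⟨ζ', hZE hζ'⟩) hζ hζ' i j i' j'
  simpa [commutatorElement_def] using congrArg Subtype.val this

variable (hsr : SecLE p S) (h : Square p S E₂ Z Y z) (hd : E₂ ≤ S)

include hsr h hd in
/-- Elements of order `p` independent modulo `Z` do not commute. -/
theorem Square.pair_ne {a b : Ω} (ha : a ∈ E₂) (hb : b ∈ E₂) (hap : a ^ p = 1) (hbp : b ^ p = 1)
    (haZ : a ∉ Z) (hbn : ∀ ζ ∈ Z, ∀ i : ℤ, b ≠ ζ * a ^ i) : ⁅a, b⁆ ≠ 1 := by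
  intro e
  have := finite_le hd
  refine pair_false (hsr.of_injective _ (Subgroup.inclusion_injective hd)) h.centralSquare
    (u := (⟨a, ha⟩ : E₂)) (v := ⟨b, hb⟩) (Subtype.ext hap) (Subtype.ext hbp)
    (Subtype.ext (commutatorElement_eq_one_iff_mul_comm.1 e)) haZ fun hm => ?_
  haveI : (Z.subgroupOf E₂).Normal := ⟨fun ζ hζ g => by
    rw [← (h.centralSquare.comm hζ g).eq, mul_inv_cancel_right]
    exact hζ⟩
  obtain ⟨ζ, hζ, t, ht, hζt⟩ := Subgroup.mem_sup_of_normal_left.1 hm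
  obtain ⟨i, rfl⟩ := Subgroup.mem_zpowers_iff.1 ht
  exact hbn ζ hζ i (by simpa using (congrArg Subtype.val hζt).symm)

include hsr h hd in
/-- Every element of order `p` commuting into `Z` with an independent pair lies in its span. -/
theorem Square.span_of_pair (hp2 : p ≠ 2) {a b v : Ω} (ha : a ∈ E₂) (hb : b ∈ E₂) (hv : v ∈ E₂)
    (hap : a ^ p = 1) (hbp : b ^ p = 1) (hvp : v ^ p = 1) (haZ : a ∉ Z)
    (hbn : ∀ ζ ∈ Z, ∀ i : ℤ, b ≠ ζ * a ^ i) (hab : ⁅a, b⁆ ∈ Z) (hav : ⁅a, v⁆ ∈ Z)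
    (hbv : ⁅b, v⁆ ∈ Z) : ∃ ζ ∈ Z, ∃ i j : ℤ, v = ζ * (a ^ i * b ^ j) := by
  by_contra hn
  have := finite_le hd
  refine triple_false (hsr.of_injective _ (Subgroup.inclusion_injective hd)) h.centralSquare hp2
    (u₁ := (⟨a, ha⟩ : E₂)) (u₂ := ⟨b, hb⟩) (u₃ := ⟨v, hv⟩) (Subtype.ext hap) (Subtype.ext hbp)
    (Subtype.ext hvp) hab hav hbv haZ (fun hm => ?_) fun hm => hn ?_
  · haveI : (Z.subgroupOf E₂).Normal := ⟨fun ζ hζ g => by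
      rw [← (h.centralSquare.comm hζ g).eq, mul_inv_cancel_right]
      exact hζ⟩
    obtain ⟨ζ, hζ, t, ht, hζt⟩ := Subgroup.mem_sup_of_normal_left.1 hm
    obtain ⟨i, rfl⟩ := Subgroup.mem_zpowers_iff.1 ht
    exact hbn ζ hζ i (by simpa using (congrArg Subtype.val hζt).symm)
  · let M := spanTwo Z a b (fun ζ hζ => h.central_in hζ ha) (fun ζ hζ => h.central_in hζ hb)
      (fun i j => h.br_zpow_mem ha hb hab i j)
    have hle : Z.subgroupOf E₂ ⊔ Subgroup.zpowers (⟨a, ha⟩ : E₂) ⊔ Subgroup.zpowers ⟨b, hb⟩ ≤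
        M.subgroupOf E₂ :=
      sup_le (sup_le (fun w hw => ⟨(w : Ω), hw, 0, 0, by simp⟩)
        (Subgroup.zpowers_le.2 ⟨1, one_mem Z, 1, 0, by simp⟩))
        (Subgroup.zpowers_le.2 ⟨1, one_mem Z, 0, 1, by simp⟩)
    exact hle hm

end CfsgLib.Fusion.NormalEssential
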